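import Cfsg.Agent.H51.FormAsch.Core
import Cfsg.Agent.H46.ClsRational
import Cfsg.Agent.H46.ClsMinus

/-!
A spanning normal subgroup abelian modulo scalars, in the symplectic case: an extraspecial 2-group of minus
type inside the isometries, or a subfield structure.
-/

set_option autoImplicit false
set_option linter.unusedSectionVars false
set_option linter.style.haveILetI false
set_option maxHeartbeats 1000000

open Cfsg.Geo
open scoped Matrix MatrixGroups

namespace H51

namespace FormAsch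

open H46 (scl scl_mem scl_val exists_scl scl_comm scl_injective scl_mul_val mem_matrixSet glConj_matrixSet
  mem_scalars_of_commute actsAbsolutelyIrreducibly_of_adjoin adjoin_matrixSet_eq_span glConj glConj_apply)

variable {ι : Type} [Fintype ι] [DecidableEq ι] {F : Type*} [Field F] [Fintype F]

/-- Elements of trace zero modulo scalars: representatives of distinct classes are independent. -/
theorem indep_of_trace {N : Subgroup (GL ι F)} (hne : (Fintype.card ι : F) ≠ 0)
    (htr : ∀ x ∈ N, x ∉ scalars ι F → (x : Matrix ι ι F).trace = 0) {B : Type*} [Fintype B] (x : B → GL ι F)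
    (hxN : ∀ i, x i ∈ N) (hx : ∀ i j, i ≠ j → (x i)⁻¹ * x j ∉ scalars ι F) :
    LinearIndependent F fun i => (x i : Matrix ι ι F) := by
  classical
  rw [Fintype.linearIndependent_iff]
  intro c hc i
  have h := congrArg (fun X => (((x i)⁻¹ : GL ι F) : Matrix ι ι F) * X) hc
  simp only [mul_zero, Finset.mul_sum, Matrix.mul_smul] at h
  have h1 := congrArg Matrix.trace h
  rw [Matrix.trace_sum, Matrix.trace_zero, Finset.sum_eq_single i] at h1
  · simp only [← Units.val_mul, inv_mul_cancel, Units.val_one, Matrix.trace_smul, Matrix.trace_one,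
      smul_eq_mul] at h1
    exact (mul_eq_zero.1 h1).resolve_right hne
  · intro j _ hj
    rw [Matrix.trace_smul, ← Units.val_mul, htr _ (mul_mem (inv_mem (hxN i)) (hxN j)) (hx i j (Ne.symm hj)),
      smul_zero]
  · simp

/-- In a finite field of odd order two non-squares multiply to a square. -/
theorem isSquare_mul_of_not (h2 : (2 : F) ≠ 0) {a b : F} (ha0 : a ≠ 0) (hb0 : b ≠ 0) (ha : ¬ IsSquare a)
    (hb : ¬ IsSquare b) : IsSquare (a * b) := by
  classical
  have hc : ringChar F ≠ 2 := fun h => h2 (by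
    have := ringChar.Nat.cast_ringChar (R := F)
    rw [h] at this
    exact_mod_cast this)
  rw [← quadraticChar_one_iff_isSquare (mul_ne_zero ha0 hb0), map_mul,
    quadraticChar_neg_one_iff_not_isSquare.2 ha, quadraticChar_neg_one_iff_not_isSquare.2 hb]
  norm_num

/-- The symplectic-type group of isometries inside a spanning normal subgroup abelian of exponent two modulo
scalars, when every class contains an isometry. -/
theorem sympType_of_span {f : (ι → F) → (ι → F) → F} (hf : IsSymplecticForm f) {G : Subgroup (GL ι F)}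
    (hG : G ≤ similarityGroup f) (hn : 3 ≤ Fintype.card ι) {k : ℕ} (hc : Fintype.card ι = 2 ^ k)
    (h2 : (2 : F) ≠ 0) {N : Subgroup (GL ι F)} (hZN : scalars ι F ≤ N)
    (hnorm : ∀ g ∈ G, ∀ x ∈ N, g * x * g⁻¹ ∈ N) (hspanN : Algebra.adjoin F (matrixSet N) = ⊤)
    (hab : ∀ x ∈ N, ∀ y ∈ N, x * y * x⁻¹ * y⁻¹ ∈ scalars ι F) (hpow : ∀ x ∈ N, x ^ 2 ∈ scalars ι F)
    (htr : ∀ x ∈ N, x ∉ scalars ι F → (x : Matrix ι ι F).trace = 0)
    (hcard : Nat.card (N ⧸ (scalars ι F).subgroupOf N) = Fintype.card ι * Fintype.card ι)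
    (hdecN : ∀ x ∈ N, ∃ y ∈ N, (∀ u v, f ((y : Matrix ι ι F) *ᵥ u) ((y : Matrix ι ι F) *ᵥ v) = f u v) ∧
      y⁻¹ * x ∈ scalars ι F)
    (hnoab : ∀ A : Subgroup (GL ι F), A ≤ N → (∀ g ∈ G, ∀ x ∈ A, g * x * g⁻¹ ∈ A) →
      (∀ x ∈ A, ∀ y ∈ A, x * y = y * x) → A ≤ scalars ι F) :
    ((∃ (p : ℕ) (R : Subgroup (GL ι F)), p.Prime ∧ Odd p ∧ Fintype.card F = p ∧ IsSymplecticTypeGroup 2 R ∧
      ActsAbsolutelyIrreducibly (matrixSet R) ∧
      (∀ x ∈ R, ∀ u v, f ((x : Matrix ι ι F) *ᵥ u) ((x : Matrix ι ι F) *ᵥ v) = f u v) ∧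
      Nat.card R = 2 ^ (1 + 2 * k) ∧ Nat.card (Subgroup.center R) = 2 ∧ IsOfMinusType k R ∧
      (∃ x ∈ R, x * x = 1 ∧ x ∉ scalars ι F) ∧
      G ≤ subgroupNormalizer R) ∨
    ∃ (F₁ : Subfield F) (s : ℕ) (P : GL ι F) (ζ : F), s.Prime ∧ Fintype.card F = Nat.card F₁ ^ s ∧
      ζ ≠ 0 ∧ IsFormRationalStructure f F₁ ζ P ∧ G ≤ subfieldSubgroup F₁ P) := by
  classical
  haveI hne : Nonempty ι := Fintype.card_pos_iff.1 (by omega)
  have hcne : (Fintype.card ι : F) ≠ 0 := by
    rw [hc]; push_cast; exact pow_ne_zero k h2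
  obtain ⟨u₀, hu₀⟩ : ∃ u : ι → F, u ≠ 0 := exists_ne 0
  obtain ⟨w₀, hw₀⟩ := (hf.nondegenerate u₀ hu₀).2
  have hsclf : ∀ (c : Fˣ) (u v : ι → F), f (((scl ι c : GL ι F) : Matrix ι ι F) *ᵥ u)
      (((scl ι c : GL ι F) : Matrix ι ι F) *ᵥ v) = (c : F) * (c : F) * f u v := fun c u v => by
    rw [scl_val, Matrix.smul_mulVec, Matrix.smul_mulVec, Matrix.one_mulVec, Matrix.one_mulVec,
      hf.bilinear.smul_left, hf.bilinear.smul_right, mul_assoc]
  let R : Subgroup (GL ι F) :=
    { carrier := {x | x ∈ N ∧ ∀ u v, f ((x : Matrix ι ι F) *ᵥ u) ((x : Matrix ι ι F) *ᵥ v) = f u v}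
      one_mem' := ⟨one_mem _, fun u v => by simp⟩
      mul_mem' := fun {a b} ha hb => ⟨mul_mem ha.1 hb.1, fun u v => by
        rw [Units.val_mul, ← Matrix.mulVec_mulVec, ← Matrix.mulVec_mulVec, ha.2, hb.2]⟩
      inv_mem' := fun {a} ha => ⟨inv_mem ha.1, fun u v => by
        rw [← ha.2, Matrix.mulVec_mulVec, Matrix.mulVec_mulVec, ← Units.val_mul, mul_inv_cancel,
          Units.val_one, Matrix.one_mulVec, Matrix.one_mulVec]⟩ }
  have hRnorm : ∀ g ∈ G, ∀ x ∈ R, g * x * g⁻¹ ∈ R := by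
    intro g hg x hx
    refine ⟨hnorm g hg x hx.1, fun u v => ?_⟩
    obtain ⟨c, hcg⟩ := hG hg
    obtain ⟨u', rfl⟩ : ∃ u', (g : Matrix ι ι F) *ᵥ u' = u :=
      ⟨((g⁻¹ : GL ι F) : Matrix ι ι F) *ᵥ u, by simp [Matrix.mulVec_mulVec]⟩
    obtain ⟨v', rfl⟩ : ∃ v', (g : Matrix ι ι F) *ᵥ v' = v :=
      ⟨((g⁻¹ : GL ι F) : Matrix ι ι F) *ᵥ v, by simp [Matrix.mulVec_mulVec]⟩
    have he : ∀ z, ((g * x * g⁻¹ : GL ι F) : Matrix ι ι F) *ᵥ ((g : Matrix ι ι F) *ᵥ z) =
        (g : Matrix ι ι F) *ᵥ ((x : Matrix ι ι F) *ᵥ z) := fun z => by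
      rw [Matrix.mulVec_mulVec, Matrix.mulVec_mulVec, ← Units.val_mul, ← Units.val_mul,
        inv_mul_cancel_right]
    rw [he, he, hcg, hcg, hx.2]
  have hsq : ∀ x ∈ R, ∃ c : Fˣ, x ^ 2 = scl ι c ∧ ((c : F) = 1 ∨ (c : F) = -1) := by
    intro x hx
    obtain ⟨c, hxc⟩ := exists_scl (hpow x hx.1)
    refine ⟨c, hxc, sq_eq_one_iff.1 ?_⟩
    have h1 : f (((x ^ 2 : GL ι F) : Matrix ι ι F) *ᵥ u₀) (((x ^ 2 : GL ι F) : Matrix ι ι F) *ᵥ w₀) =
        f u₀ w₀ := by
      rw [sq, Units.val_mul, ← Matrix.mulVec_mulVec, ← Matrix.mulVec_mulVec, hx.2, hx.2]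
    rw [hxc, hsclf] at h1
    rw [sq]
    exact mul_right_cancel₀ hw₀ (by rw [one_mul]; exact h1)
  have hdec : ∀ x ∈ N, ∃ y ∈ R, y⁻¹ * x ∈ scalars ι F := fun x hx => by
    obtain ⟨y, hy, hyi, hyx⟩ := hdecN x hx
    exact ⟨y, ⟨hy, hyi⟩, hyx⟩
  have hRspan : Algebra.adjoin F (matrixSet R) = ⊤ := by
    rw [eq_top_iff, ← hspanN, Algebra.adjoin_le_iff]
    rintro _ ⟨x, hx, rfl⟩
    obtain ⟨y, hy, hyx⟩ := hdec x hx
    obtain ⟨c, hc'⟩ := exists_scl hyx
    rw [inv_mul_eq_iff_eq_mul, (scl_comm c y).symm.eq] at hc'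
    show (x : Matrix ι ι F) ∈ _
    rw [hc', scl_mul_val]
    exact Subalgebra.smul_mem _ (Algebra.subset_adjoin (mem_matrixSet hy)) _
  have hscalR : ∀ x ∈ R, x ∈ scalars ι F → ∃ c : Fˣ, x = scl ι c ∧ ((c : F) = 1 ∨ (c : F) = -1) := by
    intro x hx hxs
    obtain ⟨c, rfl⟩ := exists_scl hxs
    refine ⟨c, rfl, sq_eq_one_iff.1 ?_⟩
    have h1 := hx.2 u₀ w₀
    rw [hsclf] at h1
    rw [sq]
    exact mul_right_cancel₀ hw₀ (by rw [one_mul]; exact h1)
  have hneg : scl ι (-1 : Fˣ) ∈ R := ⟨hZN (scl_mem _), fun u v => by rw [hsclf]; simp⟩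
  have hpm : (1 : Fˣ) ≠ -1 := fun h => h2 (by
    have := congrArg Units.val h
    simp at this
    linear_combination this)
  have hcardK : Nat.card ((scalars ι F).subgroupOf R) = 2 := by
    let ψ : Bool → (scalars ι F).subgroupOf R := fun b =>
      if b then ⟨⟨scl ι (-1), hneg⟩, scl_mem _⟩ else 1
    rw [← Nat.card_eq_of_bijective ψ ⟨?_, ?_⟩]
    · simp
    · have hne1 : scl ι (-1 : Fˣ) ≠ 1 := fun h => hpm.symm (scl_injective (h.trans (map_one _).symm))
      intro a b hab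
      have := congrArg (fun t : (scalars ι F).subgroupOf R => ((t : R) : GL ι F)) hab
      rcases a <;> rcases b <;> simp [ψ] at this ⊢
      · exact hne1 this.symm
      · exact hne1 this
    · rintro ⟨⟨x, hx⟩, hxs⟩
      obtain ⟨c, rfl, h | h⟩ := hscalR x hx hxs
      · refine ⟨false, Subtype.ext (Subtype.ext ?_)⟩
        simp [ψ, show c = 1 from Units.ext (by simpa using h)]
      · refine ⟨true, Subtype.ext (Subtype.ext ?_)⟩
        simp [ψ, show c = -1 from Units.ext (by simpa using h)]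
  let π : R →* N ⧸ (scalars ι F).subgroupOf N :=
    (QuotientGroup.mk' _).comp (Subgroup.inclusion fun x hx => hx.1)
  have hπs : Function.Surjective π := by
    intro q
    induction q using QuotientGroup.induction_on with
    | _ q =>
    obtain ⟨y, hy, hyq⟩ := hdec q q.2
    exact ⟨⟨y, hy⟩, QuotientGroup.eq.2 (Subgroup.mem_subgroupOf.2 hyq)⟩
  have hker : π.ker = (scalars ι F).subgroupOf R := by
    ext x
    rw [MonoidHom.mem_ker]
    exact (QuotientGroup.eq_one_iff _).trans Iff.rfl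
  have hcardR : Nat.card R = 2 ^ (1 + 2 * k) := by
    rw [Subgroup.card_eq_card_quotient_mul_card_subgroup π.ker,
      Nat.card_congr (QuotientGroup.quotientKerEquivOfSurjective π hπs).toEquiv, hker, hcard, hcardK, hc]
    ring
  have hcenter : Subgroup.center R = (scalars ι F).subgroupOf R := by
    ext x
    rw [Subgroup.mem_center_iff, Subgroup.mem_subgroupOf]
    refine ⟨fun h => mem_scalars_of_commute hRspan fun g hg =>
      (congrArg Subtype.val (h ⟨g, hg⟩)).symm, fun h y => Subtype.ext ?_⟩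
    obtain ⟨c, hc'⟩ := exists_scl h
    rw [Subgroup.coe_mul, Subgroup.coe_mul, hc']
    exact (scl_comm c _).eq.symm
  have hfour : ∀ x ∈ R, x ^ 4 = 1 := by
    intro x hx
    obtain ⟨c, hxc, hc'⟩ := hsq x hx
    rw [show 4 = 2 * 2 from rfl, pow_mul, hxc, ← map_pow, show c ^ 2 = 1 from Units.ext (by
      rw [Units.val_pow_eq_pow_val, Units.val_one]; rcases hc' with h | h <;> simp [h]), map_one]
  have hpg : IsPGroup 2 R := fun x => ⟨2, Subtype.ext (by simpa using hfour x x.2)⟩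
  have hcyc : ∀ A : Subgroup R, A.Characteristic → IsMulCommutative A → IsCyclic A := by
    intro A hA hAc
    have hle : A.map R.subtype ≤ scalars ι F := by
      refine hnoab _ ((Subgroup.map_subtype_le A).trans fun x hx => hx.1) ?_ ?_
      · rintro g hg _ ⟨a, ha, rfl⟩
        let cg : R ≃* R :=
          { toFun := fun x => ⟨g * x * g⁻¹, hRnorm g hg x x.2⟩
            invFun := fun x => ⟨g⁻¹ * x * g, by simpa using hRnorm g⁻¹ (inv_mem hg) x x.2⟩
            left_inv := fun x => Subtype.ext (by simp [mul_assoc])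
            right_inv := fun x => Subtype.ext (by simp [mul_assoc])
            map_mul' := fun x x' => Subtype.ext (by simp [mul_assoc]) }
        exact ⟨cg a, (hA.fixed cg).ge ha, rfl⟩
      · rintro _ ⟨a, ha, rfl⟩ _ ⟨c, hc', rfl⟩
        exact congrArg (fun t : A => ((t : R) : GL ι F)) (hAc.is_comm.comm ⟨a, ha⟩ ⟨c, hc'⟩)
    have hAK : A ≤ Subgroup.center R := fun a ha => by
      rw [hcenter, Subgroup.mem_subgroupOf]
      exact hle ⟨a, ha, rfl⟩
    haveI : Fact (Nat.Prime 2) := ⟨Nat.prime_two⟩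
    haveI : IsCyclic (Subgroup.center R) := isCyclic_of_prime_card (p := 2) (by rw [hcenter, hcardK])
    exact isCyclic_of_injective (Subgroup.inclusion hAK) (Subgroup.inclusion_injective hAK)
  have hexp : Monoid.exponent R = 2 * Nat.gcd 2 2 := by
    rw [show 2 * Nat.gcd 2 2 = 2 ^ 2 from rfl]
    refine Nat.dvd_antisymm (Monoid.exponent_dvd_of_forall_pow_eq_one fun x => Subtype.ext
      (by simpa using hfour x x.2)) ?_
    obtain ⟨w, hw, hw2⟩ : ∃ w ∈ R, w ^ 2 ≠ 1 := by
      by_contra hcon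
      simp only [not_exists, not_and, not_not] at hcon
      haveI : Nontrivial ι := Fintype.one_lt_card_iff_nontrivial.1 (by omega)
      refine H46.not_adjoin_top_of_comm ?_ hRspan
      intro x hx y hy
      have e1 := hcon x hx
      have e2 := hcon y hy
      have e3 := hcon _ (mul_mem hx hy)
      rw [sq] at e1 e2 e3
      calc x * y = x * (x * y * (x * y)) * y := by rw [e3, mul_one]
        _ = (x * x) * (y * x) * (y * y) := by simp only [mul_assoc]
        _ = y * x := by rw [e1, e2, one_mul, mul_one]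
    haveI : Fact (Nat.Prime 2) := ⟨Nat.prime_two⟩
    have hord : orderOf (⟨w, hw⟩ : R) = 2 ^ 2 := orderOf_eq_prime_pow
      (fun h => hw2 (by simpa using congrArg Subtype.val h))
      (Subtype.ext (by simpa using hfour w hw))
    rw [← hord]
    exact Monoid.order_dvd_exponent _
  have habs := actsAbsolutelyIrreducibly_of_adjoin hRspan
  have hRns : ¬ R ≤ scalars ι F := fun hle => by
    haveI : Nontrivial ι := Fintype.one_lt_card_iff_nontrivial.1 (by omega)
    refine H46.not_adjoin_top_of_comm (fun x hx y _ => ?_) hRspan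
    obtain ⟨c, rfl⟩ := exists_scl (hle hx)
    exact (scl_comm c y).eq
  -- a non-central involution
  have hinvol : ∃ x ∈ R, x * x = 1 ∧ x ∉ scalars ι F := by
    by_contra hcon
    simp only [not_exists, not_and, not_not] at hcon
    have hsq' : ∀ x ∈ R, x ∉ scalars ι F → x * x = scl ι (-1) := by
      intro x hx hxs
      obtain ⟨c, hxc, hc' | hc'⟩ := hsq x hx
      · exact absurd (hcon x hx (by rw [← sq, hxc, show c = 1 from Units.ext hc', map_one])) hxs
      · rw [← sq, hxc, show c = -1 from Units.ext (by simpa using hc')]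
    obtain ⟨a, ha, has⟩ := SetLike.not_le_iff_exists.1 hRns
    -- an element commuting with `a` lies in the classes of `1` and `a`
    have hC : ∀ z, ∀ hz : z ∈ R, a * z = z * a → π ⟨z, hz⟩ = 1 ∨ π ⟨z, hz⟩ = π ⟨a, ha⟩ := by
      intro z hz hcomm
      by_cases hzs : z ∈ scalars ι F
      · exact Or.inl (MonoidHom.mem_ker.1 (hker ▸ Subgroup.mem_subgroupOf.2 hzs))
      right
      have h1 : (a⁻¹ * z) * (a⁻¹ * z) = 1 := by
        have hc2 : z * a⁻¹ = a⁻¹ * z := (show Commute a z from hcomm).inv_left.eq.symm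
        rw [mul_assoc, ← mul_assoc z, hc2, mul_assoc a⁻¹ z z, ← mul_assoc, hsq' z hz hzs,
          ← mul_inv_rev, hsq' a ha has, inv_mul_cancel]
      have h3 := hcon _ (mul_mem (inv_mem ha) hz) h1
      refine (inv_mul_eq_one.1 (MonoidHom.mem_ker.1 (hker ▸ Subgroup.mem_subgroupOf.2
        (show ((⟨a⁻¹ * z, mul_mem (inv_mem ha) hz⟩ : R) : GL ι F) ∈ scalars ι F from h3)) |>
          fun h => (show (π ⟨a, ha⟩)⁻¹ * π ⟨z, hz⟩ = 1 by rw [← map_inv, ← map_mul]; exact h))).symm
    have hcs : ∀ x ∈ R, a * x = x * a ∨ a * x = scl ι (-1) * (x * a) := by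
      intro x hx
      have h1 : a * x * a⁻¹ * x⁻¹ ∈ R := mul_mem (mul_mem (mul_mem ha hx) (inv_mem ha)) (inv_mem hx)
      obtain ⟨c, hc', h | h⟩ := hscalR _ h1 (hab a ha.1 x hx.1)
      · left
        have : a * x * a⁻¹ * x⁻¹ = 1 := by rw [hc', show c = 1 from Units.ext (by simpa using h), map_one]
        rwa [mul_inv_eq_one, mul_inv_eq_iff_eq_mul] at this
      · right
        rw [show c = -1 from Units.ext (by simpa using h)] at hc'
        rw [← hc']
        group
    obtain ⟨z₀, hz₀, hz₀a⟩ : ∃ z ∈ R, ∀ x ∈ R, a * x ≠ x * a → a * (z * x) = (z * x) * a := by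
      by_cases h : ∃ z ∈ R, a * z ≠ z * a
      · obtain ⟨z, hz, hza⟩ := h
        refine ⟨z, hz, fun x hx hxa => ?_⟩
        rw [← mul_assoc, (hcs z hz).resolve_left hza, mul_assoc, mul_assoc, (hcs x hx).resolve_left hxa,
          ← mul_assoc z, ← (scl_comm (-1 : Fˣ) z).eq, ← mul_assoc, ← mul_assoc, ← mul_assoc, ← map_mul,
          neg_one_mul, neg_neg, map_one, one_mul]
      · simp only [not_exists, not_and, not_not] at h
        exact ⟨1, one_mem R, fun x hx hxa => absurd (h x hx) hxa⟩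
    haveI : Fintype (N ⧸ (scalars ι F).subgroupOf N) := Fintype.ofFinite _
    have hsub : (Finset.univ : Finset (N ⧸ (scalars ι F).subgroupOf N)) ⊆
        {1, π ⟨a, ha⟩, (π ⟨z₀, hz₀⟩)⁻¹, (π ⟨z₀, hz₀⟩)⁻¹ * π ⟨a, ha⟩} := by
      intro q _
      obtain ⟨⟨x, hx⟩, rfl⟩ := hπs q
      simp only [Finset.mem_insert, Finset.mem_singleton]
      by_cases hxa : a * x = x * a
      · rcases hC x hx hxa with h | h
        · exact Or.inl h
        · exact Or.inr (Or.inl h)
      · have hm : π ⟨z₀ * x, mul_mem hz₀ hx⟩ = π ⟨z₀, hz₀⟩ * π ⟨x, hx⟩ := map_mul π ⟨z₀, hz₀⟩ ⟨x, hx⟩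
        rcases hC _ (mul_mem hz₀ hx) (hz₀a x hx hxa) with h | h <;> rw [hm] at h
        · exact Or.inr (Or.inr (Or.inl (eq_inv_of_mul_eq_one_right h)))
        · exact Or.inr (Or.inr (Or.inr (by rw [← h, inv_mul_cancel_left])))
    have h4 := (Finset.card_le_card hsub).trans Finset.card_le_four
    rw [Finset.card_univ, ← Nat.card_eq_fintype_card, hcard] at h4
    nlinarith
  haveI : Fintype (N ⧸ (scalars ι F).subgroupOf N) := Fintype.ofFinite _
  obtain ⟨p, hp⟩ := CharP.exists F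
  haveI := hp
  obtain ⟨e', hpp, hq⟩ := FiniteField.card F p
  haveI : Fact p.Prime := ⟨hpp⟩
  have hp2 : p ≠ 2 := fun h => h2 (by
    have := CharP.cast_eq_zero F p
    rw [h] at this
    exact_mod_cast this)
  have hset : ∀ g ∈ G, ∀ s ∈ matrixSet R, glConj g s ∈ matrixSet R := glConj_matrixSet hRnorm
  by_cases he1 : (e' : ℕ) = 1
  · have hqp : Fintype.card F = p := by rw [hq, he1, pow_one]
    left
    refine ⟨p, R, hpp, hpp.odd_of_ne_two hp2, hqp, ⟨Nat.prime_two, hpg, hcyc, hexp⟩, habs, fun x hx => hx.2,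
      hcardR, by rw [hcenter, hcardK], ?_, hinvol, fun g hg => ?_⟩
    · intro A hAc hA2
      by_contra hbig
      simp only [not_lt] at hbig
      haveI : Fintype A := Fintype.ofFinite A
      let θ : A →* N ⧸ (scalars ι F).subgroupOf N := π.comp A.subtype
      haveI : Fintype θ.range := Fintype.ofFinite _
      have hkerle : Nat.card θ.ker ≤ 2 := by
        rw [← hcardK, ← hker]
        exact Nat.card_le_card_of_injective
          (fun a : θ.ker => (⟨((a : A) : R), a.2⟩ : π.ker))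
          (fun a b h => Subtype.ext (Subtype.ext (congrArg (fun t : π.ker => (t : R)) h)))
      have himg : 2 ^ k ≤ Fintype.card θ.range := by
        have h1 := Subgroup.card_eq_card_quotient_mul_card_subgroup θ.ker
        rw [Nat.card_congr (QuotientGroup.quotientKerEquivRange θ).toEquiv,
          Nat.card_eq_fintype_card (α := θ.range)] at h1
        rw [h1, pow_succ] at hbig
        nlinarith
      choose a ha using fun q : θ.range => q.2
      let x : θ.range → GL ι F := fun q => ((a q : R) : GL ι F)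
      have hli : LinearIndependent F fun q => (x q : Matrix ι ι F) := by
        refine indep_of_trace hcne htr x (fun q => (a q : R).2.1) fun i j hij hs => hij (Subtype.ext ?_)
        rw [← ha i, ← ha j]
        exact QuotientGroup.eq.2 (Subgroup.mem_subgroupOf.2 hs)
      let S : Set (Matrix ι ι F) := Set.range fun b : A => (((b : R) : GL ι F) : Matrix ι ι F)
      have hli' : LinearIndependent F
          (fun q => (⟨_, Algebra.subset_adjoin (s := S) ⟨a q, rfl⟩⟩ : Algebra.adjoin F S)) :=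
        LinearIndependent.of_comp (Algebra.adjoin F S).val.toLinearMap hli
      have hdim := hli'.fintype_card_le_finrank
      have hM : H46.CF (RingEquiv.refl F) (gramMatrix f) := by
        have hfg : f = formOfGram (RingEquiv.refl F : F → F) (gramMatrix f) :=
          H46.eq_formOfGram (RingEquiv.refl F) f hf.bilinear.add_left hf.bilinear.smul_left
            hf.bilinear.add_right (fun c v x => hf.bilinear.smul_right c v x)
        refine ⟨H46.isUnit_gram_of_nondegenerate (RingEquiv.refl F) _ (hfg ▸ hf.nondegenerate), fun _ => rfl,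
          Or.inr ⟨rfl, ?_, fun i => hf.alternating _⟩⟩
        ext i j
        exact hf.skew _ _
      have hfin := H46.two_mul_finrank_le_of_involutions hM hqp hp2 S (by
          rintro _ ⟨b, rfl⟩ _ ⟨b', rfl⟩
          exact congrArg (fun t : A => ((((t : R) : GL ι F)) : Matrix ι ι F)) (hAc.is_comm.comm b b')) (by
          rintro _ ⟨b, rfl⟩
          exact congrArg (fun t : R => ((t : GL ι F) : Matrix ι ι F)) (hA2 b b.2)) (by
          rintro _ ⟨b, rfl⟩
          refine hM.adj_eq fun u v => ?_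
          have hxx : (((b : R) : GL ι F) : Matrix ι ι F) * (((b : R) : GL ι F) : Matrix ι ι F) = 1 :=
            congrArg (fun t : R => ((t : GL ι F) : Matrix ι ι F)) (hA2 b b.2)
          have hfg : f = formOfGram (RingEquiv.refl F : F → F) (gramMatrix f) :=
            H46.eq_formOfGram (RingEquiv.refl F) f hf.bilinear.add_left hf.bilinear.smul_left
              hf.bilinear.add_right (fun c v x => hf.bilinear.smul_right c v x)
          show formOfGram (RingEquiv.refl F : F → F) (gramMatrix f) _ _ =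
            formOfGram (RingEquiv.refl F : F → F) (gramMatrix f) _ _
          rw [← hfg]
          conv_rhs => rw [← (b : R).2.2, Matrix.mulVec_mulVec, hxx, Matrix.one_mulVec])
      rw [hc] at hfin
      have := Nat.two_pow_pos k
      omega
    · rw [subgroupNormalizer, Subgroup.mem_normalizer_iff]
      intro x
      refine ⟨fun hx => hRnorm g hg x hx, fun hx => ?_⟩
      have := hRnorm g⁻¹ (inv_mem hg) _ hx
      simpa [mul_assoc] using this
  right
  have hF₀ : (⊥ : Subfield F) ≠ ⊤ := by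
    intro htop
    apply he1
    haveI : ExpChar F p := ExpChar.prime hpp
    have hle : (⊥ : Subfield F) ≤ (iterateFrobenius F p 1).eqLocusField (RingHom.id F) := bot_le
    rw [htop] at hle
    have := H46.orderOf_frobenius_fixed hq one_pos fun x => hle (Subfield.mem_top x)
    have := e'.pos
    omega
  let rep : N ⧸ (scalars ι F).subgroupOf N → GL ι F := fun q => ((Function.surjInv hπs q : R) : GL ι F)
  have hdim : Module.finrank (⊥ : Subfield F) (Submodule.span (⊥ : Subfield F) (matrixSet R)) ≤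
      Fintype.card ι * Fintype.card ι := by
    have hle : Submodule.span (⊥ : Subfield F) (matrixSet R) ≤
        Submodule.span (⊥ : Subfield F) (Set.range fun q => (rep q : Matrix ι ι F)) := by
      rw [Submodule.span_le]
      rintro _ ⟨x, hx, rfl⟩
      have hq' : (⟨rep (π ⟨x, hx⟩), (Function.surjInv hπs (π ⟨x, hx⟩)).2⟩ : R)⁻¹ * ⟨x, hx⟩ ∈ π.ker := by
        rw [MonoidHom.mem_ker, map_mul, map_inv]
        exact inv_mul_eq_one.2 (Function.surjInv_eq hπs (π ⟨x, hx⟩))
      rw [hker, Subgroup.mem_subgroupOf] at hq'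
      obtain ⟨c, hc', hcpm⟩ := hscalR _ (mul_mem (inv_mem (Function.surjInv hπs (π ⟨x, hx⟩)).2) hx) hq'
      rw [inv_mul_eq_iff_eq_mul, (scl_comm c _).symm.eq] at hc'
      show (x : Matrix ι ι F) ∈ _
      rw [hc', scl_mul_val]
      have hcF : (c : F) ∈ (⊥ : Subfield F) := by
        rcases hcpm with h | h <;> rw [h]
        · exact Subfield.one_mem _
        · exact Subfield.neg_mem _ (Subfield.one_mem _)
      exact Submodule.smul_mem _ (⟨(c : F), hcF⟩ : (⊥ : Subfield F)) (Submodule.subset_span ⟨_, rfl⟩)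
    refine (Submodule.finrank_mono hle).trans
      ((finrank_range_le_card (R := (⊥ : Subfield F)) (fun q => (rep q : Matrix ι ι F))).trans ?_)
    rw [← Nat.card_eq_fintype_card, hcard]
  obtain ⟨F₁, s, P, -, hs, hcF, hrat, -⟩ := H46.subfield_of_span_rational (G := G) (matrixSet R)
    (H46.one_mem_matrixSet R) (by
      rintro _ ⟨a, ha, rfl⟩ _ ⟨b, hb, rfl⟩
      exact ⟨a * b, mul_mem ha hb, Units.val_mul _ _⟩) hRspan hset ⊥ hF₀ hdim
  have hF₁ : F₁ ≠ ⊤ := by
    rintro rfl
    have h3 : Nat.card (⊤ : Subfield F) = Fintype.card F := by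
      rw [Nat.card_congr (Subfield.topEquiv (K := F)).toEquiv, Nat.card_eq_fintype_card]
    rw [h3] at hcF
    exact (Nat.pow_lt_pow_right Fintype.one_lt_card hs.one_lt).ne (by rw [pow_one]; exact hcF)
  refine subfield_with_form (SForm.of_symplectic hf)
    (by rw [← adjoin_matrixSet_eq_span, hRspan, Algebra.top_toSubmodule]) hset
    (by rintro _ ⟨x, hx, rfl⟩ u v; exact hx.2 u v) F₁ hF₁ ⟨P⁻¹, fun t ht i j => ?_⟩
  have := hrat t ht i j
  rw [glConj_apply] at this
  exact this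


/-- The isometries inside a spanning normal subgroup abelian modulo scalars. -/
theorem abelian_symp {f : (ι → F) → (ι → F) → F} (hf : IsSymplecticForm f) {G : Subgroup (GL ι F)}
    (hG : G ≤ similarityGroup f) (hn : 3 ≤ Fintype.card ι) {r k : ℕ} (hd : AbelianData G r k) :
    r = 2 ∧
    ((∃ (p : ℕ) (R : Subgroup (GL ι F)), p.Prime ∧ Odd p ∧ Fintype.card F = p ∧ IsSymplecticTypeGroup 2 R ∧
      ActsAbsolutelyIrreducibly (matrixSet R) ∧
      (∀ x ∈ R, ∀ u v, f ((x : Matrix ι ι F) *ᵥ u) ((x : Matrix ι ι F) *ᵥ v) = f u v) ∧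
      Nat.card R = 2 ^ (1 + 2 * k) ∧ Nat.card (Subgroup.center R) = 2 ∧ IsOfMinusType k R ∧
      (∃ x ∈ R, x * x = 1 ∧ x ∉ scalars ι F) ∧
      G ≤ subgroupNormalizer R) ∨
    ∃ (F₁ : Subfield F) (s : ℕ) (P : GL ι F) (ζ : F), s.Prime ∧ Fintype.card F = Nat.card F₁ ^ s ∧
      ζ ≠ 0 ∧ IsFormRationalStructure f F₁ ζ P ∧ G ≤ subfieldSubgroup F₁ P) := by
  classical
  haveI hne : Nonempty ι := Fintype.card_pos_iff.1 (by omega)
  obtain ⟨hr, hk, hc, hcne, ⟨N, hZN, hNG, hnorm, hspanN, hab, hpow, htr, hcard, hmin⟩, hnoab⟩ := hd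
  have heven : Even (Fintype.card ι) := H46.even_card_of_symplectic hf
  have hr2 : r = 2 := by
    rw [hc, Nat.even_pow] at heven
    exact (hr.eq_two_or_odd').resolve_right fun h => Nat.not_even_iff_odd.2 h heven.1
  subst hr2
  refine ⟨rfl, ?_⟩
  have h2 : (2 : F) ≠ 0 := by
    intro h
    apply hcne
    rw [hc]
    push_cast
    rw [h, zero_pow (by omega)]
  obtain ⟨u₀, hu₀⟩ : ∃ u : ι → F, u ≠ 0 := exists_ne 0
  obtain ⟨w₀, hw₀⟩ := (hf.nondegenerate u₀ hu₀).2
  have hsclf : ∀ (c : Fˣ) (u v : ι → F), f (((scl ι c : GL ι F) : Matrix ι ι F) *ᵥ u)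
      (((scl ι c : GL ι F) : Matrix ι ι F) *ᵥ v) = (c : F) * (c : F) * f u v := fun c u v => by
    rw [scl_val, Matrix.smul_mulVec, Matrix.smul_mulVec, Matrix.one_mulVec, Matrix.one_mulVec,
      hf.bilinear.smul_left, hf.bilinear.smul_right, mul_assoc]
  let R : Subgroup (GL ι F) :=
    { carrier := {x | x ∈ N ∧ ∀ u v, f ((x : Matrix ι ι F) *ᵥ u) ((x : Matrix ι ι F) *ᵥ v) = f u v}
      one_mem' := ⟨one_mem _, fun u v => by simp⟩
      mul_mem' := fun {a b} ha hb => ⟨mul_mem ha.1 hb.1, fun u v => by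
        rw [Units.val_mul, ← Matrix.mulVec_mulVec, ← Matrix.mulVec_mulVec, ha.2, hb.2]⟩
      inv_mem' := fun {a} ha => ⟨inv_mem ha.1, fun u v => by
        rw [← ha.2, Matrix.mulVec_mulVec, Matrix.mulVec_mulVec, ← Units.val_mul, mul_inv_cancel,
          Units.val_one, Matrix.one_mulVec, Matrix.one_mulVec]⟩ }
  have hRnorm : ∀ g ∈ G, ∀ x ∈ R, g * x * g⁻¹ ∈ R := by
    intro g hg x hx
    refine ⟨hnorm g hg x hx.1, fun u v => ?_⟩
    obtain ⟨c, hcg⟩ := hG hg
    obtain ⟨u', rfl⟩ : ∃ u', (g : Matrix ι ι F) *ᵥ u' = u :=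
      ⟨((g⁻¹ : GL ι F) : Matrix ι ι F) *ᵥ u, by simp [Matrix.mulVec_mulVec]⟩
    obtain ⟨v', rfl⟩ : ∃ v', (g : Matrix ι ι F) *ᵥ v' = v :=
      ⟨((g⁻¹ : GL ι F) : Matrix ι ι F) *ᵥ v, by simp [Matrix.mulVec_mulVec]⟩
    have he : ∀ z, ((g * x * g⁻¹ : GL ι F) : Matrix ι ι F) *ᵥ ((g : Matrix ι ι F) *ᵥ z) =
        (g : Matrix ι ι F) *ᵥ ((x : Matrix ι ι F) *ᵥ z) := fun z => by
      rw [Matrix.mulVec_mulVec, Matrix.mulVec_mulVec, ← Units.val_mul, ← Units.val_mul,
        inv_mul_cancel_right]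
    rw [he, he, hcg, hcg, hx.2]
  have hmult : ∀ x ∈ N, ∃ μ : F, μ ≠ 0 ∧
      (∀ u v, f ((x : Matrix ι ι F) *ᵥ u) ((x : Matrix ι ι F) *ᵥ v) = μ * f u v) ∧
      (IsSquare μ → ∃ s : Fˣ, scl ι s * x ∈ R) := by
    intro x hx
    obtain ⟨μ, hμ⟩ := hG (hNG hx)
    refine ⟨μ, μ.ne_zero, hμ, fun ⟨t, ht⟩ => ?_⟩
    have ht0 : t ≠ 0 := fun h => μ.ne_zero (by rw [ht, h, zero_mul])
    refine ⟨(Units.mk0 t ht0)⁻¹, mul_mem (hZN (scl_mem _)) hx, fun u v => ?_⟩
    rw [scl_mul_val, Matrix.smul_mulVec, Matrix.smul_mulVec, hf.bilinear.smul_left, hf.bilinear.smul_right, hμ,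
      Units.val_inv_eq_inv_val, Units.val_mk0, ht]
    field_simp
  have hscl2 : ∀ x ∈ scalars ι F, ∀ y : GL ι F, y ∈ scalars ι F ↔ x * y ∈ scalars ι F := fun x hx y =>
    (Subgroup.mul_mem_cancel_left _ hx).symm
  have hRns : ¬ R ≤ scalars ι F := by
    intro hle
    have hnsq : ∀ x ∈ N, x ∉ scalars ι F → ∀ μ : F,
        (∀ u v, f ((x : Matrix ι ι F) *ᵥ u) ((x : Matrix ι ι F) *ᵥ v) = μ * f u v) → μ ≠ 0 ∧ ¬ IsSquare μ := by
      intro x hx hxs μ hμ
      obtain ⟨μ', h0, hμ', hs⟩ := hmult x hx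
      obtain rfl : μ = μ' := mul_right_cancel₀ hw₀ ((hμ u₀ w₀).symm.trans (hμ' u₀ w₀))
      refine ⟨h0, fun hsq' => ?_⟩
      obtain ⟨s, hs'⟩ := hs hsq'
      exact hxs ((hscl2 _ (scl_mem s) x).2 (hle hs'))
    have hpair : ∀ x ∈ N, ∀ y ∈ N, x ∉ scalars ι F → y ∉ scalars ι F → x * y ∈ scalars ι F := by
      intro x hx y hy hxs hys
      by_contra hxys
      obtain ⟨a, ha⟩ := hG (hNG hx)
      obtain ⟨b, hb⟩ := hG (hNG hy)
      have h1 := hnsq x hx hxs a ha
      have h3 := hnsq y hy hys b hb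
      refine (hnsq (x * y) (mul_mem hx hy) hxys ((a : F) * b) fun u v => ?_).2
        (isSquare_mul_of_not h2 h1.1 h3.1 h1.2 h3.2)
      rw [Units.val_mul, ← Matrix.mulVec_mulVec, ← Matrix.mulVec_mulVec, ha, hb, mul_assoc]
    have hle2 : Nat.card (N ⧸ (scalars ι F).subgroupOf N) ≤ 2 := by
      haveI : Fintype (N ⧸ (scalars ι F).subgroupOf N) := Fintype.ofFinite _
      rw [Nat.card_eq_fintype_card]
      let χ : N ⧸ (scalars ι F).subgroupOf N → Bool := fun q => decide (q = 1)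
      refine (Fintype.card_le_of_injective χ fun a b hab => ?_).trans (by simp)
      simp only [χ, decide_eq_decide] at hab
      by_cases ha : a = 1
      · rw [ha, hab.1 ha]
      have hb : b ≠ 1 := fun h => ha (hab.2 h)
      induction a using QuotientGroup.induction_on with
      | _ a =>
      induction b using QuotientGroup.induction_on with
      | _ b =>
      rw [QuotientGroup.eq, Subgroup.mem_subgroupOf]
      rw [QuotientGroup.eq_one_iff, Subgroup.mem_subgroupOf] at ha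
      rw [ne_eq, QuotientGroup.eq_one_iff, Subgroup.mem_subgroupOf] at hb
      simpa using hpair _ (inv_mem a.2) _ b.2 (fun h => ha (by simpa using inv_mem h)) hb
    rw [hcard] at hle2
    nlinarith
  have hRZ : R ⊔ scalars ι F = N := by
    have hRle : R ≤ N := fun x hx => hx.1
    refine (hmin _ le_sup_right (sup_le hRle hZN) ?_).resolve_left
      fun h => hRns (le_sup_left.trans h.le)
    exact fun g hg => H46.conj_mem_sup_scalars (hRnorm g hg)
  have hdec : ∀ x ∈ N, ∃ y ∈ R, y⁻¹ * x ∈ scalars ι F := by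
    intro x hx
    rw [← hRZ] at hx
    obtain ⟨y, hy, z, hz, rfl⟩ := Subgroup.mem_sup_of_normal_right.1 hx
    exact ⟨y, hy, by simpa using hz⟩
  refine sympType_of_span hf hG hn hc h2 hZN hnorm hspanN hab hpow htr hcard (fun x hx => ?_)
    fun A hA => hnoab A (hA.trans hNG)
  obtain ⟨y, hy, hyx⟩ := hdec x hx
  exact ⟨y, hy.1, hy.2, hyx⟩

end FormAsch

end H51
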