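import Cfsg.Agent.H51.FormAsch.Core
import Cfsg.Agent.H46.AschTensor
import Cfsg.Agent.H33.TwoPrime

/-!
Tensor power decompositions: coordinates for a group permuting commuting copies of a full matrix algebra,
the form in these coordinates, the quadratic form in characteristic two.
-/

set_option autoImplicit false
set_option linter.unusedSectionVars false
set_option linter.style.haveILetI false
set_option maxHeartbeats 800000

open Cfsg.Geo
open scoped Matrix MatrixGroups commutatorElement

namespace H51

namespace FormAsch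

open H46 (ptm ptm_mul ptm_one ptm_transpose ptm_smul glPtm glPtm_val glPerm glPerm_ptm glConj glConj_apply
  glConj_mul glConj_one glConj_eq_iff matCoords glCoords glCoords_val vecCoords vecCoords_bijective
  vecCoords_matCoords algEnd_matrix_conj eq_scalar_of_commute_generators mem_scalars_of_eq_smul
  exists_tensor_coords mem_tensorWreathSubgroup InvGram invGram_unique)

variable {ι : Type} [Fintype ι] [DecidableEq ι] {F : Type*} [Field F]

/-- A perfect group maps trivially to a commutative one. -/
theorem hom_perfect_eq_one {G A : Type*} [Group G] [CommGroup A] (φ : G →* A) {E : Subgroup G}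
    (hE : ⁅E, E⁆ = E) {x : G} (hx : x ∈ E) : φ x = 1 := by
  have : E.map φ ≤ ⊥ := by
    rw [← hE, Subgroup.map_commutator, Subgroup.commutator_le]
    intro a _ b _
    rw [Subgroup.mem_bot, commutatorElement_eq_one_iff_mul_comm]
    exact mul_comm a b
  exact (Subgroup.mem_bot.1 (this ⟨x, hx, rfl⟩))

/-- A perfect group of similarities consists of isometries. -/
theorem isometry_of_perfect {f : (ι → F) → (ι → F) → F} {D : Subgroup (GL ι F)}
    (hD : D ≤ similarityGroup f) (hp : ⁅D, D⁆ = D) :
    ∀ g ∈ D, ∀ u v, f ((g : Matrix ι ι F) *ᵥ u) ((g : Matrix ι ι F) *ᵥ v) = f u v := by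
  let T : Subgroup (GL ι F) :=
    { carrier := {g | ∀ u v, f ((g : Matrix ι ι F) *ᵥ u) ((g : Matrix ι ι F) *ᵥ v) = f u v}
      one_mem' := fun u v => by simp
      mul_mem' := fun {g h} hg hh u v => by
        simp only [Units.val_mul, ← Matrix.mulVec_mulVec]
        rw [hg, hh]
      inv_mem' := fun {g} hg u v => by
        have := hg (((g⁻¹ : GL ι F) : Matrix ι ι F) *ᵥ u) (((g⁻¹ : GL ι F) : Matrix ι ι F) *ᵥ v)
        rw [Matrix.mulVec_mulVec, Matrix.mulVec_mulVec, ← Units.val_mul, mul_inv_cancel, Units.val_one,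
          Matrix.one_mulVec, Matrix.one_mulVec] at this
        exact this.symm }
  have h : ⁅D, D⁆ ≤ T := by
    rw [Subgroup.commutator_le]
    intro g hg h hh u v
    obtain ⟨a, ha⟩ := hD hg
    obtain ⟨b, hb⟩ := hD hh
    have hinv : ∀ (g : GL ι F) (a : Fˣ), (∀ u v, f ((g : Matrix ι ι F) *ᵥ u) ((g : Matrix ι ι F) *ᵥ v) =
        (a : F) * f u v) → ∀ u v, (a : F) * f (((g⁻¹ : GL ι F) : Matrix ι ι F) *ᵥ u)
          (((g⁻¹ : GL ι F) : Matrix ι ι F) *ᵥ v) = f u v := fun g a ha u v => by
      rw [← ha, Matrix.mulVec_mulVec, Matrix.mulVec_mulVec, ← Units.val_mul, mul_inv_cancel, Units.val_one,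
        Matrix.one_mulVec, Matrix.one_mulVec]
    simp only [commutatorElement_def, Units.val_mul, ← Matrix.mulVec_mulVec]
    rw [ha, hb]
    have h1 := hinv g a ha (((h⁻¹ : GL ι F) : Matrix ι ι F) *ᵥ u) (((h⁻¹ : GL ι F) : Matrix ι ι F) *ᵥ v)
    have h2 := hinv h b hb u v
    calc _ = (b : F) * ((a : F) * f (((g⁻¹ : GL ι F) : Matrix ι ι F) *ᵥ (((h⁻¹ : GL ι F) : Matrix ι ι F) *ᵥ u))
          (((g⁻¹ : GL ι F) : Matrix ι ι F) *ᵥ (((h⁻¹ : GL ι F) : Matrix ι ι F) *ᵥ v))) := by ring
      _ = _ := by rw [h1, h2]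
  exact fun g hg => h (hp.ge hg)

theorem ptm_update_mul {k a : ℕ} (i : Fin k) (X Y : Matrix (Fin a) (Fin a) F) :
    ptm (Function.update 1 i X) * ptm (Function.update 1 i Y) = ptm (Function.update 1 i (X * Y)) := by
  rw [← ptm_mul]
  congr 1
  funext j
  rcases eq_or_ne j i with rfl | h
  · simp
  · simp [Function.update_of_ne h]

/-- An element moving one copy of the matrix algebra into another does so by a conjugation. -/
theorem exists_conj_of_maps {a : ℕ} [NeZero a] [Nonempty ι] (φ ψ : Matrix (Fin a) (Fin a) F →ₐ[F] Matrix ι ι F)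
    (g : GL ι F) (h : ∀ X, ∃ Y, glConj g (φ X) = ψ Y) :
    ∃ x : GL (Fin a) F, ∀ X, glConj g (φ X) = ψ (glConj x X) := by
  haveI : Nonempty (Fin a) := ⟨0⟩
  have hinj : Function.Injective ψ := RingHom.injective ψ.toRingHom
  have hmem : ∀ X, ((glConj g).toAlgHom.comp φ) X ∈ ψ.range := fun X => by
    obtain ⟨Y, hY⟩ := h X
    exact ⟨Y, hY.symm⟩
  obtain ⟨x, hx⟩ := algEnd_matrix_conj
    ((AlgEquiv.ofInjective ψ hinj).symm.toAlgHom.comp (((glConj g).toAlgHom.comp φ).codRestrict _ hmem))
  refine ⟨x, fun X => ?_⟩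
  rw [← hx X]
  exact (congrArg Subtype.val ((AlgEquiv.ofInjective ψ hinj).apply_symm_apply ⟨_, hmem X⟩)).symm

/-- Coordinates for `PowerData`. -/
theorem power_coords [Nonempty ι] {G : Subgroup (GL ι F)} {a k : ℕ} (hd : PowerData G a k) :
    ∃ (e : ι ≃ (Fin k → Fin a)) (P : GL ι F),
      (∀ g ∈ G, ∃ (s : Equiv.Perm (Fin k)) (x : Fin k → GL (Fin a) F),
        g = glCoords e P (glPerm s * glPtm x)) ∧
      (∀ i j, ∃ g ∈ G, ∃ x : GL (Fin a) F, ∀ X, glConj g (matCoords e P (ptm (Function.update 1 i X))) =
        matCoords e P (ptm (Function.update 1 j (glConj x X)))) ∧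
      ∀ i, ∃ E : Subgroup (GL (Fin a) F), ⁅E, E⁆ = E ∧ Algebra.adjoin F (matrixSet E) = ⊤ ∧
        ∀ y ∈ E, ∃ g ∈ G, ∃ D : Subgroup (GL ι F), D ≤ G ∧ ⁅D, D⁆ = D ∧ g ∈ D ∧
          (g : Matrix ι ι F) = matCoords e P (ptm (Function.update 1 i (y : Matrix (Fin a) (Fin a) F))) := by
  classical
  obtain ⟨ha, hk, φ, hc, hgen, hperm, htrans, hD⟩ := hd
  haveI : NeZero a := ⟨by omega⟩
  haveI : Nonempty (Fin a) := ⟨0⟩
  obtain ⟨e, P, hφ⟩ := exists_tensor_coords φ hc hgen
  have hinj : ∀ i, Function.Injective (φ i) := fun i => RingHom.injective (φ i).toRingHom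
  refine ⟨e, P, fun g hg => ?_, fun i j => ?_, fun i => ?_⟩
  · obtain ⟨s, hs⟩ := hperm g hg
    obtain ⟨h, rfl⟩ := (glCoords e P).surjective g
    have hconj : ∀ Z, glConj (glCoords e P h) (matCoords e P Z) = matCoords e P (glConj h Z) := fun Z => by
      rw [glConj_apply, glConj_apply, ← map_inv, glCoords_val, glCoords_val, map_mul, map_mul]
    have hψ : ∀ i, ∃ x : GL (Fin a) F, ∀ X, glConj (glCoords e P h) (φ i X) = φ (s i) (glConj x X) :=
      fun i => exists_conj_of_maps _ _ _ (hs i)
    choose x hx using hψ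
    set T : GL (Fin k → Fin a) F := glPerm s * glPtm x with hT
    have hTU : ∀ i X, glConj T (ptm (Function.update 1 i X)) =
        ptm (Function.update 1 (s i) (glConj (x i) X)) := by
      intro i X
      rw [hT, glConj_mul, glConj_apply (glPtm x)]
      show glConj (glPerm s) (ptm _ * ptm _ * ptm _) = _
      rw [← ptm_mul, ← ptm_mul, glPerm_ptm]
      congr 1
      funext j
      obtain ⟨j, rfl⟩ := s.surjective j
      simp only [Function.comp_apply, Equiv.symm_apply_apply, Pi.mul_apply]
      by_cases hij : j = i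
      · subst hij
        simp [glConj_apply]
      · rw [Function.update_of_ne hij, Function.update_of_ne (fun h => hij (s.injective h)),
          Pi.one_apply, Pi.one_apply, mul_one, ← Units.val_mul, mul_inv_cancel, Units.val_one]
    have hfix : ∀ i X, glConj (T⁻¹ * h) (ptm (Function.update 1 i X)) = ptm (Function.update 1 i X) := by
      intro i X
      have h1 := hx i X
      rw [hφ, hφ, hconj] at h1
      rw [glConj_mul, (matCoords e P).injective h1, ← hTU, ← glConj_mul, inv_mul_cancel, glConj_one]
    have hscal : glCoords e P (T⁻¹ * h) ∈ scalars ι F := by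
      obtain ⟨c, hc'⟩ := eq_scalar_of_commute_generators hgen
        (X := ((glCoords e P (T⁻¹ * h) : GL ι F) : Matrix ι ι F)) (by
        rintro _ ⟨_, ⟨i, rfl⟩, X, rfl⟩
        rw [glCoords_val, hφ]
        exact Commute.map (show Commute _ _ from (glConj_eq_iff _ _ _).1 (hfix i X)) (matCoords e P))
      exact mem_scalars_of_eq_smul hc'
    obtain ⟨c, hc'⟩ := (mem_scalars_iff _).1 hscal
    rw [glCoords_val] at hc'
    have hval : ((T⁻¹ * h : GL (Fin k → Fin a) F) : Matrix (Fin k → Fin a) (Fin k → Fin a) F) =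
        (c : F) • 1 := by
      apply (matCoords e P).injective
      rw [map_smul, map_one]
      exact hc'
    let i0 : Fin k := ⟨0, by omega⟩
    let sc : Fin k → GL (Fin a) F :=
      Function.update 1 i0 (Units.map (Matrix.scalar (Fin a) : F →+* _).toMonoidHom c)
    have hsc : (T⁻¹ * h : GL (Fin k → Fin a) F) = glPtm sc := by
      apply Units.ext
      rw [hval, glPtm_val,
        show (fun i => (sc i : Matrix (Fin a) (Fin a) F)) =
          fun i => (Function.update (1 : Fin k → F) i0 (c : F) i) • (1 : Matrix (Fin a) (Fin a) F) from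
          funext fun i => by
            rcases eq_or_ne i i0 with rfl | hi
            · simp [sc, Matrix.smul_one_eq_diagonal]
            · simp [sc, Function.update_of_ne hi],
        ptm_smul, Finset.prod_update_of_mem (Finset.mem_univ _),
        show (fun _ : Fin k => (1 : Matrix (Fin a) (Fin a) F)) = 1 from rfl, ptm_one]
      simp
    refine ⟨s, fun i => x i * sc i, ?_⟩
    congr 1
    rw [show h = T * glPtm sc by rw [← hsc, mul_inv_cancel_left], hT, mul_assoc]
    congr 1
    apply Units.ext
    rw [Units.val_mul, glPtm_val, glPtm_val, glPtm_val, ← ptm_mul]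
    rfl
  · obtain ⟨g, hg, h⟩ := htrans i j
    obtain ⟨x, hx⟩ := exists_conj_of_maps _ _ _ h
    exact ⟨g, hg, x, fun X => by rw [← hφ, ← hφ]; exact hx X⟩
  · obtain ⟨D, hDG, hDp, -, hDadj⟩ := hD i
    let ψ : GL (Fin a) F →* GL ι F := Units.map (φ i).toRingHom.toMonoidHom
    have hψ : ∀ y : GL (Fin a) F, ((ψ y : GL ι F) : Matrix ι ι F) = φ i (y : Matrix (Fin a) (Fin a) F) :=
      fun y => rfl
    have hψi : Function.Injective ψ := fun y y' h => Units.ext (hinj i (congrArg Units.val h))
    have hrange : D ≤ ψ.range := by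
      intro d hd
      have h1 : ∀ z ∈ D, ∃ Y, φ i Y = (z : Matrix ι ι F) := fun z hz => by
        rw [← AlgHom.mem_range, ← hDadj]
        exact Algebra.subset_adjoin (H46.mem_matrixSet hz)
      obtain ⟨Y, hY⟩ := h1 d hd
      obtain ⟨Y', hY'⟩ := h1 d⁻¹ (inv_mem hd)
      refine ⟨⟨Y, Y', hinj i ?_, hinj i ?_⟩, Units.ext hY⟩
      · rw [map_mul, map_one, hY, hY', ← Units.val_mul, mul_inv_cancel, Units.val_one]
      · rw [map_mul, map_one, hY, hY', ← Units.val_mul, inv_mul_cancel, Units.val_one]
    have hmap : (D.comap ψ).map ψ = D := Subgroup.map_comap_eq_self hrange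
    refine ⟨D.comap ψ, Subgroup.map_injective hψi ?_, ?_, fun y hy => ?_⟩
    · rw [Subgroup.map_commutator, hmap, hDp]
    · have h1 : (Algebra.adjoin F (matrixSet (D.comap ψ))).map (φ i) = (φ i).range := by
        refine le_antisymm ?_ ?_
        · rintro _ ⟨Y, -, rfl⟩
          exact ⟨Y, rfl⟩
        rw [← hDadj, Algebra.adjoin_le_iff]
        rintro _ ⟨d, hd, rfl⟩
        rw [← hmap] at hd
        obtain ⟨y, hy, rfl⟩ := hd
        exact ⟨_, Algebra.subset_adjoin (H46.mem_matrixSet hy), rfl⟩
      refine eq_top_iff.2 fun Y _ => ?_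
      obtain ⟨Y', hY', he⟩ : φ i Y ∈ (Algebra.adjoin F (matrixSet (D.comap ψ))).map (φ i) :=
        h1 ▸ ⟨Y, rfl⟩
      exact hinj i he ▸ hY'
    · exact ⟨ψ y, hDG hy, D, hDG, hDp, hy, by rw [hψ, hφ]⟩

/-- A tensor power of a nonzero matrix is nonzero. -/
theorem ptm_const_isUnit {k a : ℕ} {J : Matrix (Fin a) (Fin a) F} (hJ : IsUnit J) :
    IsUnit (ptm fun _ : Fin k => J) :=
  H46.isUnit_ptm fun _ => hJ

/-- The alternating Gram matrix of degree two. -/
def altTwo (F : Type*) [Field F] : Matrix (Fin 2) (Fin 2) F := !![0, 1; -1, 0]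

theorem altTwo_isUnit : IsUnit (altTwo F) := by
  rw [Matrix.isUnit_iff_isUnit_det, altTwo, Matrix.det_fin_two_of]
  simp

theorem altTwo_act (X : Matrix (Fin 2) (Fin 2) F) : Xᵀ * altTwo F * X = X.det • altTwo F := by
  ext i j
  fin_cases i <;> fin_cases j <;>
    simp [altTwo, Matrix.mul_apply, Fin.sum_univ_two, Matrix.det_fin_two] <;> ring

theorem isSymplecticForm_altTwo : IsSymplecticForm (formOfGram (id : F → F) (altTwo F)) := by
  have h := H46.isSymplecticForm_gram (altTwo F) altTwo_isUnit ?_ ?_
  · exact h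
  · ext i j
    fin_cases i <;> fin_cases j <;> simp [altTwo]
  · intro i
    fin_cases i <;> simp [altTwo]

/-- The column of a permutation followed by a pure tensor. -/
theorem glPerm_glPtm_apply {k a : ℕ} (s : Equiv.Perm (Fin k)) (x : Fin k → GL (Fin a) F)
    (y z : Fin k → Fin a) :
    ((glPerm s * glPtm x : GL (Fin k → Fin a) F) : Matrix (Fin k → Fin a) (Fin k → Fin a) F) y z =
      ∏ i, (x (s.symm i) : Matrix (Fin a) (Fin a) F) (y i) (z (s.symm i)) := by
  rw [Units.val_mul, glPtm_val, Matrix.mul_apply, Finset.sum_eq_single (y ∘ s)]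
  · simp only [glPerm, ptm, Matrix.of_apply, Function.comp_apply, if_true, one_mul]
    rw [← Equiv.prod_comp s fun i => (x (s.symm i) : Matrix (Fin a) (Fin a) F) (y i) (z (s.symm i))]
    simp
  · intro w _ hw
    simp [glPerm, hw]
  · simp

variable [Fintype F]

/-- Two-dimensional factors: the form is a tensor power of the alternating one. -/
theorem power_two [Nonempty ι] {f : (ι → F) → (ι → F) → F} (hf : IsSymplecticForm f) {G : Subgroup (GL ι F)}
    (hG : G ≤ similarityGroup f) {k : ℕ} (hd : PowerData G 2 k) :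
    4 ≤ Fintype.card F ∧ ∃ (e : ι ≃ (Fin k → Fin 2)) (P : GL ι F) (c : F), c ≠ 0 ∧
      (∀ g ∈ G, ∃ (s : Equiv.Perm (Fin k)) (x : Fin k → GL (Fin 2) F),
        g = glCoords e P (glPerm s * glPtm x)) ∧
      ∀ x y, f (unc e P x) (unc e P y) = c * formOfGram (id : F → F) (ptm fun _ : Fin k => altTwo F) x y := by
  classical
  have hk := hd.two_le_num
  obtain ⟨e, P, hmem, -, hE⟩ := power_coords hd
  choose E hEp hEadj hEg using hE
  have hdet : ∀ i, ∀ y ∈ E i, (y : Matrix (Fin 2) (Fin 2) F).det = 1 := fun i y hy => by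
    have := hom_perfect_eq_one (Matrix.GeneralLinearGroup.det) (hEp i) hy
    exact congrArg Units.val this
  refine ⟨?_, e, P, ?_⟩
  · by_contra hq
    haveI : Finite (GL (Fin 2) F) := inferInstance
    have i0 : Fin k := ⟨0, by omega⟩
    have hsol : Group.IsSolvable (E i0) := H33.isSolvable_of_two_primes Nat.prime_two Nat.prime_three (by
      intro r hr hd'
      have h1 := hd'.trans (Subgroup.card_subgroup_dvd_card (E i0))
      have hq' := Fintype.one_lt_card (α := F)
      rw [Matrix.card_GL_field, Fin.prod_univ_two] at h1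
      have h2 : r ∣ 48 := by
        have : Fintype.card F = 2 ∨ Fintype.card F = 3 := by omega
        rcases this with h | h <;> rw [h] at h1 <;> norm_num at h1
        · exact h1.trans (by norm_num)
        · exact h1
      have h4 : r ∣ 2 ^ 4 * 3 := h2
      rcases hr.dvd_mul.1 h4 with h5 | h5
      · exact Or.inl ((Nat.prime_dvd_prime_iff_eq hr Nat.prime_two).1 (hr.dvd_of_dvd_pow h5))
      · exact Or.inr ((Nat.prime_dvd_prime_iff_eq hr Nat.prime_three).1 h5))
    have hne : E i0 ≠ ⊥ := fun h => by
      have hsub : Algebra.adjoin F (matrixSet (E i0)) ≤ ⊥ := by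
        rw [Algebra.adjoin_le_iff]
        rintro _ ⟨y, hy, rfl⟩
        rw [SetLike.mem_coe, h, Subgroup.mem_bot] at hy
        show ((y : GL (Fin 2) F) : Matrix (Fin 2) (Fin 2) F) ∈ _
        rw [hy, Units.val_one]
        exact one_mem _
      rw [hEadj i0] at hsub
      obtain ⟨t, ht⟩ := Algebra.mem_bot.1 (hsub (Algebra.mem_top (x := Matrix.single (0 : Fin 2) 1 (1 : F))))
      have := congrFun (congrFun ht 0) 1
      simp [Matrix.algebraMap_eq_diagonal] at this
    haveI : Nontrivial (E i0) := (Subgroup.nontrivial_iff_ne_bot _).2 hne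
    refine (Group.IsSolvable.commutator_lt_top_of_nontrivial (E i0)).ne ?_
    apply Subgroup.map_injective (E i0).subtype_injective
    rw [commutator_def, Subgroup.map_commutator, ← MonoidHom.range_eq_map, Subgroup.range_subtype, hEp]
  -- the form in coordinates
  let f' : ((Fin k → Fin 2) → F) → ((Fin k → Fin 2) → F) → F := fun x y => f (unc e P x) (unc e P y)
  have hlin : ∀ (x : (Fin k → Fin 2) → F), ∃ u, vecCoords e P u = x ∧ unc e P x = u := fun x =>
    ⟨unc e P x, vecCoords_unc e P x, rfl⟩
  have hadd : ∀ x y, unc e P (x + y) = unc e P x + unc e P y := fun x y => by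
    apply (vecCoords_bijective e P).1
    rw [map_add, vecCoords_unc, vecCoords_unc, vecCoords_unc]
  have hsmul : ∀ (t : F) x, unc e P (t • x) = t • unc e P x := fun t x => by
    apply (vecCoords_bijective e P).1
    rw [map_smul, vecCoords_unc, vecCoords_unc]
  set M := gramMatrix f' with hM
  have hf' : f' = formOfGram (id : F → F) M := H46.eq_formOfGram (RingEquiv.refl F) f'
    (fun x y v => by simp only [f', hadd, hf.bilinear.add_left])
    (fun t x v => by simp only [f', hsmul, hf.bilinear.smul_left])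
    (fun v x y => by simp only [f', hadd, hf.bilinear.add_right])
    (fun t v x => by simp only [f', hsmul, hf.bilinear.smul_right]; rfl)
  set S : Set (Matrix (Fin k → Fin 2) (Fin k → Fin 2) F) :=
    {Z | ∃ i, ∃ y ∈ E i, Z = ptm (Function.update 1 i (y : Matrix (Fin 2) (Fin 2) F))}
  have hS : Algebra.adjoin F S = ⊤ := by
    have hall : ∀ i Y, ptm (Function.update 1 i Y) ∈ Algebra.adjoin F S := by
      intro i Y
      have hY : Y ∈ Submodule.span F (matrixSet (E i)) := by
        rw [← H46.adjoin_matrixSet_eq_span, hEadj i]; trivial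
      have hlin : ∀ (t : F) X Z, ptm (Function.update 1 i (t • X + Z)) =
          t • ptm (Function.update (1 : Fin k → Matrix (Fin 2) (Fin 2) F) i X) +
            ptm (Function.update 1 i Z) := by
        intro t X Z
        ext u v
        simp only [ptm, Matrix.of_apply, Matrix.add_apply, Matrix.smul_apply, smul_eq_mul]
        have hup : ∀ W, (∏ j, (Function.update (1 : Fin k → Matrix (Fin 2) (Fin 2) F) i W) j (u j) (v j)) =
            W (u i) (v i) * ∏ j ∈ Finset.univ.erase i, (1 : Matrix (Fin 2) (Fin 2) F) (u j) (v j) := by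
          intro W
          rw [← Finset.mul_prod_erase _ _ (Finset.mem_univ i), Function.update_self]
          congr 1
          exact Finset.prod_congr rfl fun j hj => by
            rw [Function.update_of_ne (Finset.ne_of_mem_erase hj), Pi.one_apply]
        rw [hup, hup, hup, Matrix.add_apply, Matrix.smul_apply, smul_eq_mul]
        ring
      have hzero : ptm (Function.update (1 : Fin k → Matrix (Fin 2) (Fin 2) F) i 0) = 0 := by
        have := hlin (-1) 0 0
        simpa using this
      induction hY using Submodule.span_induction with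
      | mem z hz =>
        obtain ⟨y, hy, rfl⟩ := hz
        exact Algebra.subset_adjoin ⟨i, y, hy, rfl⟩
      | zero => rw [hzero]; exact zero_mem _
      | add A B _ _ hA hB =>
        have := hlin 1 A B
        rw [one_smul, one_smul] at this
        rw [this]
        exact add_mem hA hB
      | smul t A _ hA =>
        have := hlin t A 0
        rw [add_zero, hzero, add_zero] at this
        rw [this]
        exact Subalgebra.smul_mem _ hA t
    have hprod : ∀ X : Fin k → Matrix (Fin 2) (Fin 2) F, ptm X ∈ Algebra.adjoin F S := by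
      intro X
      suffices ∀ T : Finset (Fin k), ptm (fun j => if j ∈ T then X j else 1) ∈ Algebra.adjoin F S by
        simpa using this Finset.univ
      intro T
      induction T using Finset.induction with
      | empty =>
        rw [show (fun j => if j ∈ (∅ : Finset (Fin k)) then X j else 1) =
          (1 : Fin k → Matrix (Fin 2) (Fin 2) F) from funext fun j => by simp, ptm_one]
        exact one_mem _
      | insert j T hj ih =>
        rw [show (fun l => if l ∈ insert j T then X l else 1) =
          Function.update (1 : Fin k → Matrix (Fin 2) (Fin 2) F) j (X j) *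
            fun l => if l ∈ T then X l else 1 from funext fun l => by
            rcases eq_or_ne l j with rfl | hl
            · simp [hj]
            · simp [hl, Function.update_of_ne hl], ptm_mul]
        exact mul_mem (hall j _) ih
    refine eq_top_iff.2 fun Z _ => ?_
    rw [Matrix.matrix_eq_sum_single Z]
    refine sum_mem fun u _ => sum_mem fun v _ => ?_
    rw [← mul_one (Z u v), ← smul_eq_mul, ← Matrix.smul_single, ← H46.single_ptm]
    exact Subalgebra.smul_mem _ (hprod _) _
  have hinv : InvGram (RingEquiv.refl F) M S := by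
    rintro _ ⟨i, y, hy, rfl⟩
    obtain ⟨g, -, D, hDG, hDp, hgD, hgv⟩ := hEg i y hy
    have hiso := isometry_of_perfect (hDG.trans hG) hDp g hgD
    refine H46.gram_eq_of_forms_eq (RingEquiv.refl F) fun x z => ?_
    rw [← H46.formOfGram_act, RingEquiv.coe_refl, ← hf']
    show f _ _ = f _ _
    rw [← matCoords_unc, ← matCoords_unc, ← hgv, hiso]
  have hinv' : InvGram (RingEquiv.refl F) (ptm fun _ : Fin k => altTwo F) S := by
    rintro _ ⟨i, y, hy, rfl⟩
    rw [RingEquiv.coe_refl, Matrix.map_id, ptm_transpose, ← ptm_mul, ← ptm_mul]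
    congr 1
    funext j
    rcases eq_or_ne j i with rfl | hj
    · simp only [Pi.mul_apply, Function.update_self, altTwo_act, hdet _ y hy, one_smul]
    · simp [Pi.mul_apply, Function.update_of_ne hj]
  obtain ⟨c, hcM⟩ := invGram_unique hS (ptm_const_isUnit altTwo_isUnit) hinv' hinv
  have hform : ∀ x y, f (unc e P x) (unc e P y) =
      c * formOfGram (id : F → F) (ptm fun _ : Fin k => altTwo F) x y := fun x y => by
    show f' x y = _
    rw [hf', hcM]
    exact H46.formOfGram_smul_gram _ _ _ _ _
  refine ⟨c, ?_, hmem, hform⟩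
  rintro rfl
  obtain ⟨i⟩ := (inferInstance : Nonempty ι)
  obtain ⟨⟨w, hw⟩, -⟩ := hf.nondegenerate (Pi.single i 1) (fun h => by simpa using congrFun h i)
  apply hw
  have := hform (vecCoords e P w) (vecCoords e P (Pi.single i 1))
  rwa [unc_vecCoords, unc_vecCoords, zero_mul] at this

end FormAsch

end H51
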