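import Cfsg.Agent.H98.OrthEven.Proper
import Cfsg.Agent.H51.FormAsch.Power

/-!
In odd characteristic the commutator subgroup of an orthogonal group stabilises no tensor square.
-/

set_option autoImplicit false
set_option linter.unusedSectionVars false
set_option linter.style.haveILetI false

open Cfsg.Geo
open scoped Matrix MatrixGroups Kronecker

namespace H51

namespace FormAsch

open H46 (ptm ptm_mul ptm_one glPtm glPtm_val glPerm glPerm_ptm glConj glConj_apply matCoords glCoords glCoords_val)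

variable {ι : Type} [Fintype ι] [DecidableEq ι] {F : Type*} [Field F] [Fintype F]

theorem glPerm_mul {k a : ℕ} (s t : Equiv.Perm (Fin k)) :
    (glPerm s * glPerm t : GL (Fin k → Fin a) F) = glPerm (s * t) := by
  apply Units.ext
  ext x y
  simp only [Units.val_mul, glPerm, Matrix.mul_apply, Matrix.of_apply, ite_mul, one_mul, zero_mul,
    Finset.sum_ite_eq', Finset.mem_univ, if_true]
  exact if_congr Iff.rfl rfl rfl

theorem glPerm_one {k a : ℕ} : (glPerm (1 : Equiv.Perm (Fin k)) : GL (Fin k → Fin a) F) = 1 := by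
  apply Units.ext
  ext x y
  simp [glPerm, Matrix.one_apply, eq_comm]

theorem glPerm_mul_glPtm {k a : ℕ} (s : Equiv.Perm (Fin k)) (x : Fin k → GL (Fin a) F) :
    glPerm s * glPtm x = glPtm (fun i => x (s.symm i)) * glPerm s := by
  have h : glPerm s * glPtm x * (glPerm s)⁻¹ = glPtm (fun i => x (s.symm i)) := by
    apply Units.ext
    exact glPerm_ptm s fun i => (x i : Matrix (Fin a) (Fin a) F)
  rw [← h, inv_mul_cancel_right]

theorem glPtm_mul {k a : ℕ} (x y : Fin k → GL (Fin a) F) : glPtm x * glPtm y = glPtm (x * y) := by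
  apply Units.ext
  rw [Units.val_mul, glPtm_val, glPtm_val, glPtm_val, ← ptm_mul]
  rfl

/-- The normal form in the standard wreath group. -/
theorem exists_normal_form {k a : ℕ} {h : GL (Fin k → Fin a) F} (hh : h ∈ tensorWreathStandard a k F) :
    ∃ (x : Fin k → GL (Fin a) F) (s : Equiv.Perm (Fin k)), h = glPtm x * glPerm s := by
  unfold tensorWreathStandard at hh
  induction hh using Subgroup.closure_induction_left with
  | one =>
    refine ⟨1, 1, Units.ext ?_⟩
    rw [Units.val_one, Units.val_mul, glPerm_one, Units.val_one, mul_one, glPtm_val,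
      show (fun i : Fin k => (((1 : Fin k → GL (Fin a) F) i : GL (Fin a) F) : Matrix (Fin a) (Fin a) F)) = 1 from rfl,
      ptm_one]
  | mul_left y hy z _ ih =>
    obtain ⟨x, s, rfl⟩ := ih
    rcases hy with ⟨gs, hgs⟩ | ⟨t, ht⟩
    · obtain rfl : y = glPtm gs := Units.ext (Matrix.ext hgs)
      exact ⟨gs * x, s, by rw [← mul_assoc, glPtm_mul]⟩
    · obtain rfl : y = glPerm t := Units.ext (Matrix.ext ht)
      exact ⟨fun i => x (t.symm i), t * s, by rw [← mul_assoc, glPerm_mul_glPtm, mul_assoc, glPerm_mul]⟩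
  | inv_mul_cancel y hy z _ ih =>
    obtain ⟨x, s, rfl⟩ := ih
    rcases hy with ⟨gs, hgs⟩ | ⟨t, ht⟩
    · obtain rfl : y = glPtm gs := Units.ext (Matrix.ext hgs)
      have hinv : (glPtm gs)⁻¹ = glPtm gs⁻¹ := Units.ext rfl
      exact ⟨gs⁻¹ * x, s, by rw [hinv, ← mul_assoc, glPtm_mul]⟩
    · obtain rfl : y = glPerm t := Units.ext (Matrix.ext ht)
      have hinv : (glPerm t : GL (Fin k → Fin a) F)⁻¹ = glPerm t⁻¹ :=
        inv_eq_of_mul_eq_one_right (by rw [glPerm_mul, mul_inv_cancel, glPerm_one])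
      exact ⟨fun i => x (t⁻¹.symm i), t⁻¹ * s, by rw [hinv, ← mul_assoc, glPerm_mul_glPtm, mul_assoc, glPerm_mul]⟩

/-- A pair of indices as a function on two points. -/
def toPair (a : ℕ) : (Fin 2 → Fin a) ≃ Fin a × Fin a where
  toFun w := (w 0, w 1)
  invFun z := ![z.1, z.2]
  left_inv w := by funext i; fin_cases i <;> rfl
  right_inv z := rfl

/-- The square of an element of a wreath group with two factors fixes both factors. -/
theorem sq_mem_tensorProduct {a : ℕ} (e : ι ≃ (Fin 2 → Fin a)) (P : GL ι F) {g : GL ι F}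
    (hg : g ∈ tensorWreathSubgroup a 2 e P) :
    g * g ∈ tensorProductSubgroup a a (e.trans (toPair a)) P := by
  obtain ⟨_, ⟨h, hh, rfl⟩, rfl⟩ := hg
  obtain ⟨x, s, rfl⟩ := exists_normal_form hh
  set z := x * fun i => x (s.symm i) with hz
  have hss : s * s = 1 := (show ∀ t : Equiv.Perm (Fin 2), t * t = 1 by decide) s
  have hsq : glPtm x * glPerm s * (glPtm x * glPerm s) = (glPtm z : GL (Fin 2 → Fin a) F) := by
    rw [mul_assoc, ← mul_assoc (glPerm s), glPerm_mul_glPtm, mul_assoc, glPerm_mul, hss, glPerm_one, mul_one,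
      glPtm_mul]
  rw [← map_mul, ← map_mul, hsq]
  refine ⟨_, ⟨H46.glKron (z 0) (z 1), ⟨z 0, z 1, rfl⟩, rfl⟩, ?_⟩
  show glCoords (e.trans (toPair a)) P (H46.glKron (z 0) (z 1)) = glCoords e P (glPtm z)
  apply Units.ext
  rw [glCoords_val, glCoords_val]
  show glConj P _ = glConj P _
  congr 1
  ext i j
  simp [toPair, ptm, Fin.prod_univ_two, glPtm_val, H46.glKron_val]; rfl

/-- In odd characteristic the commutator subgroup stabilises no tensor square. -/
theorem omega_not_power_two {q : QuadraticForm F (ι → F)} (hq : (H43.polB q).Nondegenerate) (h2 : (2 : F) ≠ 0)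
    (hn : 5 ≤ Fintype.card ι) {a : ℕ} (ha : 3 ≤ a) (e : ι ≃ (Fin 2 → Fin a)) (P : GL ι F) :
    ¬ omegaGL ⇑q ≤ tensorWreathSubgroup a 2 e P := by
  intro h
  refine H98.OE.omega_not_tensor hq hn (by omega) ha (e.trans (toPair a)) P
    (H98.OE.omega_le_of_singular hq hn fun g hg u w hu hw huw hgx => ?_)
  obtain ⟨p, hp⟩ := CharP.exists F
  haveI := hp
  obtain ⟨-, hpp, -⟩ := FiniteField.card F p
  have hpo : Odd p := hpp.odd_of_ne_two fun e => h2 (by
    have := CharP.cast_eq_zero F p
    rw [e] at this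
    exact_mod_cast this)
  -- the transformation has odd order
  let X : (ι → F) → (ι → F) := fun x => H43.polB q x u • w - H43.polB q x w • u
  have hX : ∀ x, (g : Matrix ι ι F) *ᵥ X x = X x := fun x => by
    rw [hgx]
    simp only [X, map_sub, map_smul, LinearMap.sub_apply, LinearMap.smul_apply, smul_eq_mul, H43.polB_self, hu, hw,
      huw, H43.polB_comm w u]
    simp
  have hpow : ∀ n : ℕ, ∀ x, ((g ^ n : GL ι F) : Matrix ι ι F) *ᵥ x = x + (n : F) • X x := by
    intro n
    induction n with
    | zero => intro x; simp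
    | succ n ih =>
      intro x
      rw [pow_succ', Units.val_mul, ← Matrix.mulVec_mulVec, ih, Matrix.mulVec_add, Matrix.mulVec_smul, hX, hgx]
      simp only [X]
      push_cast
      module
  have hgp : g ^ p = 1 := by
    apply Units.ext
    refine Matrix.toLin'.injective (LinearMap.ext fun x => ?_)
    rw [Matrix.toLin'_apply, Matrix.toLin'_apply, hpow, CharP.cast_eq_zero, zero_smul, add_zero, Units.val_one,
      Matrix.one_mulVec]
  obtain ⟨j, hj⟩ := hpo
  have hg2 : g = (g * g) ^ (j + 1) := by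
    rw [← sq, ← pow_mul, show 2 * (j + 1) = p + 1 by omega, pow_succ, hgp, one_mul]
  rw [hg2]
  exact pow_mem (sq_mem_tensorProduct e P (h hg)) _

end FormAsch

end H51
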