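import Cfsg.Agent.H51.FormAsch.OrthMax
import Cfsg.Agent.H44.Basic

/-!
The standard odd-dimensional form.
-/

set_option autoImplicit false

open Cfsg.Geo

namespace H51

namespace FormAsch

theorem std_gram_mem {F : Type*} [Field F] {m : ℕ} (K : Subfield F) (i j : Unit ⊕ (Fin m ⊕ Fin m)) :
    gramMatrix (QuadraticMap.polar ⇑(H43.qOdd m F)) i j ∈ K := by
  have h0 : (0 : F) ∈ K := zero_mem _
  have h1 : (1 : F) ∈ K := one_mem _
  have h2 : (2 : F) ∈ K := by rw [← one_add_one_eq_two]; exact add_mem h1 h1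
  have hs : ∀ a b : Unit ⊕ (Fin m ⊕ Fin m), (Pi.single a (1 : F) : _ → F) b ∈ K := fun a b => by
    rw [Pi.single_apply]; split
    · exact h1
    · exact h0
  show QuadraticMap.polar (⇑(H43.qOdd m F)) (Pi.single i 1) (Pi.single j 1) ∈ K
  rw [← H43.polB_apply, H43.polB_qOdd]
  repeat' first
    | refine add_mem ?_ ?_
    | refine mul_mem ?_ ?_
    | refine sum_mem fun _ _ => ?_
    | exact hs _ _
    | exact h2

/-- The maximal subgroups for the standard form in odd prime dimension. -/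
theorem orthMax_std {F : Type*} [Field F] [Fintype F] (hodd : Odd (Fintype.card F)) {m : ℕ}
    (hm : 2 ≤ m) (hp : (2 * m + 1).Prime) {H : Subgroup (GL (Unit ⊕ (Fin m ⊕ Fin m)) F)}
    (hH : IsMaximalIn (omegaGL (Cfsg.quadFormOdd m F)) H) : OrthMaxCases (H43.qOdd m F) H := by
  have h2 : (2 : F) ≠ 0 := Ring.two_ne_zero (H44.ringChar_ne_two_of_odd_card hodd)
  have hcard : Fintype.card (Unit ⊕ (Fin m ⊕ Fin m)) = 2 * m + 1 := by
    simp only [Fintype.card_sum, Fintype.card_unit, Fintype.card_fin]; omega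
  rw [← H43.coe_qOdd] at hH
  exact orthMax (H43.qOdd_nondeg h2 m) h2 (by omega) (hcard ▸ hp) std_gram_mem hH

end FormAsch

end H51
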