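import Cfsg.Agent.H51.FormAsch.SpTwoPow
import Cfsg.Agent.H46.ClsKron

/-!
A plus-type symmetric form in four variables is a tensor square of planes, and its similarities permute the two
planes.
-/

set_option autoImplicit false
set_option linter.unusedSectionVars false
set_option linter.style.haveILetI false
set_option maxHeartbeats 1000000

open Cfsg.Geo
open scoped Matrix Kronecker MatrixGroups

namespace H51

namespace FormAsch

variable {F : Type*} [Field F]

/-- The first digit. -/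
def hiBit : Fin 4 → Fin 2 := ![0, 0, 1, 1]

/-- The second digit. -/
def loBit : Fin 4 → Fin 2 := ![0, 1, 0, 1]

/-- The tensor product of two planes, as four coordinates. -/
def kronFour (p r : Matrix (Fin 2) (Fin 2) F) : Matrix (Fin 4) (Fin 4) F :=
  Matrix.of fun a b => p (hiBit a) (hiBit b) * r (loBit a) (loBit b)

theorem kronFour_mul (p r p' r' : Matrix (Fin 2) (Fin 2) F) :
    kronFour p r * kronFour p' r' = kronFour (p * p') (r * r') := by
  ext a b
  fin_cases a <;> fin_cases b <;>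
    simp [kronFour, hiBit, loBit, Matrix.mul_apply, Fin.sum_univ_four, Fin.sum_univ_two] <;> ring

theorem kronFour_transpose (p r : Matrix (Fin 2) (Fin 2) F) : (kronFour p r)ᵀ = kronFour pᵀ rᵀ := by
  ext a b; rfl

theorem kronFour_one : kronFour (1 : Matrix (Fin 2) (Fin 2) F) 1 = 1 := by
  ext a b
  fin_cases a <;> fin_cases b <;> simp [kronFour, hiBit, loBit, Matrix.one_apply]

theorem kronFour_smul (c : F) (p r : Matrix (Fin 2) (Fin 2) F) : kronFour (c • p) r = c • kronFour p r := by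
  ext a b
  simp [kronFour, mul_assoc]

/-- The invertible tensor product of two invertible planes. -/
def glKronFour (p r : GL (Fin 2) F) : GL (Fin 4) F where
  val := kronFour (p : Matrix (Fin 2) (Fin 2) F) (r : Matrix (Fin 2) (Fin 2) F)
  inv := kronFour ((p⁻¹ : GL (Fin 2) F) : Matrix (Fin 2) (Fin 2) F) ((r⁻¹ : GL (Fin 2) F) : Matrix (Fin 2) (Fin 2) F)
  val_inv := by
    rw [kronFour_mul, ← Units.val_mul, ← Units.val_mul, mul_inv_cancel, mul_inv_cancel, Units.val_one,
      kronFour_one]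
  inv_val := by
    rw [kronFour_mul, ← Units.val_mul, ← Units.val_mul, inv_mul_cancel, inv_mul_cancel, Units.val_one,
      kronFour_one]

/-- Exchanging the two planes. -/
def swapFour : Matrix (Fin 4) (Fin 4) F := !![1, 0, 0, 0; 0, 0, 1, 0; 0, 1, 0, 0; 0, 0, 0, 1]

/-- The quadratic form of `kronFour altTwo altTwo`. -/
def detFour (z : Fin 4 → F) : F := z 0 * z 3 - z 1 * z 2

/-- The bilinear form of `kronFour altTwo altTwo`. -/
def bilFour (z w : Fin 4 → F) : F := z 0 * w 3 + z 3 * w 0 - z 1 * w 2 - z 2 * w 1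

theorem bilFour_col (A : Matrix (Fin 4) (Fin 4) F) (i j : Fin 4) :
    (Aᵀ * kronFour (altTwo F) (altTwo F) * A) i j = bilFour (fun a => A a i) (fun a => A a j) := by
  simp [Matrix.mul_apply, Fin.sum_univ_four, kronFour, altTwo, hiBit, loBit, bilFour]
  ring

theorem exists_rankOne {z : Fin 4 → F} (h : detFour z = 0) :
    ∃ u v : Fin 2 → F, ∀ a, z a = u (hiBit a) * v (loBit a) := by
  unfold detFour at h
  by_cases h0 : z 0 = 0
  · rw [h0, zero_mul, zero_sub, neg_eq_zero, mul_eq_zero] at h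
    rcases h with h1 | h2
    · refine ⟨![0, 1], ![z 2, z 3], fun a => ?_⟩
      fin_cases a <;> simp [hiBit, loBit, h0, h1]
    · refine ⟨![z 1, z 3], ![0, 1], fun a => ?_⟩
      fin_cases a <;> simp [hiBit, loBit, h0, h2]
  · refine ⟨![1, z 2 / z 0], ![z 0, z 1], fun a => ?_⟩
    fin_cases a <;> simp [hiBit, loBit] <;> field_simp
    linear_combination h

/-- A similarity of the tensor square of the alternating form on a plane permutes the factors. -/
theorem similar_kronFour (h2 : (2 : F) ≠ 0) (y : GL (Fin 4) F) {μ : F} (hμ : μ ≠ 0)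
    (hy : (y : Matrix (Fin 4) (Fin 4) F)ᵀ * kronFour (altTwo F) (altTwo F) * (y : Matrix (Fin 4) (Fin 4) F) =
      μ • kronFour (altTwo F) (altTwo F)) :
    ∃ p r : GL (Fin 2) F, (y : Matrix (Fin 4) (Fin 4) F) = kronFour p r ∨
      (y : Matrix (Fin 4) (Fin 4) F) = kronFour p r * swapFour := by
  set A := (y : Matrix (Fin 4) (Fin 4) F) with hA
  have hB : ∀ i j, bilFour (fun a => A a i) (fun a => A a j) = μ * kronFour (altTwo F) (altTwo F) i j :=
    fun i j => by rw [← bilFour_col, hy, Matrix.smul_apply, smul_eq_mul]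
  have hsing : ∀ (B : Matrix (Fin 4) (Fin 4) F) i, bilFour (fun a => B a i) (fun a => B a i) = 0 →
      detFour (fun a => B a i) = 0 := by
    intro B i h
    refine (mul_eq_zero.1 (show (2 : F) * detFour (fun a => B a i) = 0 from ?_)).resolve_left h2
    rw [← h]; simp [detFour, bilFour]; ring
  obtain ⟨u0, v0, h0⟩ := exists_rankOne (hsing A 0 (by rw [hB]; simp [kronFour, altTwo, hiBit, loBit]))
  obtain ⟨u1, v1, h3⟩ := exists_rankOne (hsing A 3 (by rw [hB]; simp [kronFour, altTwo, hiBit, loBit]))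
  set pm : Matrix (Fin 2) (Fin 2) F := !![u0 0, u1 0; u0 1, u1 1] with hpm
  set rm : Matrix (Fin 2) (Fin 2) F := !![v0 0, v1 0; v0 1, v1 1] with hrm
  have hdet : pm.det * rm.det = μ := by
    have h := hB 0 3
    simp [bilFour, h0, h3, kronFour, altTwo, hiBit, loBit] at h
    rw [← h, hpm, hrm, Matrix.det_fin_two_of, Matrix.det_fin_two_of]
    ring
  have hp : pm.det ≠ 0 := left_ne_zero_of_mul (hdet ▸ hμ)
  have hr : rm.det ≠ 0 := right_ne_zero_of_mul (hdet ▸ hμ)
  set p := Matrix.GeneralLinearGroup.mkOfDetNeZero pm hp with hp'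
  set r := Matrix.GeneralLinearGroup.mkOfDetNeZero rm hr with hr'
  set K := glKronFour p r with hK
  set Z : Matrix (Fin 4) (Fin 4) F := ((K⁻¹ * y : GL (Fin 4) F) : Matrix (Fin 4) (Fin 4) F) with hZ
  have hAZ : A = (K : Matrix (Fin 4) (Fin 4) F) * Z := by
    rw [hZ, hA, ← Units.val_mul, mul_inv_cancel_left]
  have hKH : (K : Matrix (Fin 4) (Fin 4) F)ᵀ * kronFour (altTwo F) (altTwo F) * (K : Matrix (Fin 4) (Fin 4) F) =
      μ • kronFour (altTwo F) (altTwo F) := by
    show (kronFour pm rm)ᵀ * _ * kronFour pm rm = _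
    rw [kronFour_transpose, kronFour_mul, kronFour_mul, altTwo_act, altTwo_act, ← hdet]
    ext a b
    simp [kronFour]
    ring
  have hZH : Zᵀ * kronFour (altTwo F) (altTwo F) * Z = kronFour (altTwo F) (altTwo F) := by
    have h1 : Zᵀ * (μ • kronFour (altTwo F) (altTwo F)) * Z = μ • kronFour (altTwo F) (altTwo F) := by
      conv_lhs => rw [← hKH]
      rw [← hy, hAZ]
      simp only [Matrix.transpose_mul, mul_assoc]
    rw [Matrix.mul_smul, Matrix.smul_mul] at h1
    have h2 := congrArg (fun M : Matrix (Fin 4) (Fin 4) F => μ⁻¹ • M) h1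
    simpa [smul_smul, inv_mul_cancel₀ hμ] using h2
  have hcol : ∀ (i : Fin 4), (∀ a, A a i = (K : Matrix (Fin 4) (Fin 4) F) a i) →
      ∀ a, Z a i = (1 : Matrix (Fin 4) (Fin 4) F) a i := by
    intro i hi a
    rw [← show (((K⁻¹ : GL (Fin 4) F) : Matrix (Fin 4) (Fin 4) F) * (K : Matrix (Fin 4) (Fin 4) F)) = 1 by
      rw [← Units.val_mul, inv_mul_cancel, Units.val_one], hZ, Units.val_mul]
    simp only [Matrix.mul_apply]
    exact Finset.sum_congr rfl fun b _ => by rw [← hA, hi b]
  have z0 : ∀ a, Z a 0 = (1 : Matrix (Fin 4) (Fin 4) F) a 0 := hcol 0 fun a => by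
    rw [h0]
    fin_cases a <;> simp [hK, glKronFour, kronFour, hp', hr', hpm, hrm, hiBit, loBit]
  have z3 : ∀ a, Z a 3 = (1 : Matrix (Fin 4) (Fin 4) F) a 3 := hcol 3 fun a => by
    rw [h3]
    fin_cases a <;> simp [hK, glKronFour, kronFour, hp', hr', hpm, hrm, hiBit, loBit]
  have hBZ : ∀ i j, bilFour (fun a => Z a i) (fun a => Z a j) = kronFour (altTwo F) (altTwo F) i j :=
    fun i j => by rw [← bilFour_col, hZH]
  have hz : ∀ i, (i = 1 ∨ i = 2) → Z 0 i = 0 ∧ Z 3 i = 0 ∧ Z 1 i * Z 2 i = 0 := by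
    intro i hi
    have e1 : Z 3 i = 0 := by
      have := hBZ 0 i
      rcases hi with rfl | rfl <;> simpa [bilFour, z0, kronFour, altTwo, hiBit, loBit] using this
    have e2 : Z 0 i = 0 := by
      have := hBZ 3 i
      rcases hi with rfl | rfl <;> simpa [bilFour, z3, kronFour, altTwo, hiBit, loBit] using this
    refine ⟨e2, e1, ?_⟩
    have := hsing Z i (by
      rw [hBZ]
      rcases hi with rfl | rfl <;> simp [kronFour, altTwo, hiBit, loBit])
    simpa [detFour, e1, e2] using this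
  obtain ⟨a01, a31, a1⟩ := hz 1 (Or.inl rfl)
  obtain ⟨a02, a32, a2⟩ := hz 2 (Or.inr rfl)
  have h12 : Z 1 1 * Z 2 2 + Z 2 1 * Z 1 2 = 1 := by
    have := hBZ 1 2
    simp [bilFour, a01, a31, a02, a32, kronFour, altTwo, hiBit, loBit] at this
    linear_combination -this
  rcases mul_eq_zero.1 a1 with e | e
  · -- the middle coordinates are exchanged
    rw [e, zero_mul, zero_add] at h12
    have hγ : Z 2 1 ≠ 0 := left_ne_zero_of_mul (h12 ▸ one_ne_zero)
    have e22 : Z 2 2 = 0 := (mul_eq_zero.1 a2).resolve_left (right_ne_zero_of_mul (h12 ▸ one_ne_zero))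
    have hδ : Z 1 2 ≠ 0 := right_ne_zero_of_mul (h12 ▸ one_ne_zero)
    refine ⟨p * Matrix.GeneralLinearGroup.mkOfDetNeZero !![1, 0; 0, Z 2 1] (by simp [hγ]),
      r * Matrix.GeneralLinearGroup.mkOfDetNeZero !![1, 0; 0, Z 1 2] (by simp [hδ]), Or.inr ?_⟩
    rw [hAZ, Units.val_mul, Units.val_mul, ← kronFour_mul, mul_assoc]
    congr 1
    ext a b
    fin_cases a <;> fin_cases b <;>
      simp [z0, z3, a01, a31, a02, a32, e, e22, kronFour, hiBit, loBit, swapFour, Matrix.mul_apply,
        Fin.sum_univ_four, h12]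
  · rw [e, zero_mul, add_zero] at h12
    have hγ : Z 1 1 ≠ 0 := left_ne_zero_of_mul (h12 ▸ one_ne_zero)
    have hδ : Z 2 2 ≠ 0 := right_ne_zero_of_mul (h12 ▸ one_ne_zero)
    have e12 : Z 1 2 = 0 := (mul_eq_zero.1 a2).resolve_right hδ
    refine ⟨p * Matrix.GeneralLinearGroup.mkOfDetNeZero !![1, 0; 0, Z 2 2] (by simp [hδ]),
      r * Matrix.GeneralLinearGroup.mkOfDetNeZero !![1, 0; 0, Z 1 1] (by simp [hγ]), Or.inl ?_⟩
    rw [hAZ, Units.val_mul, Units.val_mul, ← kronFour_mul]
    congr 1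
    ext a b
    fin_cases a <;> fin_cases b <;>
      simp [z0, z3, a01, a31, a02, a32, e, e12, kronFour, hiBit, loBit]
    linear_combination -h12

variable [Fintype F]

/-- A plus-type symmetric form in four variables has the tensor square as a Gram matrix. -/
theorem exists_hyperbolic_four (h2 : (2 : F) ≠ 0) {f : (Fin 4 → F) → (Fin 4 → F) → F} (hf : IsSymmetricForm f)
    (hplus : IsPlusTypeOn (fun v : Fin 4 → F => f v v) ⊤) :
    ∃ B : GL (Fin 4) F, (B : Matrix (Fin 4) (Fin 4) F)ᵀ * gramMatrix f * (B : Matrix (Fin 4) (Fin 4) F) =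
      kronFour (altTwo F) (altTwo F) := by
  classical
  obtain ⟨U, -, hU, hdim⟩ := hplus
  rw [finrank_top, Module.finrank_fin_fun] at hdim
  let bU : Module.Basis (Fin 2) F U := Module.finBasisOfFinrankEq F U (by omega)
  set u1 : Fin 4 → F := (bU 0 : Fin 4 → F) with hu1
  set u2 : Fin 4 → F := (bU 1 : Fin 4 → F) with hu2
  have hff : ∀ x ∈ U, ∀ y ∈ U, f x y = 0 := by
    intro x hx y hy
    have h1 : f (x + y) (x + y) = 0 := hU _ (U.add_mem hx hy)
    have h3 : f x x = 0 := hU x hx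
    have h4 : f y y = 0 := hU y hy
    rw [hf.bilinear.add_left, hf.bilinear.add_right, hf.bilinear.add_right, h3, h4, hf.symm y x] at h1
    exact (mul_eq_zero.1 (show (2 : F) * f x y = 0 by linear_combination h1)).resolve_left h2
  let φ : (Fin 4 → F) →ₗ[F] F × F :=
    { toFun := fun v => (f u1 v, f u2 v)
      map_add' := fun v w => by simp [hf.bilinear.add_right]
      map_smul' := fun c v => by simp [hf.bilinear.smul_right] }
  have hφ : Function.Surjective φ := by
    rw [← LinearMap.range_eq_top]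
    apply Submodule.eq_top_of_finrank_eq
    have hker : Module.finrank F φ.ker ≤ 2 := by
      by_contra hlt
      have hle : U ≤ φ.ker := fun x hx => by
        simp [φ, hff u1 (bU 0).2 x hx, hff u2 (bU 1).2 x hx]
      -- a combination orthogonal to everything
      have h1 : Module.finrank F φ.range ≤ 1 := by
        have := φ.finrank_range_add_finrank_ker
        rw [Module.finrank_fin_fun] at this
        omega
      obtain ⟨⟨a, b⟩, hab, hperp⟩ : ∃ w : F × F, w ≠ 0 ∧ ∀ v, w.1 * f u1 v + w.2 * f u2 v = 0 := by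
        by_cases hr : φ.range = ⊥
        · refine ⟨(1, 0), by simp, fun v => ?_⟩
          have : φ v = 0 := by simpa [hr] using φ.mem_range_self v
          simp only [φ, LinearMap.coe_mk, AddHom.coe_mk, Prod.mk_eq_zero] at this
          simp [this.1]
        · obtain ⟨w, hw, hw0⟩ := φ.range.exists_mem_ne_zero_of_ne_bot hr
          refine ⟨(w.2, -w.1), fun h => hw0 ?_, fun v => ?_⟩
          · simp only [Prod.mk_eq_zero, neg_eq_zero] at h
            exact Prod.ext h.2 h.1
          · have hspan : φ.range = Submodule.span F {w} := by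
              refine (Submodule.eq_of_le_of_finrank_le ((Submodule.span_singleton_le_iff_mem _ _).2 hw) ?_).symm
              rw [finrank_span_singleton hw0]
              exact h1
            obtain ⟨t, ht⟩ := Submodule.mem_span_singleton.1 (hspan ▸ φ.mem_range_self v)
            have e1 : f u1 v = t * w.1 := (congrArg Prod.fst ht).symm
            have e2 : f u2 v = t * w.2 := (congrArg Prod.snd ht).symm
            rw [e1, e2]
            ring
      have hne : a • u1 + b • u2 ≠ 0 := by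
        intro h0
        apply hab
        have h1 : a • bU 0 + b • bU 1 = 0 := Subtype.ext h0
        have := Fintype.linearIndependent_iff.1 bU.linearIndependent ![a, b] (by
          rw [Fin.sum_univ_two]; exact h1)
        exact Prod.ext (this 0) (this 1)
      obtain ⟨⟨v, hv⟩, -⟩ := hf.nondegenerate _ hne
      apply hv
      rw [hf.symm, hf.bilinear.add_left, hf.bilinear.smul_left, hf.bilinear.smul_left]
      exact hperp v
    have := φ.finrank_range_add_finrank_ker
    rw [Module.finrank_fin_fun] at this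
    have hle : Module.finrank F φ.range ≤ Module.finrank F (F × F) := Submodule.finrank_le _
    rw [Module.finrank_prod, Module.finrank_self] at hle ⊢
    omega
  obtain ⟨v1, hv1⟩ := hφ (1, 0)
  obtain ⟨v2, hv2⟩ := hφ (0, 1)
  simp only [φ, LinearMap.coe_mk, AddHom.coe_mk, Prod.mk.injEq] at hv1 hv2
  have e11 : f u1 u1 = 0 := hff u1 (bU 0).2 u1 (bU 0).2
  have e12 : f u1 u2 = 0 := hff u1 (bU 0).2 u2 (bU 1).2
  have e22 : f u2 u2 = 0 := hff u2 (bU 1).2 u2 (bU 1).2
  have e21 : f u2 u1 = 0 := hff u2 (bU 1).2 u1 (bU 0).2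
  set w1 := v1 + (-(f v1 v1) / 2) • u1 with hw1
  have g11 : f u1 w1 = 1 := by rw [hw1, hf.bilinear.add_right, hf.bilinear.smul_right, hv1.1, e11]; ring
  have g21 : f u2 w1 = 0 := by rw [hw1, hf.bilinear.add_right, hf.bilinear.smul_right, hv1.2, e21]; ring
  have g1 : f w1 w1 = 0 := by
    rw [hw1, hf.bilinear.add_left, hf.bilinear.add_right, hf.bilinear.add_right, hf.bilinear.smul_left,
      hf.bilinear.smul_left, hf.bilinear.smul_right, hf.bilinear.smul_right, hf.symm v1 u1, hv1.1, e11]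
    field_simp
    ring
  set w2 := v2 + (-(f v2 v2) / 2) • u2 + (-(f w1 v2)) • u1 with hw2
  have g12 : f u1 w2 = 0 := by
    rw [hw2, hf.bilinear.add_right, hf.bilinear.add_right, hf.bilinear.smul_right, hf.bilinear.smul_right,
      hv2.1, e11, e12]
    ring
  have g22 : f u2 w2 = 1 := by
    rw [hw2, hf.bilinear.add_right, hf.bilinear.add_right, hf.bilinear.smul_right, hf.bilinear.smul_right,
      hv2.2, e21, e22]
    ring
  have g3 : f w1 w2 = 0 := by
    rw [hw2, hf.bilinear.add_right, hf.bilinear.add_right, hf.bilinear.smul_right, hf.bilinear.smul_right,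
      hf.symm w1 u1, hf.symm w1 u2, g11, g21]
    ring
  have g2 : f w2 w2 = 0 := by
    simp only [hw2, hf.bilinear.add_left, hf.bilinear.add_right, hf.bilinear.smul_left, hf.bilinear.smul_right,
      hf.symm v2 u1, hf.symm v2 u2, hv2.1, hv2.2, e11, e12, e21, e22]
    field_simp
    ring
  let c : Fin 4 → Fin 4 → F := ![u1, u2, -w2, w1]
  set Bm : Matrix (Fin 4) (Fin 4) F := Matrix.of fun a i => c i a with hBm
  have hgram : Bmᵀ * gramMatrix f * Bm = kronFour (altTwo F) (altTwo F) := by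
    have hfg : f = formOfGram (RingEquiv.refl F : F → F) (gramMatrix f) :=
      H46.eq_formOfGram (RingEquiv.refl F) f hf.bilinear.add_left hf.bilinear.smul_left
        hf.bilinear.add_right (fun c v x => hf.bilinear.smul_right c v x)
    ext i j
    have hentry : (Bmᵀ * gramMatrix f * Bm) i j = f (c i) (c j) := by
      conv_rhs => rw [hfg]
      simp [H46.formOfGram_eq, Matrix.mul_apply, Matrix.mulVec, dotProduct, hBm, Finset.sum_mul, Finset.mul_sum]
      rw [Finset.sum_comm]
      exact Finset.sum_congr rfl fun a _ => Finset.sum_congr rfl fun b _ => by ring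
    rw [hentry]
    have hn : ∀ x y, f (-x) y = -f x y := fun x y => by
      rw [← neg_one_smul F x, hf.bilinear.smul_left, neg_one_mul]
    have hn' : ∀ x y, f x (-y) = -f x y := fun x y => by rw [hf.symm, hn, hf.symm]
    fin_cases i <;> fin_cases j <;>
      simp [c, kronFour, altTwo, hiBit, loBit, hn, hn', e11, e12, e21, e22, g11, g12, g21, g22, g1, g2, g3,
        hf.symm w1 u1, hf.symm w1 u2, hf.symm w2 u1, hf.symm w2 u2, hf.symm w2 w1]
  have hu : IsUnit Bm := by
    rw [Matrix.isUnit_iff_isUnit_det, isUnit_iff_ne_zero]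
    intro h0
    have hd := congrArg Matrix.det hgram
    rw [Matrix.det_mul, h0, mul_zero] at hd
    exact ((Matrix.isUnit_iff_isUnit_det _).1 (glKronFour
      (Matrix.GeneralLinearGroup.mkOfDetNeZero (altTwo F) (by simp [altTwo]))
      (Matrix.GeneralLinearGroup.mkOfDetNeZero (altTwo F) (by simp [altTwo]))).isUnit).ne_zero hd.symm
  exact ⟨hu.unit, hgram⟩

/-- A pair of indices as a triple. -/
def toTriple : Fin 2 × Fin 4 ≃ (Fin 3 → Fin 2) where
  toFun z := ![z.1, hiBit z.2, loBit z.2]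
  invFun w := (w 0, ![![0, 1], ![2, 3]] (w 1) (w 2))
  left_inv := by decide
  right_inv := by decide

/-- A tensor product with a plus-type factor refines to a third tensor power of planes. -/
theorem power_of_plus_four {ι : Type} [Fintype ι] [DecidableEq ι] (h2 : (2 : F) ≠ 0)
    {f : (ι → F) → (ι → F) → F} (hf : IsSymplecticForm f) {G : Subgroup (GL ι F)}
    (e : ι ≃ Fin 2 × Fin 4) (P : GL ι F) (hG : G ≤ tensorProductSubgroup 2 4 e P)
    (hGs : G ≤ similarityGroup f) {f₁ : (Fin 2 → F) → (Fin 2 → F) → F} {f₂ : (Fin 4 → F) → (Fin 4 → F) → F}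
    (hf₁ : IsSymplecticForm f₁) (hf₂ : IsSymmetricForm f₂) (hplus : IsPlusTypeOn (fun v : Fin 4 → F => f₂ v v) ⊤)
    (hT : IsTensorFormStructure id f f₁ f₂ e P) :
    ∃ (e' : ι ≃ (Fin 3 → Fin 2)) (P' : GL ι F) (c : F), c ≠ 0 ∧
      (∀ x y, f (unc e' P' x) (unc e' P' y) =
        c * formOfGram (id : F → F) (H46.ptm fun _ : Fin 3 => altTwo F) x y) ∧
      ∀ g ∈ G, ∃ (s : Equiv.Perm (Fin 3)) (x : Fin 3 → GL (Fin 2) F),
        g = H46.glCoords e' P' (H46.glPerm s * H46.glPtm x) := by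
  classical
  obtain ⟨c, hc, hT⟩ := hT
  obtain ⟨B, hB⟩ := exists_hyperbolic_four h2 hf₂ hplus
  set S := gramMatrix f₁ with hS
  set C := gramMatrix f₂ with hC
  have hSJ : S = S 0 1 • altTwo F := by
    ext i j
    fin_cases i <;> fin_cases j <;> simp [altTwo, hS, gramMatrix, hf₁.alternating]
    exact hf₁.skew _ _
  have hs0 : S 0 1 ≠ 0 := by
    intro h0
    obtain ⟨⟨x, hx⟩, -⟩ := hf₁.nondegenerate (Pi.single 0 1) (by simp)
    apply hx
    have hfg : f₁ = formOfGram (RingEquiv.refl F : F → F) S :=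
      H46.eq_formOfGram (RingEquiv.refl F) f₁ hf₁.bilinear.add_left hf₁.bilinear.smul_left
        hf₁.bilinear.add_right (fun c v x => hf₁.bilinear.smul_right c v x)
    rw [hfg, hSJ, h0, zero_smul]
    simp [H46.formOfGram_eq]
  set T : GL (Fin 2 × Fin 4) F := H46.glKron 1 B with hTdef
  set e' : ι ≃ (Fin 3 → Fin 2) := e.trans toTriple with he'
  set P' : GL ι F := P * H46.glCoords e 1 T with hP'
  -- the new coordinates
  have hunc : ∀ x : (Fin 3 → Fin 2) → F,
      unc e' P' x = unc e P ((T : Matrix (Fin 2 × Fin 4) (Fin 2 × Fin 4) F) *ᵥ (x ∘ toTriple)) := by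
    intro x
    show (P' : Matrix ι ι F) *ᵥ (x ∘ e') = (P : Matrix ι ι F) *ᵥ _
    rw [hP', Units.val_mul, ← Matrix.mulVec_mulVec]
    congr 1
    have h1 := H46.vecCoords_matCoords e (1 : GL ι F) (T : Matrix (Fin 2 × Fin 4) (Fin 2 × Fin 4) F) (x ∘ e')
    funext i
    have h3 := congrFun h1 (e i)
    simp only [H46.vecCoords, LinearMap.comp_apply, LinearMap.funLeft_apply, Matrix.toLin'_apply, inv_one,
      Units.val_one, Matrix.one_mulVec, Equiv.symm_apply_apply] at h3
    rw [H46.glCoords_val]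
    refine h3.trans ?_
    show (_ *ᵥ _) (e i) = (_ *ᵥ _) (e i)
    congr 1
    congr 1
    funext z
    simp [H46.vecCoords, he']
  refine ⟨e', P', c * S 0 1, mul_ne_zero hc hs0, fun x y => ?_, fun g hg => ?_⟩
  · rw [hunc, hunc, show unc e P ((T : Matrix _ _ F) *ᵥ (x ∘ toTriple)) = (P : Matrix ι ι F) *ᵥ (((T : Matrix _ _ F) *ᵥ (x ∘ toTriple)) ∘ e) from rfl,
      show unc e P ((T : Matrix _ _ F) *ᵥ (y ∘ toTriple)) = (P : Matrix ι ι F) *ᵥ (((T : Matrix _ _ F) *ᵥ (y ∘ toTriple)) ∘ e) from rfl,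
      hT, formOfGram_mulVec_left, formOfGram_mulVec_right, hTdef, H46.glKron_val, Units.val_one,
      ← Matrix.kroneckerMap_transpose, Matrix.transpose_one, ← Matrix.mul_kronecker_mul,
      ← Matrix.mul_kronecker_mul, one_mul, mul_one, hB, hSJ, Matrix.smul_kronecker,
      show (formOfGram (id : F → F) (S 0 1 • (altTwo F ⊗ₖ kronFour (altTwo F) (altTwo F))) (x ∘ toTriple) (y ∘ toTriple)) =
        S 0 1 * formOfGram (id : F → F) (altTwo F ⊗ₖ kronFour (altTwo F) (altTwo F)) (x ∘ toTriple) (y ∘ toTriple)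
        from H46.formOfGram_smul_gram _ _ _ _ _, mul_assoc]
    simp only [Matrix.smul_apply, show altTwo F 0 1 = 1 from rfl, smul_eq_mul, mul_one]
    congr 2
    simp only [formOfGram]
    refine Fintype.sum_equiv toTriple _ _ fun a => Fintype.sum_equiv toTriple _ _ fun b => ?_
    simp [H46.ptm, Fin.prod_univ_three, toTriple, kronFour, mul_assoc]
  obtain ⟨_, ⟨h, ⟨xa, yb, hh⟩, rfl⟩, rfl⟩ := hG hg
  obtain rfl : h = H46.glKron xa yb := Units.ext hh
  -- the second factor is a similarity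
  obtain ⟨l, hl⟩ := hGs hg
  have hval : ∀ z, (((MulAut.conj P).toMonoidHom ((glReindex e.symm).toMonoidHom (H46.glKron xa yb)) : GL ι F) :
      Matrix ι ι F) *ᵥ unc e P z = unc e P ((H46.glKron xa yb : Matrix _ _ F) *ᵥ z) := fun z => by
    rw [← matCoords_unc]
    rfl
  have hgram : ((H46.glKron xa yb : Matrix (Fin 2 × Fin 4) (Fin 2 × Fin 4) F))ᵀ * (S ⊗ₖ C) *
      (H46.glKron xa yb : Matrix (Fin 2 × Fin 4) (Fin 2 × Fin 4) F) = (l : F) • (S ⊗ₖ C) := by
    refine gram_ext fun u v => ?_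
    have h1 := hl (unc e P u) (unc e P v)
    rw [hval, hval] at h1
    rw [show unc e P ((H46.glKron xa yb : Matrix _ _ F) *ᵥ u) = (P : Matrix ι ι F) *ᵥ (((H46.glKron xa yb : Matrix _ _ F) *ᵥ u) ∘ e) from rfl,
      show unc e P ((H46.glKron xa yb : Matrix _ _ F) *ᵥ v) = (P : Matrix ι ι F) *ᵥ (((H46.glKron xa yb : Matrix _ _ F) *ᵥ v) ∘ e) from rfl,
      show unc e P u = (P : Matrix ι ι F) *ᵥ (u ∘ e) from rfl, show unc e P v = (P : Matrix ι ι F) *ᵥ (v ∘ e) from rfl,
      hT, hT, ← mul_assoc, mul_comm (l : F) c, mul_assoc, formOfGram_mulVec_left, formOfGram_mulVec_right] at h1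
    rw [mul_left_cancel₀ hc h1]
    exact (H46.formOfGram_smul_gram _ _ _ _ _).symm
  have hxa := altTwo_act (xa : Matrix (Fin 2) (Fin 2) F)
  have hd : (xa : Matrix (Fin 2) (Fin 2) F).det ≠ 0 := ((Matrix.isUnit_iff_isUnit_det _).1 xa.isUnit).ne_zero
  have hyC : (yb : Matrix (Fin 4) (Fin 4) F)ᵀ * C * (yb : Matrix (Fin 4) (Fin 4) F) =
      ((l : F) / (xa : Matrix (Fin 2) (Fin 2) F).det) • C := by
    rw [H46.glKron_val, ← Matrix.kroneckerMap_transpose, ← Matrix.mul_kronecker_mul, ← Matrix.mul_kronecker_mul,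
      hSJ, Matrix.mul_smul, Matrix.smul_mul, hxa] at hgram
    ext a b
    have h1 := congrFun (congrFun hgram (0, a)) (1, b)
    simp [altTwo] at h1
    have h3 : (xa : Matrix (Fin 2) (Fin 2) F).det *
        ((yb : Matrix (Fin 4) (Fin 4) F)ᵀ * C * (yb : Matrix (Fin 4) (Fin 4) F)) a b = (l : F) * C a b :=
      mul_left_cancel₀ hs0 (by linear_combination h1)
    rw [Matrix.smul_apply, smul_eq_mul, div_mul_eq_mul_div, eq_div_iff hd, ← h3]
    ring
  set y' : GL (Fin 4) F := B⁻¹ * yb * B with hy'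
  have hy : (y' : Matrix (Fin 4) (Fin 4) F)ᵀ * kronFour (altTwo F) (altTwo F) * (y' : Matrix (Fin 4) (Fin 4) F) =
      ((l : F) / (xa : Matrix (Fin 2) (Fin 2) F).det) • kronFour (altTwo F) (altTwo F) := by
    have hBy : (B : Matrix (Fin 4) (Fin 4) F) * (y' : Matrix (Fin 4) (Fin 4) F) =
        (yb : Matrix (Fin 4) (Fin 4) F) * (B : Matrix (Fin 4) (Fin 4) F) := by
      rw [hy', ← Units.val_mul, ← Units.val_mul]; simp [mul_assoc]
    calc (y' : Matrix (Fin 4) (Fin 4) F)ᵀ * kronFour (altTwo F) (altTwo F) * (y' : Matrix (Fin 4) (Fin 4) F)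
        = ((B : Matrix (Fin 4) (Fin 4) F) * (y' : Matrix (Fin 4) (Fin 4) F))ᵀ * C *
            ((B : Matrix (Fin 4) (Fin 4) F) * (y' : Matrix (Fin 4) (Fin 4) F)) := by
          rw [← hB]; simp only [Matrix.transpose_mul, mul_assoc]
      _ = (B : Matrix (Fin 4) (Fin 4) F)ᵀ * ((yb : Matrix (Fin 4) (Fin 4) F)ᵀ * C *
            (yb : Matrix (Fin 4) (Fin 4) F)) * (B : Matrix (Fin 4) (Fin 4) F) := by
          rw [hBy]; simp only [Matrix.transpose_mul, mul_assoc]
      _ = _ := by rw [hyC, Matrix.mul_smul, Matrix.smul_mul, hB]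
  obtain ⟨p, r, hpr⟩ := similar_kronFour h2 y' (div_ne_zero l.ne_zero hd) hy
  have hg' : ∀ z : (Fin 3 → Fin 2) → F,
      (((MulAut.conj P).toMonoidHom ((glReindex e.symm).toMonoidHom (H46.glKron xa yb)) : GL ι F) :
        Matrix ι ι F) *ᵥ unc e' P' z =
      unc e' P' (fun w => (((xa : Matrix (Fin 2) (Fin 2) F) ⊗ₖ (y' : Matrix (Fin 4) (Fin 4) F)) *ᵥ
        (z ∘ toTriple)) (toTriple.symm w)) := by
    intro z
    rw [hunc, hval, hunc]
    congr 1
    rw [show ((fun w => (((xa : Matrix (Fin 2) (Fin 2) F) ⊗ₖ (y' : Matrix (Fin 4) (Fin 4) F)) *ᵥ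
        (z ∘ toTriple)) (toTriple.symm w)) ∘ ⇑toTriple) =
      ((xa : Matrix (Fin 2) (Fin 2) F) ⊗ₖ (y' : Matrix (Fin 4) (Fin 4) F)) *ᵥ (z ∘ toTriple) from
        funext fun a => by simp, Matrix.mulVec_mulVec, Matrix.mulVec_mulVec, hTdef, H46.glKron_val, H46.glKron_val,
      Units.val_one, ← Matrix.mul_kronecker_mul, ← Matrix.mul_kronecker_mul, mul_one, one_mul, hy',
      ← Units.val_mul, ← Units.val_mul]
    simp [mul_assoc]
  suffices ∀ (h : GL (Fin 3 → Fin 2) F), (∀ a b, (h : Matrix (Fin 3 → Fin 2) (Fin 3 → Fin 2) F)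
      (toTriple a) (toTriple b) = ((xa : Matrix (Fin 2) (Fin 2) F) ⊗ₖ (y' : Matrix (Fin 4) (Fin 4) F)) a b) →
      (MulAut.conj P).toMonoidHom ((glReindex e.symm).toMonoidHom (H46.glKron xa yb)) = H46.glCoords e' P' h by
    rcases hpr with hpr | hpr
    · refine ⟨1, ![xa, p, r], this _ fun a b => ?_⟩
      rw [glPerm_glPtm_apply, hpr]
      simp [Fin.prod_univ_three, toTriple, kronFour, mul_assoc, Equiv.Perm.one_def]
    · refine ⟨Equiv.swap 1 2, ![xa, r, p], this _ fun a b => ?_⟩
      rw [glPerm_glPtm_apply, hpr]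
      obtain ⟨b1, b2⟩ := b
      obtain ⟨a1, a2⟩ := a
      fin_cases a2 <;> fin_cases b2 <;>
        simp [Fin.prod_univ_three, toTriple, kronFour, hiBit, loBit, swapFour, Matrix.mul_apply,
          Fin.sum_univ_four, Equiv.swap_apply_def] <;> ring
  intro h hh
  apply Units.ext
  refine Matrix.toLin'.injective (LinearMap.ext fun v => ?_)
  rw [Matrix.toLin'_apply, Matrix.toLin'_apply]
  obtain ⟨z, rfl⟩ : ∃ z, unc e' P' z = v := ⟨_, unc_vecCoords e' P' v⟩
  rw [hg', H46.glCoords_val, matCoords_unc]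
  congr 1
  funext w
  obtain ⟨a, rfl⟩ := toTriple.surjective w
  simp only [Equiv.symm_apply_apply, Matrix.mulVec, dotProduct]
  rw [← toTriple.sum_comp]
  exact Finset.sum_congr rfl fun b _ => by rw [hh]; rfl

end FormAsch

end H51
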