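import Cfsg.Agent.H51.FormAsch.Power

/-!
In characteristic two a tensor power of alternating planes carries an invariant quadratic form.
-/

set_option autoImplicit false
set_option linter.unusedSectionVars false
set_option linter.style.haveILetI false
set_option maxHeartbeats 800000

open Cfsg.Geo
open scoped Matrix MatrixGroups

namespace H51

namespace FormAsch

open H46 (ptm glPtm glPerm glCoords glCoords_val vecCoords vecCoords_bijective vecCoords_matCoords)

variable {ι : Type} [Fintype ι] [DecidableEq ι] {F : Type*} [Field F]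

/-- The complementary index. -/
def flipIdx {k : ℕ} (x : Fin k → Fin 2) : Fin k → Fin 2 := fun i => (x i).rev

theorem flipIdx_flipIdx {k : ℕ} (x : Fin k → Fin 2) : flipIdx (flipIdx x) = x := by
  funext i; simp [flipIdx]

theorem flipIdx_ne {k : ℕ} (hk : 0 < k) (x : Fin k → Fin 2) : flipIdx x ≠ x := fun h => by
  have := congrFun h ⟨0, hk⟩
  revert this
  simp only [flipIdx]
  generalize x ⟨0, hk⟩ = t
  fin_cases t <;> simp

theorem ptm_altTwo_of_two (h2 : (2 : F) = 0) {k : ℕ} (x y : Fin k → Fin 2) :
    ptm (fun _ : Fin k => altTwo F) x y = if y = flipIdx x then 1 else 0 := by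
  have hneg : (-1 : F) = 1 := by linear_combination -h2
  have hent : ∀ s t : Fin 2, altTwo F s t = if t = s.rev then 1 else 0 := by
    intro s t
    fin_cases s <;> fin_cases t <;> simp [altTwo, hneg]
  show ∏ i, altTwo F (x i) (y i) = _
  simp only [hent]
  split_ifs with h
  · subst h; simp [flipIdx]
  · obtain ⟨i, hi⟩ := Function.ne_iff.1 h
    exact Finset.prod_eq_zero (Finset.mem_univ i) (if_neg hi)

/-- A form which is a tensor power of alternating planes in characteristic two polarises a quadratic form
preserved up to scalars by every similarity fixing the decomposition. -/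
theorem quad_of_power_two {f : (ι → F) → (ι → F) → F} (hf : IsSymplecticForm f) (h2 : (2 : F) = 0)
    {G : Subgroup (GL ι F)} (hG : G ≤ similarityGroup f) {k : ℕ} (hk : 2 ≤ k) (e : ι ≃ (Fin k → Fin 2))
    (P : GL ι F) (c : F)
    (hmem : ∀ g ∈ G, ∃ (s : Equiv.Perm (Fin k)) (x : Fin k → GL (Fin 2) F),
      g = glCoords e P (glPerm s * glPtm x))
    (hform : ∀ x y, f (unc e P x) (unc e P y) =
      c * formOfGram (id : F → F) (ptm fun _ : Fin k => altTwo F) x y) :
    ∃ Q : (ι → F) → F, IsNondegenerateQuadraticForm Q ∧ (∀ u v, QuadraticMap.polar Q u v = f u v) ∧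
      G ≤ quadSimilarityGroup Q := by
  classical
  let i0 : Fin k := ⟨0, by omega⟩
  let i1 : Fin k := ⟨1, by omega⟩
  have h01 : i0 ≠ i1 := by simp [i0, i1]
  let S0 : Finset (Fin k → Fin 2) := Finset.univ.filter fun x => x i0 = 0
  let q : ((Fin k → Fin 2) → F) → F := fun z => c * ∑ x ∈ S0, z x * z (flipIdx x)
  let Q : (ι → F) → F := fun v => q (vecCoords e P v)
  have hF : ∀ z w : (Fin k → Fin 2) → F, formOfGram (id : F → F) (ptm fun _ : Fin k => altTwo F) z w =
      ∑ x, z x * w (flipIdx x) := by
    intro z w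
    simp only [formOfGram, id_eq]
    refine Finset.sum_congr rfl fun x _ => ?_
    rw [Finset.sum_eq_single (flipIdx x)]
    · rw [ptm_altTwo_of_two h2, if_pos rfl, mul_one]
    · intro y _ hy
      rw [ptm_altTwo_of_two h2, if_neg hy]
      ring
    · simp
  have hqpol : ∀ z w, q (z + w) - q z - q w =
      c * formOfGram (id : F → F) (ptm fun _ : Fin k => altTwo F) z w := by
    intro z w
    have hcompl : ∑ x ∈ S0, z (flipIdx x) * w x = ∑ x ∈ S0ᶜ, z x * w (flipIdx x) := by
      refine Finset.sum_nbij' flipIdx flipIdx ?_ ?_ (fun x _ => flipIdx_flipIdx x)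
        (fun x _ => flipIdx_flipIdx x) (fun x _ => by rw [flipIdx_flipIdx])
      · intro x hx
        have hx0 : x i0 = 0 := by simpa [S0] using hx
        simp [S0, flipIdx, hx0]
      · intro x hx
        have hx0 : x i0 ≠ 0 := by simpa [S0] using hx
        have hx1 : x i0 = 1 := by omega
        simp [S0, flipIdx, hx1]
    rw [hF, ← Finset.sum_add_sum_compl S0, ← hcompl]
    simp only [q, Pi.add_apply, add_mul, mul_add, Finset.sum_add_distrib]
    have : ∑ x ∈ S0, w x * z (flipIdx x) = ∑ x ∈ S0, z (flipIdx x) * w x :=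
      Finset.sum_congr rfl fun x _ => mul_comm _ _
    rw [this]
    ring
  have hpure : ∀ u : Fin k → Fin 2 → F, q (fun x => ∏ i, u i (x i)) = 0 := by
    intro u
    have hterm : ∀ x : Fin k → Fin 2, (∏ i, u i (x i)) * (∏ i, u i (flipIdx x i)) = ∏ i, (u i 0 * u i 1) := by
      intro x
      rw [← Finset.prod_mul_distrib]
      refine Finset.prod_congr rfl fun i _ => ?_
      simp only [flipIdx]
      generalize x i = t
      fin_cases t
      · simp
      · simp [mul_comm]
    simp only [q, hterm]
    rw [Finset.sum_involution (fun x _ => Function.update x i1 (x i1).rev)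
      (fun x _ => by linear_combination (∏ i, (u i 0 * u i 1)) * h2)
      (fun x _ _ => fun h => by
        have := congrFun h i1
        rw [Function.update_self] at this
        revert this
        generalize x i1 = t
        fin_cases t <;> simp)
      (fun x hx => by simpa [S0, Function.update_of_ne h01] using hx)
      (fun x _ => by simp), mul_zero]
  have hsm : ∀ (a : F) (v : ι → F), Q (a • v) = a ^ 2 * Q v := fun a v => by
    simp only [Q, q, map_smul, Pi.smul_apply, smul_eq_mul]
    rw [Finset.mul_sum, Finset.mul_sum, Finset.mul_sum]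
    exact Finset.sum_congr rfl fun x _ => by ring
  have hpol : ∀ u v, QuadraticMap.polar Q u v = f u v := fun u v => by
    show q (vecCoords e P (u + v)) - q _ - q _ = _
    rw [map_add, hqpol, ← hform, unc_vecCoords, unc_vecCoords]
  refine ⟨Q, ⟨hsm, ?_, fun v hv => ?_⟩, hpol, fun g hg => ?_⟩
  · rw [show QuadraticMap.polar Q = f from funext fun u => funext fun v => hpol u v]
    exact hf.bilinear
  · obtain ⟨⟨x, hx⟩, ⟨y, hy⟩⟩ := hf.nondegenerate v hv
    exact ⟨⟨x, by rwa [hpol]⟩, ⟨y, by rwa [hpol]⟩⟩
  obtain ⟨l, hl⟩ := hG hg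
  obtain ⟨s, x, rfl⟩ := hmem g hg
  refine ⟨l, fun v => ?_⟩
  let D : (ι → F) → F := fun v =>
    Q (((glCoords e P (glPerm s * glPtm x) : GL ι F) : Matrix ι ι F) *ᵥ v) - (l : F) * Q v
  have hDadd : ∀ u v, D (u + v) = D u + D v := fun u v => by
    have h1 := hpol (((glCoords e P (glPerm s * glPtm x) : GL ι F) : Matrix ι ι F) *ᵥ u)
      (((glCoords e P (glPerm s * glPtm x) : GL ι F) : Matrix ι ι F) *ᵥ v)
    have h3 := hpol u v
    simp only [QuadraticMap.polar, hl] at h1 h3
    simp only [D, Matrix.mulVec_add]
    linear_combination h1 - (l : F) * h3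
  have hDsm : ∀ (a : F) u, D (a • u) = a ^ 2 * D u := fun a u => by
    simp only [D, Matrix.mulVec_smul, hsm]
    ring
  have hbasis : ∀ z, D (unc e P (Pi.single z 1)) = 0 := by
    intro z
    have e1 : Q (unc e P (Pi.single z 1)) = 0 := by
      simp only [Q, vecCoords_unc]
      convert hpure (fun i t => if t = z i then (1 : F) else 0) using 2
      funext y
      rcases eq_or_ne y z with rfl | hy
      · simp
      · obtain ⟨i, hi⟩ := Function.ne_iff.1 hy
        rw [Pi.single_eq_of_ne hy, Finset.prod_eq_zero (Finset.mem_univ i) (if_neg hi)]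
    have e2 : Q (((glCoords e P (glPerm s * glPtm x) : GL ι F) : Matrix ι ι F) *ᵥ
        unc e P (Pi.single z 1)) = 0 := by
      simp only [Q, glCoords_val, vecCoords_matCoords, vecCoords_unc, Matrix.mulVec_single_one]
      convert hpure (fun i t => (x (s.symm i) : Matrix (Fin 2) (Fin 2) F) t (z (s.symm i))) using 2
      funext y
      exact glPerm_glPtm_apply s x y z
    simp only [D, e1, e2, mul_zero, sub_zero]
  have hv : v = ∑ z, vecCoords e P v z • unc e P (Pi.single z 1) := by
    apply (vecCoords_bijective e P).1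
    simp only [map_sum, map_smul, vecCoords_unc]
    exact pi_eq_sum_univ' _
  have hDv : D v = 0 := by
    rw [hv, ← AddMonoidHom.mk'_apply (f := D) hDadd, map_sum]
    exact Finset.sum_eq_zero fun z _ => by
      rw [AddMonoidHom.mk'_apply, hDsm, hbasis, mul_zero]
  exact sub_eq_zero.1 hDv

end FormAsch

end H51
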