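import Cfsg.Agent.H51.FormAsch.SpTwoPow

/-!
Over the field of three elements a tensor power of planes lies in a symplectic-type normaliser.
-/

set_option autoImplicit false
set_option linter.unusedSectionVars false
set_option linter.style.haveILetI false
set_option maxHeartbeats 1000000

open Cfsg.Geo
open scoped Matrix MatrixGroups

namespace H51

namespace FormAsch

open H46 (ptm ptm_mul ptm_one ptm_transpose ptm_smul glPtm glPtm_val glPerm glPerm_ptm glConj glConj_apply
  matCoords glCoords glCoords_val vecCoords vecCoords_bijective vecCoords_matCoords scl scl_val scl_mem exists_scl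
  scl_comm scl_mul_val mem_scalars_of_eq_smul)

variable {ι : Type} [Fintype ι] [DecidableEq ι] {F : Type*} [Field F] [Fintype F]

/-- A spanning group with trace zero off the scalars has n² classes modulo scalars. -/
theorem card_classes_of_trace {N : Subgroup (GL ι F)} (hne : (Fintype.card ι : F) ≠ 0)
    (hspan : Algebra.adjoin F (matrixSet N) = ⊤)
    (htr : ∀ x ∈ N, x ∉ scalars ι F → (x : Matrix ι ι F).trace = 0) :
    Nat.card (N ⧸ (scalars ι F).subgroupOf N) = Fintype.card ι * Fintype.card ι := by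
  classical
  haveI : Fintype (N ⧸ (scalars ι F).subgroupOf N) := Fintype.ofFinite _
  let x : N ⧸ (scalars ι F).subgroupOf N → GL ι F := fun q => ((q.out : N) : GL ι F)
  have hli := indep_of_trace hne htr x (fun q => (q.out : N).2) fun i j hij hs => hij (by
    rw [← QuotientGroup.out_eq' i, ← QuotientGroup.out_eq' j, QuotientGroup.eq]
    exact Subgroup.mem_subgroupOf.2 hs)
  have hsp : ⊤ ≤ Submodule.span F (Set.range fun q => (x q : Matrix ι ι F)) := by
    rw [← Algebra.top_toSubmodule, ← hspan, H46.adjoin_matrixSet_eq_span, Submodule.span_le]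
    rintro _ ⟨g, hg, rfl⟩
    set p : N ⧸ (scalars ι F).subgroupOf N := QuotientGroup.mk ⟨g, hg⟩
    have hm : (x p)⁻¹ * g ∈ scalars ι F :=
      Subgroup.mem_subgroupOf.1 (QuotientGroup.eq.1 (show QuotientGroup.mk p.out =
        (QuotientGroup.mk (⟨g, hg⟩ : N) : N ⧸ (scalars ι F).subgroupOf N) from QuotientGroup.out_eq' p))
    obtain ⟨u, hu⟩ := exists_scl hm
    have e : g = scl ι u * x p := by rw [(scl_comm u _).eq, ← hu, mul_inv_cancel_left]
    show (g : Matrix ι ι F) ∈ _
    rw [e, scl_mul_val]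
    exact Submodule.smul_mem _ _ (Submodule.subset_span ⟨p, rfl⟩)
  rw [Nat.card_eq_fintype_card, ← Module.finrank_eq_card_basis (Module.Basis.mk hli hsp), Module.finrank_matrix]
  simp

/-- Sets spanning every factor generate the tensor power algebra. -/
theorem adjoin_ptm_top {k a : ℕ} (T : Fin k → Set (Matrix (Fin a) (Fin a) F))
    (hT : ∀ i, Submodule.span F (T i) = ⊤) :
    Algebra.adjoin F {Z | ∃ i, ∃ y ∈ T i, Z = ptm (Function.update 1 i y)} = ⊤ := by
  classical
  set S : Set (Matrix (Fin k → Fin a) (Fin k → Fin a) F) :=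
    {Z | ∃ i, ∃ y ∈ T i, Z = ptm (Function.update 1 i y)}
  have hall : ∀ i Y, ptm (Function.update 1 i Y) ∈ Algebra.adjoin F S := by
    intro i Y
    have hY : Y ∈ Submodule.span F (T i) := hT i ▸ Submodule.mem_top
    have hlin : ∀ (t : F) X Z, ptm (Function.update 1 i (t • X + Z)) =
        t • ptm (Function.update (1 : Fin k → Matrix (Fin a) (Fin a) F) i X) +
          ptm (Function.update 1 i Z) := by
      intro t X Z
      ext u v
      simp only [ptm, Matrix.of_apply, Matrix.add_apply, Matrix.smul_apply, smul_eq_mul]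
      have hup : ∀ W, (∏ j, (Function.update (1 : Fin k → Matrix (Fin a) (Fin a) F) i W) j (u j) (v j)) =
          W (u i) (v i) * ∏ j ∈ Finset.univ.erase i, (1 : Matrix (Fin a) (Fin a) F) (u j) (v j) := by
        intro W
        rw [← Finset.mul_prod_erase _ _ (Finset.mem_univ i), Function.update_self]
        congr 1
        exact Finset.prod_congr rfl fun j hj => by
          rw [Function.update_of_ne (Finset.ne_of_mem_erase hj), Pi.one_apply]
      rw [hup, hup, hup, Matrix.add_apply, Matrix.smul_apply, smul_eq_mul]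
      ring
    have hzero : ptm (Function.update (1 : Fin k → Matrix (Fin a) (Fin a) F) i 0) = 0 := by
      have := hlin (-1) 0 0
      simpa using this
    induction hY using Submodule.span_induction with
    | mem z hz => exact Algebra.subset_adjoin ⟨i, z, hz, rfl⟩
    | zero => rw [hzero]; exact zero_mem _
    | add A B _ _ hA hB =>
      have := hlin 1 A B
      rw [one_smul, one_smul] at this
      rw [this]
      exact add_mem hA hB
    | smul t A _ hA =>
      have := hlin t A 0
      rw [add_zero, hzero, add_zero] at this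
      rw [this]
      exact Subalgebra.smul_mem _ hA t
  have hprod : ∀ X : Fin k → Matrix (Fin a) (Fin a) F, ptm X ∈ Algebra.adjoin F S := by
    intro X
    suffices ∀ U : Finset (Fin k), ptm (fun j => if j ∈ U then X j else 1) ∈ Algebra.adjoin F S by
      simpa using this Finset.univ
    intro U
    induction U using Finset.induction with
    | empty =>
      rw [show (fun j => if j ∈ (∅ : Finset (Fin k)) then X j else 1) =
        (1 : Fin k → Matrix (Fin a) (Fin a) F) from funext fun j => by simp, ptm_one]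
      exact one_mem _
    | insert j U hj ih =>
      rw [show (fun l => if l ∈ insert j U then X l else 1) =
        Function.update (1 : Fin k → Matrix (Fin a) (Fin a) F) j (X j) *
          fun l => if l ∈ U then X l else 1 from funext fun l => by
          rcases eq_or_ne l j with rfl | hl
          · simp [hj]
          · simp [hl], ptm_mul]
      exact mul_mem (hall j _) ih
  refine eq_top_iff.2 fun Z _ => ?_
  rw [Matrix.matrix_eq_sum_single Z]
  refine sum_mem fun u _ => sum_mem fun v _ => ?_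
  rw [← mul_one (Z u v), ← smul_eq_mul, ← Matrix.smul_single, ← H46.single_ptm]
  exact Subalgebra.smul_mem _ (hprod _) _

theorem qEight_key : ∀ a b c a' b' c' : ZMod 3, a * (-a) - b * c = 1 → a' * (-a') - b' * c' = 1 →
    (a * a' + b * c') + (c * b' + a * a') = 0 ∨
    (a * b' - b * a' = 0 ∧ c * a' - a * c' = 0 ∧ (a * a' + b * c') = (c * b' + a * a')) := by decide

theorem no_sqrt_neg_one : ∀ s : ZMod 3, s * s ≠ -1 := by decide

/-- Elements of determinant one which are scalar or of trace zero. -/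
def qEightSet (F : Type*) [Field F] : Set (GL (Fin 2) F) :=
  {y | (y : Matrix (Fin 2) (Fin 2) F).det = 1 ∧
    ((y : Matrix (Fin 2) (Fin 2) F).trace = 0 ∨ y ∈ scalars (Fin 2) F)}

theorem qEight_mul {F : Type*} [Field F] [Fintype F] (h3 : Fintype.card F = 3) {y z : GL (Fin 2) F}
    (hy : y ∈ qEightSet F) (hz : z ∈ qEightSet F) : y * z ∈ qEightSet F := by
  obtain ⟨hyd, hy'⟩ := hy
  obtain ⟨hzd, hz'⟩ := hz
  refine ⟨by rw [Units.val_mul, Matrix.det_mul, hyd, hzd, one_mul], ?_⟩
  rcases hy' with hyt | hys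
  swap
  · rcases hz' with hzt | hzs
    · left
      obtain ⟨c, rfl⟩ := exists_scl hys
      rw [scl_mul_val, Matrix.trace_smul, hzt, smul_zero]
    · exact Or.inr (mul_mem hys hzs)
  rcases hz' with hzt | hzs
  swap
  · left
    obtain ⟨c, rfl⟩ := exists_scl hzs
    rw [← (scl_comm c y).eq, scl_mul_val, Matrix.trace_smul, hyt, smul_zero]
  haveI : Fact (Nat.Prime 3) := ⟨Nat.prime_three⟩
  let ε : ZMod 3 ≃+* F := ZMod.ringEquivOfPrime F Nat.prime_three h3
  set A := (y : Matrix (Fin 2) (Fin 2) F) with hA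
  set B := (z : Matrix (Fin 2) (Fin 2) F) with hB
  rw [Matrix.trace_fin_two] at hyt hzt
  rw [Matrix.det_fin_two] at hyd hzd
  have hA11 : A 1 1 = -A 0 0 := by linear_combination hyt
  have hB11 : B 1 1 = -B 0 0 := by linear_combination hzt
  obtain ⟨a, ha⟩ := ε.surjective (A 0 0)
  obtain ⟨b, hb⟩ := ε.surjective (A 0 1)
  obtain ⟨c, hc⟩ := ε.surjective (A 1 0)
  obtain ⟨a', ha'⟩ := ε.surjective (B 0 0)
  obtain ⟨b', hb'⟩ := ε.surjective (B 0 1)
  obtain ⟨c', hc'⟩ := ε.surjective (B 1 0)
  rw [hA11, ← ha, ← hb, ← hc] at hyd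
  rw [hB11, ← ha', ← hb', ← hc'] at hzd
  have e1 : a * (-a) - b * c = 1 := ε.injective (by simpa using hyd)
  have e2 : a' * (-a') - b' * c' = 1 := ε.injective (by simpa using hzd)
  rcases qEight_key a b c a' b' c' e1 e2 with h | ⟨h1, h2, h4⟩
  · left
    have h' := congrArg ε h
    simp only [map_add, map_mul, map_zero, ha, hb, hc, ha', hb', hc'] at h'
    rw [Units.val_mul, Matrix.trace_fin_two, ← hA, ← hB, Matrix.mul_apply, Matrix.mul_apply, Fin.sum_univ_two,
      Fin.sum_univ_two, hA11, hB11]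
    linear_combination h'
  · right
    refine mem_scalars_of_eq_smul (c := A 0 0 * B 0 0 + A 0 1 * B 1 0) ?_
    have h1' := congrArg ε h1
    have h2' := congrArg ε h2
    have h4' := congrArg ε h4
    simp only [map_add, map_sub, map_mul, map_zero, ha, hb, hc, ha', hb', hc'] at h1' h2' h4'
    rw [Units.val_mul, ← hA, ← hB]
    ext i j
    fin_cases i <;> fin_cases j <;> simp [Matrix.mul_apply, Fin.sum_univ_two, hA11, hB11]
    · linear_combination h1'
    · linear_combination h2'
    · linear_combination -h4'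

theorem qEight_sq {y : GL (Fin 2) F} (hy : y ∈ qEightSet F) : y ^ 2 ∈ scalars (Fin 2) F := by
  obtain ⟨hd, ht | hs⟩ := hy
  · refine mem_scalars_of_eq_smul (c := -1) ?_
    rw [Matrix.trace_fin_two] at ht
    rw [Matrix.det_fin_two] at hd
    rw [sq, Units.val_mul]
    ext i j
    fin_cases i <;> fin_cases j <;> simp [Matrix.mul_apply, Fin.sum_univ_two]
    · linear_combination (y : Matrix (Fin 2) (Fin 2) F) 0 0 * ht - hd
    · linear_combination (y : Matrix (Fin 2) (Fin 2) F) 0 1 * ht
    · linear_combination (y : Matrix (Fin 2) (Fin 2) F) 1 0 * ht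
    · linear_combination (y : Matrix (Fin 2) (Fin 2) F) 1 1 * ht - hd
  · exact pow_mem hs 2

/-- The quaternion group inside the linear group of a plane over three elements. -/
def qEight {F : Type*} [Field F] [Fintype F] (h3 : Fintype.card F = 3) : Subgroup (GL (Fin 2) F) where
  carrier := qEightSet F
  one_mem' := ⟨by simp, Or.inr (one_mem _)⟩
  mul_mem' := qEight_mul h3
  inv_mem' {y} hy := by
    have h := qEight_sq hy
    have e : y⁻¹ = (y ^ 2)⁻¹ * y := by rw [sq, mul_inv_rev, mul_assoc, inv_mul_cancel, mul_one]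
    obtain ⟨hd, hs⟩ := hy
    refine ⟨?_, ?_⟩
    · have h1 : (((y⁻¹ : GL (Fin 2) F) : Matrix (Fin 2) (Fin 2) F) * (y : Matrix (Fin 2) (Fin 2) F)).det = 1 := by
        rw [← Units.val_mul, inv_mul_cancel, Units.val_one, Matrix.det_one]
      rwa [Matrix.det_mul, hd, mul_one] at h1
    · rcases hs with ht | hs
      · left
        obtain ⟨c, hc⟩ := exists_scl (inv_mem h)
        rw [e, hc, scl_mul_val, Matrix.trace_smul, ht, smul_zero]
      · exact Or.inr (inv_mem hs)

/-- The tensor product of a family of invertible matrices in the given coordinates. -/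
def ptmHom {k a : ℕ} (e : ι ≃ (Fin k → Fin a)) (P : GL ι F) : (Fin k → GL (Fin a) F) →* GL ι F :=
  (glCoords e P).toMonoidHom.comp (MonoidHom.mk' glPtm fun x y => Units.ext (by
    rw [Units.val_mul, glPtm_val, glPtm_val, glPtm_val, ← ptm_mul]
    rfl))

theorem ptmHom_val {k a : ℕ} (e : ι ≃ (Fin k → Fin a)) (P : GL ι F) (x : Fin k → GL (Fin a) F) :
    ((ptmHom e P x : GL ι F) : Matrix ι ι F) =
      matCoords e P (ptm fun i => (x i : Matrix (Fin a) (Fin a) F)) := rfl

theorem trace_matCoords {κ : Type} [Fintype κ] [DecidableEq κ] (e : ι ≃ κ) (P : GL ι F) (M : Matrix κ κ F) :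
    (matCoords e P M).trace = M.trace := by
  simp only [matCoords, AlgEquiv.trans_apply, glConj_apply]
  rw [Matrix.trace_mul_comm, ← mul_assoc, ← Units.val_mul, inv_mul_cancel, Units.val_one, one_mul]
  simp only [Matrix.trace, Matrix.coe_reindexAlgEquiv, Matrix.diag, Matrix.reindex_apply,
    Matrix.submatrix_apply, Equiv.symm_symm]
  exact Fintype.sum_equiv e _ _ fun _ => rfl

theorem trace_ptm {k a : ℕ} (X : Fin k → Matrix (Fin a) (Fin a) F) : (ptm X).trace = ∏ i, (X i).trace := by
  simp only [Matrix.trace, Matrix.diag, ptm, Matrix.of_apply]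
  exact (Fintype.prod_sum fun i j => X i j j).symm

theorem ptmHom_mem_scalars [Nonempty ι] {k a : ℕ} (e : ι ≃ (Fin k → Fin a)) (P : GL ι F)
    {x : Fin k → GL (Fin a) F} (hx : ∀ i, x i ∈ scalars (Fin a) F) : ptmHom e P x ∈ scalars ι F := by
  choose c hc using fun i => exists_scl (hx i)
  refine mem_scalars_of_eq_smul (c := ∏ i, (c i : F)) ?_
  rw [ptmHom_val]
  simp only [hc, scl_val]
  rw [ptm_smul, map_smul, show (fun _ : Fin k => (1 : Matrix (Fin a) (Fin a) F)) = 1 from rfl, ptm_one, map_one]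

/-- Conjugating a trace zero element of the quaternion group by a transvection gives a non-commuting one. -/
theorem qEight_shear (h3 : Fintype.card F = 3) {y : GL (Fin 2) F} (hy : y ∈ qEightSet F)
    (hys : y ∉ scalars (Fin 2) F) (U : GL (Fin 2) F) (hU : (U : Matrix (Fin 2) (Fin 2) F) = !![1, 1; 0, 1]) :
    y * (U * y * U⁻¹) ≠ U * y * U⁻¹ * y := by
  intro h
  obtain ⟨hd, ht | hs⟩ := hy
  swap
  · exact hys hs
  have hUi : ((U⁻¹ : GL (Fin 2) F) : Matrix (Fin 2) (Fin 2) F) = !![1, -1; 0, 1] := by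
    calc ((U⁻¹ : GL (Fin 2) F) : Matrix (Fin 2) (Fin 2) F)
        = ((U⁻¹ : GL (Fin 2) F) : Matrix (Fin 2) (Fin 2) F) *
            ((U : Matrix (Fin 2) (Fin 2) F) * !![1, -1; 0, 1]) := by
          rw [hU, show (!![(1 : F), 1; 0, 1] : Matrix (Fin 2) (Fin 2) F) * (!![1, -1; 0, 1] : Matrix (Fin 2) (Fin 2) F) = (1 : Matrix (Fin 2) (Fin 2) F) by
            ext i j; fin_cases i <;> fin_cases j <;> simp [Matrix.mul_apply, Fin.sum_univ_two], mul_one]
      _ = _ := by rw [← mul_assoc, ← Units.val_mul, inv_mul_cancel, Units.val_one, one_mul]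
  have h0 : ((y * (U * y * U⁻¹) : GL (Fin 2) F) : Matrix (Fin 2) (Fin 2) F) =
      ((U * y * U⁻¹ * y : GL (Fin 2) F) : Matrix (Fin 2) (Fin 2) F) := by rw [h]
  simp only [Units.val_mul, hU, hUi] at h0
  rw [Matrix.eta_fin_two (y : Matrix (Fin 2) (Fin 2) F)] at h0
  have h1 := congrFun (congrFun h0 1) 0
  rw [Matrix.trace_fin_two] at ht
  rw [Matrix.det_fin_two] at hd
  simp [Matrix.mul_apply, Fin.sum_univ_two] at h1
  have h2 : (2 : F) ≠ 0 := fun h => absurd (not_odd_card_of_two h) (by rw [h3]; decide)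
  have hc : (y : Matrix (Fin 2) (Fin 2) F) 1 0 = 0 := by
    have : (2 : F) * ((y : Matrix (Fin 2) (Fin 2) F) 1 0 * (y : Matrix (Fin 2) (Fin 2) F) 1 0) = 0 := by
      linear_combination h1
    exact mul_self_eq_zero.1 ((mul_eq_zero.1 this).resolve_left h2)
  rw [hc, mul_zero, sub_zero] at hd
  have ha : (y : Matrix (Fin 2) (Fin 2) F) 0 0 * (y : Matrix (Fin 2) (Fin 2) F) 0 0 = -1 := by
    linear_combination (y : Matrix (Fin 2) (Fin 2) F) 0 0 * ht - hd
  haveI : Fact (Nat.Prime 3) := ⟨Nat.prime_three⟩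
  let ε : ZMod 3 ≃+* F := ZMod.ringEquivOfPrime F Nat.prime_three h3
  obtain ⟨s, hs'⟩ := ε.surjective ((y : Matrix (Fin 2) (Fin 2) F) 0 0)
  rw [← hs', ← map_mul] at ha
  exact no_sqrt_neg_one s (ε.injective (by simpa using ha))

/-- The symplectic-type group inside a tensor power of planes over three elements. -/
theorem sympType_of_power_three [Nonempty ι] {f : (ι → F) → (ι → F) → F} (hf : IsSymplecticForm f)
    (h3 : Fintype.card F = 3) {k : ℕ} (hk : 2 ≤ k) (e : ι ≃ (Fin k → Fin 2)) (P : GL ι F) (c : F)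
    (hform : ∀ x y, f (unc e P x) (unc e P y) =
      c * formOfGram (id : F → F) (ptm fun _ : Fin k => altTwo F) x y) :
    (∃ (p : ℕ) (R : Subgroup (GL ι F)), p.Prime ∧ Odd p ∧ Fintype.card F = p ∧ IsSymplecticTypeGroup 2 R ∧
      ActsAbsolutelyIrreducibly (matrixSet R) ∧
      (∀ x ∈ R, ∀ u v, f ((x : Matrix ι ι F) *ᵥ u) ((x : Matrix ι ι F) *ᵥ v) = f u v) ∧
      Nat.card R = 2 ^ (1 + 2 * k) ∧ Nat.card (Subgroup.center R) = 2 ∧ IsOfMinusType k R ∧
      (∃ x ∈ R, x * x = 1 ∧ x ∉ scalars ι F) ∧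
      tensorWreathSubgroup 2 k e P ≤ subgroupNormalizer R) ∨
    ∃ (F₁ : Subfield F) (s : ℕ) (P' : GL ι F) (ζ : F), s.Prime ∧ Fintype.card F = Nat.card F₁ ^ s ∧
      ζ ≠ 0 ∧ IsFormRationalStructure f F₁ ζ P' ∧ tensorWreathSubgroup 2 k e P ≤ subfieldSubgroup F₁ P' := by
  classical
  have h2 : (2 : F) ≠ 0 := fun h => absurd (not_odd_card_of_two h) (by rw [h3]; decide)
  have hcard : Fintype.card ι = 2 ^ k := by
    rw [Fintype.card_congr e, Fintype.card_fun, Fintype.card_fin, Fintype.card_fin]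
  have hn : 3 ≤ Fintype.card ι := by
    rw [hcard]
    exact le_trans (by norm_num) (Nat.pow_le_pow_right (by norm_num) hk)
  have hne : (Fintype.card ι : F) ≠ 0 := by rw [hcard]; push_cast; exact pow_ne_zero k h2
  set ψ := ptmHom e P with hψ
  -- the effect on the form
  have hact : ∀ (h : GL (Fin k → Fin 2) F) (l : F),
      (h : Matrix (Fin k → Fin 2) (Fin k → Fin 2) F)ᵀ * ptm (fun _ : Fin k => altTwo F) *
        (h : Matrix (Fin k → Fin 2) (Fin k → Fin 2) F) = l • ptm (fun _ : Fin k => altTwo F) →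
      ∀ u v, f (((glCoords e P h : GL ι F) : Matrix ι ι F) *ᵥ u) (((glCoords e P h : GL ι F) : Matrix ι ι F) *ᵥ v) =
        l * f u v := by
    intro h l hl u v
    rw [← unc_vecCoords e P u, ← unc_vecCoords e P v, glCoords_val, matCoords_unc, matCoords_unc, hform, hform,
      formOfGram_mulVec_left, formOfGram_mulVec_right, hl,
      show formOfGram (id : F → F) (l • ptm fun _ : Fin k => altTwo F) (vecCoords e P u) (vecCoords e P v) =
        l * formOfGram (id : F → F) (ptm fun _ : Fin k => altTwo F) (vecCoords e P u) (vecCoords e P v) from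
        H46.formOfGram_smul_gram _ _ _ _ _]
    ring
  have hdet : ∀ x : Fin k → GL (Fin 2) F,
      (glPtm x : Matrix (Fin k → Fin 2) (Fin k → Fin 2) F)ᵀ * ptm (fun _ : Fin k => altTwo F) *
        (glPtm x : Matrix (Fin k → Fin 2) (Fin k → Fin 2) F) =
        (∏ i, (x i : Matrix (Fin 2) (Fin 2) F).det) • ptm (fun _ : Fin k => altTwo F) := fun x => by
    rw [glPtm_val, ptm_transpose, ← ptm_mul, ← ptm_mul, ← ptm_smul]
    congr 1
    funext i
    exact altTwo_act _
  set W := tensorWreathSubgroup 2 k e P with hW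
  have hWgen : ∀ (T : Subgroup (GL ι F)), (∀ x, ψ x ∈ T) → (∀ s, glCoords e P (glPerm s) ∈ T) → W ≤ T := by
    intro T hT1 hT2
    have hle : tensorWreathStandard 2 k F ≤ T.comap (glCoords e P).toMonoidHom := by
      rw [tensorWreathStandard, Subgroup.closure_le]
      rintro h (⟨gs, hgs⟩ | ⟨s, hs⟩)
      · obtain rfl : h = glPtm gs := Units.ext (Matrix.ext hgs)
        exact hT1 gs
      · obtain rfl : h = glPerm s := Units.ext (Matrix.ext hs)
        exact hT2 s
    rintro _ ⟨_, ⟨h, hh, rfl⟩, rfl⟩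
    exact hle hh
  have hWsim : W ≤ similarityGroup f := by
    refine hWgen _ (fun x => ⟨Units.mk0 _ (Finset.prod_ne_zero_iff.2 fun i _ =>
      ((Matrix.isUnit_iff_isUnit_det _).1 (x i).isUnit).ne_zero), hact (glPtm x) (∏ i, (x i : Matrix (Fin 2) (Fin 2) F).det) (hdet x)⟩) fun s => ⟨1, hact _ _ ?_⟩
    have h1 : glConj (glPerm s) (ptm fun _ : Fin k => altTwo F) = ptm fun _ : Fin k => altTwo F := by
      rw [glPerm_ptm]; rfl
    have h4 : ((glPerm s : GL (Fin k → Fin 2) F) : Matrix (Fin k → Fin 2) (Fin k → Fin 2) F)ᵀ =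
        (((glPerm s)⁻¹ : GL (Fin k → Fin 2) F) : Matrix (Fin k → Fin 2) (Fin k → Fin 2) F) := rfl
    rw [h4, mul_assoc, ((H46.glConj_eq_iff _ _ _).1 h1).symm, ← mul_assoc, ← Units.val_mul, inv_mul_cancel,
      Units.val_one, one_mul, Units.val_one, one_smul]
  set N : Subgroup (GL ι F) := (Subgroup.pi Set.univ fun _ : Fin k => qEight h3).map ψ ⊔ scalars ι F with hN
  have hmemN : ∀ g ∈ N, ∃ y : Fin k → GL (Fin 2) F, (∀ i, y i ∈ qEightSet F) ∧ ∃ u : Fˣ, g = scl ι u * ψ y := by
    intro g hg
    obtain ⟨_, ⟨y, hy, rfl⟩, z, hz, rfl⟩ := Subgroup.mem_sup_of_normal_right.1 hg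
    obtain ⟨u, rfl⟩ := exists_scl hz
    exact ⟨y, fun i => hy i trivial, u, (scl_comm u _).eq.symm⟩
  have hψN : ∀ y : Fin k → GL (Fin 2) F, (∀ i, y i ∈ qEightSet F) → ψ y ∈ N := fun y hy =>
    Subgroup.mem_sup_left ⟨y, fun i _ => hy i, rfl⟩
  have hZN : scalars ι F ≤ N := le_sup_right
  have hiso : ∀ y : Fin k → GL (Fin 2) F, (∀ i, y i ∈ qEightSet F) →
      ∀ u v, f ((ψ y : Matrix ι ι F) *ᵥ u) ((ψ y : Matrix ι ι F) *ᵥ v) = f u v := by
    intro y hy u v
    have := hact (glPtm y) _ (hdet y) u v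
    rw [Finset.prod_eq_one fun i _ => (hy i).1, one_mul] at this
    exact this
  have hpow : ∀ g ∈ N, g ^ 2 ∈ scalars ι F := by
    intro g hg
    obtain ⟨y, hy, u, rfl⟩ := hmemN g hg
    rw [(scl_comm u _).mul_pow, ← map_pow ψ]
    exact mul_mem (pow_mem (scl_mem u) 2) (ptmHom_mem_scalars e P fun i => qEight_sq (hy i))
  have hab : ∀ x ∈ N, ∀ y ∈ N, x * y * x⁻¹ * y⁻¹ ∈ scalars ι F := by
    intro x hx y hy
    obtain ⟨s, hs⟩ := exists_scl (inv_mem (hpow x hx))
    obtain ⟨t, ht⟩ := exists_scl (inv_mem (hpow y hy))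
    have ex : x⁻¹ = scl ι s * x := by rw [← hs, sq, mul_inv_rev, mul_assoc, inv_mul_cancel, mul_one]
    have ey : y⁻¹ = scl ι t * y := by rw [← ht, sq, mul_inv_rev, mul_assoc, inv_mul_cancel, mul_one]
    rw [ex, ey, show x * y * (scl ι s * x) * (scl ι t * y) = scl ι s * (scl ι t * ((x * y) ^ 2)) by
      rw [sq, ← mul_assoc (x * y) (scl ι s), ← (scl_comm s (x * y)).eq, mul_assoc (scl ι s), mul_assoc (scl ι s),
        ← mul_assoc (x * y * x) (scl ι t), ← (scl_comm t (x * y * x)).eq]
      simp only [mul_assoc]]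
    exact mul_mem (scl_mem s) (mul_mem (scl_mem t) (hpow _ (mul_mem hx hy)))
  have htr : ∀ g ∈ N, g ∉ scalars ι F → (g : Matrix ι ι F).trace = 0 := by
    intro g hg hgs
    obtain ⟨y, hy, u, rfl⟩ := hmemN g hg
    obtain ⟨i, hi⟩ : ∃ i, y i ∉ scalars (Fin 2) F := by
      by_contra hcon
      simp only [not_exists, not_not] at hcon
      exact hgs (mul_mem (scl_mem u) (ptmHom_mem_scalars e P hcon))
    rw [scl_mul_val, Matrix.trace_smul, ptmHom_val, trace_matCoords, trace_ptm,
      Finset.prod_eq_zero (Finset.mem_univ i) ((hy i).2.resolve_right hi), smul_zero]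
  have hnorm : ∀ g ∈ W, ∀ x ∈ N, g * x * g⁻¹ ∈ N := by
    have hle : W ≤ Subgroup.normalizer (N : Set (GL ι F)) := by
      have hcl : ∀ g : GL ι F, (∀ y : Fin k → GL (Fin 2) F, (∀ i, y i ∈ qEightSet F) → g * ψ y * g⁻¹ ∈ N) →
          ∀ x ∈ N, g * x * g⁻¹ ∈ N := by
        intro g hg x hx
        obtain ⟨y, hy, u, rfl⟩ := hmemN x hx
        rw [← mul_assoc g, ← (scl_comm u g).eq, mul_assoc (scl ι u), mul_assoc (scl ι u)]
        exact mul_mem (hZN (scl_mem u)) (hg y hy)
      have hp : ∀ (x : Fin k → GL (Fin 2) F) y, (∀ i, y i ∈ qEightSet F) → ψ x * ψ y * (ψ x)⁻¹ ∈ N := by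
        intro x y hy
        rw [← map_inv, ← map_mul, ← map_mul]
        refine hψN _ fun i => ?_
        obtain ⟨hd, ht⟩ := hy i
        refine ⟨?_, ?_⟩
        · show ((x i * y i * (x i)⁻¹ : GL (Fin 2) F) : Matrix (Fin 2) (Fin 2) F).det = 1
          rw [Units.val_mul, Units.val_mul, Matrix.det_mul, Matrix.det_mul, hd, mul_one, ← Matrix.det_mul,
            ← Units.val_mul, mul_inv_cancel, Units.val_one, Matrix.det_one]
        · refine ht.imp (fun h => ?_) fun h => scalars_normal.conj_mem _ h _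
          show ((x i * y i * (x i)⁻¹ : GL (Fin 2) F) : Matrix (Fin 2) (Fin 2) F).trace = 0
          rw [Units.val_mul, Matrix.trace_mul_comm, ← Units.val_mul, ← mul_assoc, inv_mul_cancel, one_mul, h]
      have hs : ∀ (s : Equiv.Perm (Fin k)) y, (∀ i, y i ∈ qEightSet F) →
          glCoords e P (glPerm s) * ψ y * (glCoords e P (glPerm s))⁻¹ ∈ N := by
        intro s y hy
        have : glCoords e P (glPerm s) * ψ y * (glCoords e P (glPerm s))⁻¹ = ψ fun i => y (s.symm i) := by
          show _ * glCoords e P (glPtm y) * _ = glCoords e P (glPtm fun i => y (s.symm i))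
          rw [← map_inv, ← map_mul, ← map_mul]
          congr 1
          apply Units.ext
          exact glPerm_ptm s fun i => (y i : Matrix (Fin 2) (Fin 2) F)
        rw [this]
        exact hψN _ fun i => hy _
      refine hWgen _ (fun x => ?_) fun s => ?_ <;> rw [Subgroup.mem_normalizer_iff] <;> intro z
      · refine ⟨fun hz => hcl _ (hp x) z hz, fun hz => ?_⟩
        have := hcl _ (fun y hy => hp x⁻¹ y hy) _ hz
        rw [map_inv, inv_inv] at this
        simpa [mul_assoc] using this
      · refine ⟨fun hz => hcl _ (hs s) z hz, fun hz => ?_⟩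
        have hsinv : (glCoords e P (glPerm s) : GL ι F)⁻¹ = glCoords e P (glPerm s.symm) := by
          rw [← map_inv]
          congr 1
          apply Units.ext
          ext a b
          show (if a = b ∘ s then (1 : F) else 0) = if b = a ∘ s.symm then 1 else 0
          exact if_congr ⟨fun h => by subst h; funext i; simp, fun h => by subst h; funext i; simp⟩ rfl rfl
        have := hcl _ (fun y hy => hs s.symm y hy) _ hz
        rw [← hsinv, inv_inv] at this
        simpa [mul_assoc] using this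
    intro g hg x hx
    exact ((Subgroup.mem_normalizer_iff.1 (hle hg)) x).1 hx
  -- spanning
  have hspan : Algebra.adjoin F (matrixSet N) = ⊤ := by
    have hq : Submodule.span F {M : Matrix (Fin 2) (Fin 2) F |
        ∃ y ∈ qEightSet F, (y : Matrix (Fin 2) (Fin 2) F) = M} = ⊤ := by
      set T := Submodule.span F {M : Matrix (Fin 2) (Fin 2) F |
        ∃ y ∈ qEightSet F, (y : Matrix (Fin 2) (Fin 2) F) = M}
      have hmk : ∀ M : Matrix (Fin 2) (Fin 2) F, M.det = 1 → M.trace = 0 → M ∈ T := fun M hd ht =>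
        Submodule.subset_span ⟨Matrix.GeneralLinearGroup.mkOfDetNeZero M (by rw [hd]; exact one_ne_zero),
          ⟨hd, Or.inl ht⟩, rfl⟩
      have h30 : (3 : F) = 0 := by
        have := FiniteField.cast_card_eq_zero F
        rw [h3] at this
        exact_mod_cast this
      have h1 : (1 : Matrix (Fin 2) (Fin 2) F) ∈ T :=
        Submodule.subset_span ⟨1, ⟨by simp, Or.inr (one_mem _)⟩, rfl⟩
      have hI : (!![0, 1; -1, 0] : Matrix (Fin 2) (Fin 2) F) ∈ T := hmk _ (by simp) (by simp [Matrix.trace_fin_two])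
      have hJ : (!![1, 1; 1, -1] : Matrix (Fin 2) (Fin 2) F) ∈ T :=
        hmk _ (by rw [Matrix.det_fin_two_of]; linear_combination (-1 : F) * h30) (by simp [Matrix.trace_fin_two])
      have hK : (!![1, -1; -1, -1] : Matrix (Fin 2) (Fin 2) F) ∈ T :=
        hmk _ (by rw [Matrix.det_fin_two_of]; linear_combination (-1 : F) * h30) (by simp [Matrix.trace_fin_two])
      refine eq_top_iff.2 fun M _ => ?_
      have hM : M = (-(M 0 0 + M 1 1)) • (1 : Matrix (Fin 2) (Fin 2) F) +
          (-(M 0 1 - M 1 0)) • (!![0, 1; -1, 0] : Matrix (Fin 2) (Fin 2) F) +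
          (M 0 0 - M 1 1 + (M 0 1 + M 1 0)) • (!![1, 1; 1, -1] : Matrix (Fin 2) (Fin 2) F) +
          (M 0 0 - M 1 1 - (M 0 1 + M 1 0)) • (!![1, -1; -1, -1] : Matrix (Fin 2) (Fin 2) F) := by
        ext i j
        fin_cases i <;> fin_cases j <;> simp
        · linear_combination (M 1 1) * h30
        · linear_combination -(M 1 0) * h30
        · linear_combination -(M 0 1) * h30
        · linear_combination (M 0 0) * h30
      rw [hM]
      exact add_mem (add_mem (add_mem (T.smul_mem _ h1) (T.smul_mem _ hI)) (T.smul_mem _ hJ)) (T.smul_mem _ hK)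
    have htop := adjoin_ptm_top (k := k)
      (fun _ => {M : Matrix (Fin 2) (Fin 2) F | ∃ y ∈ qEightSet F, (y : Matrix (Fin 2) (Fin 2) F) = M})
      fun _ => hq
    rw [eq_top_iff]
    intro X hX
    obtain ⟨Z, rfl⟩ := (matCoords e P).surjective X
    clear hX
    have hZ : Z ∈ Algebra.adjoin F {Z : Matrix (Fin k → Fin 2) (Fin k → Fin 2) F | ∃ i,
        ∃ y ∈ {M : Matrix (Fin 2) (Fin 2) F | ∃ y ∈ qEightSet F, (y : Matrix (Fin 2) (Fin 2) F) = M},
          Z = ptm (Function.update 1 i y)} := htop ▸ Algebra.mem_top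
    induction hZ using Algebra.adjoin_induction with
    | mem M hM =>
      obtain ⟨i, _, ⟨y, hy, rfl⟩, rfl⟩ := hM
      refine Algebra.subset_adjoin ⟨ψ (Function.update 1 i y), hψN _ fun j => ?_, ?_⟩
      · rcases eq_or_ne j i with rfl | hj
        · rw [Function.update_self]; exact hy
        · rw [Function.update_of_ne hj]; exact ⟨by simp, Or.inr (one_mem _)⟩
      · show ((ψ (Function.update 1 i y) : GL ι F) : Matrix ι ι F) = _
        rw [hψ, ptmHom_val]
        congr 2
        funext j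
        rcases eq_or_ne j i with rfl | hj
        · simp
        · simp [Function.update_of_ne hj]
    | algebraMap r => rw [AlgEquiv.commutes]; exact Subalgebra.algebraMap_mem _ r
    | add a b _ _ ha hb => rw [map_add]; exact add_mem ha hb
    | mul a b _ _ ha hb => rw [map_mul]; exact mul_mem ha hb
  refine sympType_of_span hf hWsim hn hcard h2 hZN hnorm hspan hab hpow htr
    (card_classes_of_trace hne hspan htr) (fun g hg => ?_) fun A hAN hAn hAc g hgA => ?_
  · obtain ⟨y, hy, u, rfl⟩ := hmemN g hg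
    exact ⟨ψ y, hψN y hy, hiso y hy, by rw [(scl_comm u (ψ y)).eq, inv_mul_cancel_left]; exact scl_mem u⟩
  obtain ⟨y, hy, u, rfl⟩ := hmemN g (hAN hgA)
  by_contra hns
  obtain ⟨i, hi⟩ : ∃ i, y i ∉ scalars (Fin 2) F := by
    by_contra hcon
    simp only [not_exists, not_not] at hcon
    exact hns (mul_mem (scl_mem u) (ptmHom_mem_scalars e P hcon))
  set U : GL (Fin 2) F := Matrix.GeneralLinearGroup.mkOfDetNeZero !![1, 1; 0, 1] (by simp) with hU
  apply qEight_shear h3 (hy i) hi U rfl
  set x : Fin k → GL (Fin 2) F := Function.update 1 i U with hx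
  have hxW : ψ x ∈ W := H46.mem_tensorWreathSubgroup e P _ (by
    show (glCoords e P).symm (glCoords e P (glPtm x)) ∈ _
    rw [MulEquiv.symm_apply_apply]
    exact Subgroup.subset_closure (Or.inl ⟨x, fun _ _ => rfl⟩))
  have h1 := hAc _ hgA _ (hAn _ hxW _ hgA)
  have h4 : ψ x * (scl ι u * ψ y) * (ψ x)⁻¹ = scl ι u * ψ (x * y * x⁻¹) := by
    rw [← mul_assoc (ψ x), ← (scl_comm u (ψ x)).eq, map_mul, map_mul, map_inv]
    simp only [mul_assoc]
  rw [h4] at h1
  have h5 : ψ (y * (x * y * x⁻¹)) = ψ (x * y * x⁻¹ * y) := by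
    have e1 : ∀ a b : GL ι F, scl ι u * a * (scl ι u * b) = scl ι u * scl ι u * (a * b) := fun a b => by
      rw [mul_assoc (scl ι u) a, ← mul_assoc a, ← (scl_comm u a).eq]
      simp only [mul_assoc]
    rw [e1, e1, ← map_mul ψ, ← map_mul ψ] at h1
    exact mul_left_cancel h1
  -- compare the slot i
  set z : Fin k → GL (Fin 2) F := (x * y * x⁻¹ * y)⁻¹ * (y * (x * y * x⁻¹)) with hz
  have hz1 : ψ z = 1 := by rw [hz, map_mul, map_inv, h5, inv_mul_cancel]
  have hzj : ∀ j, j ≠ i → z j = 1 := fun j hj => by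
    simp [hz, hx, Function.update_of_ne hj]
  have hzi : z i = 1 := by
    apply Units.ext
    have h6 := congrArg Units.val hz1
    rw [hψ, ptmHom_val, Units.val_one, ← map_one (matCoords e P)] at h6
    have h7 := (matCoords e P).injective h6
    ext a b
    have h8 := congrFun (congrFun h7 (Function.update 0 i a)) (Function.update 0 i b)
    simp only [ptm, Matrix.of_apply] at h8
    rw [← Finset.mul_prod_erase _ _ (Finset.mem_univ i), Function.update_self, Function.update_self,
      Finset.prod_eq_one fun j hj => by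
        rw [hzj j (Finset.ne_of_mem_erase hj), Function.update_of_ne (Finset.ne_of_mem_erase hj),
          Function.update_of_ne (Finset.ne_of_mem_erase hj)]
        simp, mul_one] at h8
    rw [h8, Units.val_one]
    simp only [Matrix.one_apply, (Function.update_injective (0 : Fin k → Fin 2) i).eq_iff]
  have h9 : (x * y * x⁻¹ * y) i = (y * (x * y * x⁻¹)) i := inv_mul_eq_one.1 (by simpa [hz] using hzi)
  simpa [hx] using h9.symm

end FormAsch

end H51
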