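import Cfsg.Agent.H51.FormAsch.Core
import Cfsg.Agent.H45.SympForm
import Cfsg.Agent.H46.AschProper

/-!
The isometry group of a symplectic form lies in none of its geometric subgroups: every proof uses transvections.
-/

set_option autoImplicit false
set_option linter.unusedSectionVars false
set_option linter.style.haveILetI false

open Cfsg.Geo
open scoped Matrix MatrixGroups Kronecker

namespace H51

namespace FormAsch

variable {ι : Type} [Fintype ι] [DecidableEq ι] {F : Type*} [Field F]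
variable {f : (ι → F) → (ι → F) → F}

/-- A group with all transvections of a symplectic form. -/
def HasTransvections (f : (ι → F) → (ι → F) → F) (M : Subgroup (GL ι F)) : Prop :=
  ∀ (v : ι → F) (c : F), ∃ g ∈ M, ∀ x, (g : Matrix ι ι F) *ᵥ x = x + (c * f x v) • v

theorem spGL_transvection (m : ℕ) {F : Type*} [Field F] {M : Subgroup (GL (Fin m ⊕ Fin m) F)}
    (h : Cfsg.spGL m F ≤ M) : HasTransvections (Cfsg.sympForm m F) M :=
  fun v c => ⟨H45.stv v c, h (H45.stv_mem v c), fun x => H45.act_tv _ _ v c x⟩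

/-- Two vectors are separated by the form from a proper subspace. -/
theorem exists_out (hf : IsSymplecticForm f) {W : Submodule F (ι → F)} (hW : W ≠ ⊤) {w : ι → F} (hw : w ≠ 0) :
    ∃ v, v ∉ W ∧ f w v ≠ 0 := by
  obtain ⟨a, -, ha⟩ := SetLike.exists_of_lt (lt_top_iff_ne_top.2 hW)
  obtain ⟨b, hb⟩ := (hf.nondegenerate w hw).2
  by_cases h1 : f w a ≠ 0
  · exact ⟨a, ha, h1⟩
  push Not at h1
  by_cases h2 : b ∈ W
  · refine ⟨a + b, fun h => ha ((W.add_mem_iff_left h2).1 h), ?_⟩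
    rw [hf.bilinear.add_right, h1, zero_add]
    exact hb
  · exact ⟨b, h2, hb⟩

theorem not_transv_subspace (hf : IsSymplecticForm f) {W : Submodule F (ι → F)} (hb : W ≠ ⊥) (ht : W ≠ ⊤) :
    ¬ HasTransvections f (subspaceStabilizer W) := by
  intro h
  obtain ⟨w, hw, hw0⟩ := W.exists_mem_ne_zero_of_ne_bot hb
  obtain ⟨v, hv, hfv⟩ := exists_out hf ht hw0
  obtain ⟨g, hg, hgx⟩ := h v 1
  have h1 : (g : Matrix ι ι F) *ᵥ w ∈ W := (hg w).1 hw
  rw [hgx, one_mul] at h1
  exact hv ((W.smul_mem_iff hfv).1 ((W.add_mem_iff_right hw).1 h1))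

theorem not_transv_decomposition (hf : IsSymplecticForm f) {t k : ℕ} {D : Fin t → Submodule F (ι → F)}
    (hD : IsMDecomposition k D) (hk : 2 ≤ k) : ¬ HasTransvections f (decompositionStabilizer D) := by
  intro h
  have h0 : 0 < t := by linarith [hD.two_le]
  set i0 : Fin t := ⟨0, h0⟩
  set i1 : Fin t := ⟨1, hD.two_le⟩
  have hne : i0 ≠ i1 := by simp [i0, i1, Fin.ext_iff]
  have hdis : Disjoint (D i0) (D i1) := hD.indep.pairwiseDisjoint hne
  have hbot : ∀ i, D i ≠ ⊥ := fun i e => by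
    have h1 := hD.finrank_eq i
    rw [e, finrank_bot] at h1
    omega
  have htop : D i0 ≠ ⊤ := fun e => by
    rw [e] at hdis
    exact hbot i1 (disjoint_top.1 hdis.symm)
  obtain ⟨w, hw, hw0⟩ := (D i0).exists_mem_ne_zero_of_ne_bot (hbot i0)
  obtain ⟨v, hv, hfv⟩ := exists_out hf htop hw0
  obtain ⟨g, ⟨s, hs⟩, hgx⟩ := h v 1
  -- a vector of the member fixed by the transvection
  obtain ⟨y, hy, hy0, hyv⟩ : ∃ y ∈ D i0, y ≠ 0 ∧ f y v = 0 := by
    by_contra hcon
    push Not at hcon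
    have h1 : D i0 ≤ Submodule.span F {w} := fun y hy => by
      refine Submodule.mem_span_singleton.2 ⟨(f w v)⁻¹ * f y v, ?_⟩
      by_contra hne'
      refine hcon (y - ((f w v)⁻¹ * f y v) • w) (sub_mem hy ((D i0).smul_mem _ hw))
        (sub_ne_zero.2 (Ne.symm hne')) ?_
      rw [(SForm.of_symplectic hf).sub_left, hf.bilinear.smul_left]
      field_simp
      ring
    have h2 := Submodule.finrank_mono h1
    rw [hD.finrank_eq, finrank_span_singleton hw0] at h2
    omega
  have hfix : s i0 = i0 := by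
    by_contra hne'
    have h1 : (g : Matrix ι ι F) *ᵥ y ∈ D (s i0) := by
      rw [← hs i0]
      exact ⟨y, hy, Matrix.toLin'_apply _ _⟩
    rw [hgx, hyv, mul_zero, zero_smul, add_zero] at h1
    exact hy0 (Submodule.disjoint_def.1 (hD.indep.pairwiseDisjoint (Ne.symm hne')) y hy h1)
  have h1 : (g : Matrix ι ι F) *ᵥ w ∈ D i0 := by
    conv => rw [← hfix, ← hs i0]
    exact ⟨w, hw, Matrix.toLin'_apply _ _⟩
  rw [hgx, one_mul] at h1
  exact hv ((D i0).smul_mem_iff hfv |>.1 (((D i0).add_mem_iff_right hw).1 h1))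

/-- A normalised set of matrices whose non-zero differences have rank at least three is scalar. -/
theorem scalar_of_transv_normalized (hf : IsSymplecticForm f) [Nonempty ι] {M : Subgroup (GL ι F)}
    (h : HasTransvections f M) {S : Set (Matrix ι ι F)}
    (hnorm : ∀ g ∈ M, ∀ s ∈ S, (g : Matrix ι ι F) * s * ((g⁻¹ : GL ι F) : Matrix ι ι F) ∈ S)
    (hrank : ∀ s ∈ S, ∀ t ∈ S, ∀ v w : ι → F,
      (∀ x, (s - t) *ᵥ x ∈ Submodule.span F {v, w}) → s = t) :
    ∀ k ∈ S, ∃ c : F, k = c • 1 := by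
  intro k hk
  have key : ∀ v, ∃ a : F, k *ᵥ v = a • v := by
    intro v
    rcases eq_or_ne v 0 with rfl | hv
    · exact ⟨0, by simp⟩
    obtain ⟨g, hg, hgx⟩ := h v 1
    obtain ⟨x, hx⟩ := (hf.nondegenerate v hv).1
    set j := (g : Matrix ι ι F) * k * ((g⁻¹ : GL ι F) : Matrix ι ι F)
    have hjg : ∀ z, j *ᵥ ((g : Matrix ι ι F) *ᵥ z) = (g : Matrix ι ι F) *ᵥ (k *ᵥ z) := by
      intro z
      rw [Matrix.mulVec_mulVec, Matrix.mulVec_mulVec, mul_assoc, ← Units.val_mul, inv_mul_cancel,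
        Units.val_one, mul_one]
    have hsurj : ∀ u, ∃ z, u = (g : Matrix ι ι F) *ᵥ z := fun u =>
      ⟨((g⁻¹ : GL ι F) : Matrix ι ι F) *ᵥ u, by
        rw [Matrix.mulVec_mulVec, ← Units.val_mul, mul_inv_cancel, Units.val_one, Matrix.one_mulVec]⟩
    have hjk : j = k := hrank j (hnorm g hg k hk) k hk v (k *ᵥ v) fun u => by
      obtain ⟨z, rfl⟩ := hsurj u
      rw [Matrix.sub_mulVec, hjg, hgx, hgx, Matrix.mulVec_add, Matrix.mulVec_smul, Submodule.mem_span_pair]
      exact ⟨1 * f (k *ᵥ z) v, -(1 * f z v), by module⟩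
    have h1 := hjg x
    rw [hjk, hgx, hgx, one_mul, one_mul, Matrix.mulVec_add, Matrix.mulVec_smul] at h1
    refine ⟨(f x v)⁻¹ * f (k *ᵥ x) v, ?_⟩
    rw [mul_smul, ← add_left_cancel h1, inv_smul_smul₀ hx]
  choose a ha using key
  obtain ⟨i₀⟩ := ‹Nonempty ι›
  refine ⟨a (Pi.single i₀ 1), Matrix.ext_of_mulVec_single fun i => ?_⟩
  rw [ha, Matrix.smul_mulVec, Matrix.one_mulVec]
  congr 1
  by_contra hne
  have hii : i ≠ i₀ := fun e => hne (by rw [e])
  have h2 := ha (Pi.single i 1 + Pi.single i₀ 1)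
  rw [Matrix.mulVec_add, ha, ha] at h2
  have e1 := congrFun h2 i
  have e2 := congrFun h2 i₀
  simp [hii, hii.symm] at e1 e2
  exact hne (e1.trans e2.symm)

theorem not_transv_field (hf : IsSymplecticForm f) (hn : 3 ≤ Fintype.card ι) {r : ℕ} (hr : r ≠ 1)
    {K : Subalgebra F (Matrix ι ι F)} (hK : IsFieldSubalgebra r K) :
    ¬ HasTransvections f (subalgebraNormalizer K) := by
  intro h
  haveI : Nonempty ι := Fintype.card_pos_iff.1 (by omega)
  have hKb : K ≠ ⊥ := by
    rintro rfl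
    exact hr (hK.finrank_eq.symm.trans Subalgebra.finrank_bot)
  apply hKb
  rw [eq_bot_iff]
  intro k hk
  obtain ⟨c, rfl⟩ := scalar_of_transv_normalized hf h (S := (K : Set (Matrix ι ι F)))
    (fun g hg s hs => (hg s).1 hs) (fun s hs t ht v w hvw => by
      by_contra hne
      obtain ⟨Y, -, hY⟩ := hK.inv _ (sub_mem hs ht) (sub_ne_zero.2 hne)
      refine one_ne_zero (α := F) (H46.eq_zero_of_submatrix (D := (1 : Matrix ι ι F)) (v := v) (w := w)
        (fun u => ?_) hn id id 1 fun a b => by simp [Matrix.one_apply])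
      rw [← hY, ← Matrix.mulVec_mulVec]
      exact hvw _) k hk
  exact Algebra.mem_bot.2 ⟨c, by rw [Algebra.algebraMap_eq_smul_one]⟩

theorem not_transv_tensor (hf : IsSymplecticForm f) {n₁ n₂ : ℕ} (h1 : 2 ≤ n₁) (h2 : 3 ≤ n₂)
    (e : ι ≃ Fin n₁ × Fin n₂) (P : GL ι F) :
    ¬ HasTransvections f (tensorProductSubgroup n₁ n₂ e P) := by
  intro h
  haveI : Nonempty (Fin n₂) := ⟨⟨0, by omega⟩⟩
  haveI : Nonempty ι := ⟨e.symm (⟨0, by omega⟩, ⟨0, by omega⟩)⟩
  set Ψ := fun Y => H46.matCoords e P (H46.kronOne (Fin n₁) (Fin n₂) F Y) with hΨ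
  have hsc := scalar_of_transv_normalized hf h (S := Set.range Ψ) (by
    rintro _ ⟨_, ⟨h, ⟨a, b, hab⟩, rfl⟩, rfl⟩ _ ⟨Y, rfl⟩
    refine ⟨H46.glConj a Y, ?_⟩
    show _ = H46.glConj (H46.glCoords e P h) _
    rw [H46.glConj_apply (H46.glCoords e P h), ← map_inv, H46.glCoords_val, H46.glCoords_val]
    simp only [hΨ, ← map_mul]
    congr 1
    obtain rfl : h = H46.glKron a b := Units.ext hab
    show _ = (a : Matrix (Fin n₁) (Fin n₁) F) ⊗ₖ (b : Matrix (Fin n₂) (Fin n₂) F) * _ *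
      (((a⁻¹ : GL (Fin n₁) F) : Matrix (Fin n₁) (Fin n₁) F) ⊗ₖ
        ((b⁻¹ : GL (Fin n₂) F) : Matrix (Fin n₂) (Fin n₂) F))
    rw [H46.kronOne_apply, H46.kronOne_apply, ← Matrix.mul_kronecker_mul, ← Matrix.mul_kronecker_mul,
      mul_one, ← Units.val_mul b, mul_inv_cancel, Units.val_one, H46.glConj_apply]) (by
    rintro _ ⟨Y, rfl⟩ _ ⟨Y', rfl⟩ v w hvw
    refine congrArg Ψ (Matrix.ext fun p q => ?_)
    by_contra hne
    simp only [hΨ, ← map_sub] at hvw
    refine sub_ne_zero.2 hne (H46.eq_zero_of_submatrix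
      (D := ((H46.kronOne (Fin n₁) (Fin n₂) F (Y - Y')).submatrix e e))
      (v := ((P⁻¹ : GL ι F) : Matrix ι ι F) *ᵥ v) (w := ((P⁻¹ : GL ι F) : Matrix ι ι F) *ᵥ w)
      (fun u => ?_) (κ := Fin n₂) (by simpa using h2) (fun a => e.symm (p, a)) (fun a => e.symm (q, a))
      _ fun a b => by simp [H46.kronOne_apply, Matrix.one_apply])
    obtain ⟨α, β, hab⟩ := Submodule.mem_span_pair.1 (hvw ((P : Matrix ι ι F) *ᵥ u))
    refine Submodule.mem_span_pair.2 ⟨α, β, ?_⟩
    rw [← Matrix.mulVec_smul, ← Matrix.mulVec_smul, ← Matrix.mulVec_add, hab]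
    show ((P⁻¹ : GL ι F) : Matrix ι ι F) *ᵥ ((H46.glConj P _) *ᵥ _) = _
    rw [H46.glConj_apply, Matrix.mulVec_mulVec, Matrix.mulVec_mulVec, ← Matrix.mul_assoc, ← Matrix.mul_assoc,
      ← Units.val_mul, inv_mul_cancel, Units.val_one, one_mul, Matrix.mul_assoc, ← Units.val_mul, inv_mul_cancel,
      Units.val_one, mul_one]
    rfl)
  set i0 : Fin n₁ := ⟨0, by omega⟩
  set i1 : Fin n₁ := ⟨1, by omega⟩
  obtain ⟨c, hc⟩ := hsc _ ⟨Matrix.single i0 i1 (1 : F), rfl⟩
  have hinj : Function.Injective Ψ := fun X Y hXY =>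
    H46.kronOne_injective ((H46.matCoords e P).injective hXY)
  have hc' : Matrix.single i0 i1 (1 : F) = c • 1 := hinj (by
    rw [hc]
    simp [hΨ, map_smul, map_one])
  have h3 := congrFun (congrFun hc' i0) i1
  simp [i0, i1, Fin.ext_iff] at h3

theorem not_transv_subfield (hf : IsSymplecticForm f) (hn : 2 ≤ Fintype.card ι) {F₀ : Subfield F} (hF₀ : F₀ ≠ ⊤)
    (P : GL ι F) : ¬ HasTransvections f (subfieldSubgroup F₀ P) := by
  intro h
  obtain ⟨i, k, hki⟩ := Fintype.exists_pair_of_one_lt_card (α := ι) (by omega)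
  set u := fun j => f ((P : Matrix ι ι F) *ᵥ Pi.single j 1) ((P : Matrix ι ι F) *ᵥ Pi.single i 1)
  obtain ⟨j, hj⟩ : ∃ j, u j ≠ 0 := by
    by_contra hcon
    push Not at hcon
    have hv : (P : Matrix ι ι F) *ᵥ Pi.single i 1 ≠ 0 := fun e => by
      have h1 := congrArg (fun z => ((P⁻¹ : GL ι F) : Matrix ι ι F) *ᵥ z) e
      simp only [Matrix.mulVec_mulVec, ← Units.val_mul, inv_mul_cancel, Units.val_one, Matrix.one_mulVec,
        Matrix.mulVec_zero] at h1
      simpa using congrFun h1 i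
    obtain ⟨x, hx⟩ := (hf.nondegenerate _ hv).1
    apply hx
    set y := ((P⁻¹ : GL ι F) : Matrix ι ι F) *ᵥ x
    have hxy : x = (P : Matrix ι ι F) *ᵥ y := by
      rw [Matrix.mulVec_mulVec, ← Units.val_mul, mul_inv_cancel, Units.val_one, Matrix.one_mulVec]
    rw [hxy, pi_eq_sum_univ' y, Matrix.mulVec_sum, (SForm.of_symplectic hf).sum_left]
    refine Finset.sum_eq_zero fun a _ => ?_
    rw [Matrix.mulVec_smul, hf.bilinear.smul_left]
    exact mul_eq_zero_of_right _ (hcon a)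
  apply hF₀
  rw [eq_top_iff]
  intro c _
  obtain ⟨g, hg, hgx⟩ := h ((P : Matrix ι ι F) *ᵥ Pi.single i 1) (c * (u j)⁻¹)
  obtain ⟨p, hp, rfl⟩ := hg
  obtain ⟨a, ⟨A, rfl⟩, z, ⟨zu, rfl⟩, rfl⟩ := Subgroup.mem_sup_of_normal_right.1 hp
  set a : GL ι F := Matrix.GeneralLinearGroup.map (F₀.subtype : F₀ →+* F) A
  set s : GL ι F := Units.map (Matrix.scalar ι : F →+* Matrix ι ι F).toMonoidHom zu
  have hent : ∀ x y, (a : Matrix ι ι F) x y ∈ F₀ := fun x y => ((A : Matrix ι ι F₀) x y).2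
  have hcol : ∀ x y, (zu : F) * (a : Matrix ι ι F) x y =
      (Pi.single y 1 + (c * (u j)⁻¹ * u y) • Pi.single i 1 : ι → F) x := by
    intro x y
    have h1 := hgx ((P : Matrix ι ι F) *ᵥ Pi.single y 1)
    change ((P * (a * s) * P⁻¹ : GL ι F) : Matrix ι ι F) *ᵥ _ = _ at h1
    rw [Matrix.mulVec_mulVec, ← Units.val_mul, inv_mul_cancel_right, Units.val_mul,
      ← Matrix.mulVec_mulVec, ← Matrix.mulVec_smul, ← Matrix.mulVec_add] at h1
    have h2 := congrFun (Matrix.mulVec_injective_of_isUnit P.isUnit h1) x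
    rw [← h2, Matrix.mulVec_single_one]
    simp [s, Matrix.scalar_apply, Matrix.mul_diagonal, mul_comm]
  have h1 : (zu : F) * (a : Matrix ι ι F) k k = 1 := by
    rw [hcol]; simp [hki.symm]
  have hz : (zu : F) ∈ F₀ := by
    rw [eq_inv_of_mul_eq_one_left h1]
    exact inv_mem (hent k k)
  have h2 : c * (u j)⁻¹ * u j + (Pi.single j 1 : ι → F) i ∈ F₀ := by
    have h3 := hcol i j
    simp only [Pi.add_apply, Pi.smul_apply, Pi.single_eq_same, smul_eq_mul, mul_one] at h3
    rw [add_comm, ← h3]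
    exact mul_mem hz (hent i j)
  rw [inv_mul_cancel_right₀ hj] at h2
  have h4 : (Pi.single j 1 : ι → F) i ∈ F₀ := by
    rw [Pi.single_apply]
    split
    · exact one_mem _
    · exact zero_mem _
  simpa using sub_mem h2 h4

theorem not_transv_quad (hf : IsSymplecticForm f) (hn : 3 ≤ Fintype.card ι) {Q : (ι → F) → F}
    (hQ : IsNondegenerateQuadraticForm Q) (hp : ∀ u v, QuadraticMap.polar Q u v = f u v) :
    ¬ HasTransvections f (quadSimilarityGroup Q) := by
  intro h
  have hs := SForm.of_symplectic hf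
  have hadd : ∀ x y, Q (x + y) = Q x + Q y + f x y := fun x y => by
    rw [← hp]; simp [QuadraticMap.polar]
  -- a hyperbolic projection leaves room for a non-singular vector
  have hperp : ∀ v, v ≠ 0 → ∃ u, f u v = 0 ∧ Q u ≠ 0 := by
    intro v hv
    by_contra hcon
    push Not at hcon
    obtain ⟨w, hw⟩ := (hf.nondegenerate v hv).2
    have hw' : f w v ≠ 0 := fun e => hw (hs.eq_zero_comm e)
    have hW : Submodule.span F {v, w} ≠ ⊤ := fun e => by
      have h1 : Module.finrank F (Submodule.span F ({v, w} : Set (ι → F))) ≤ 2 := by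
        classical
        have h2 : ({v, w} : Set (ι → F)) = (({v, w} : Finset (ι → F)) : Set (ι → F)) := by simp
        rw [h2]
        exact (finrank_span_finset_le_card _).trans Finset.card_le_two
      rw [e, finrank_top, Module.finrank_fintype_fun_eq_card] at h1
      omega
    obtain ⟨a, -, ha⟩ := SetLike.exists_of_lt (lt_top_iff_ne_top.2 hW)
    set b := a - (f a v * (f w v)⁻¹) • w
    have hbv : f b v = 0 := by
      rw [hs.sub_left, hf.bilinear.smul_left, inv_mul_cancel_right₀ hw', sub_self]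
    set b' := b - (f b w * (f v w)⁻¹) • v
    have hb'v : f b' v = 0 := by
      rw [hs.sub_left, hf.bilinear.smul_left, hbv, hf.alternating, mul_zero, sub_zero]
    have hb'w : f b' w = 0 := by
      rw [hs.sub_left, hf.bilinear.smul_left, inv_mul_cancel_right₀ hw, sub_self]
    have hb'0 : b' ≠ 0 := by
      intro e
      apply ha
      have e1 : a = (f a v * (f w v)⁻¹) • w + (f b w * (f v w)⁻¹) • v := by
        rw [← sub_eq_zero.1 e, add_sub_cancel]
      rw [e1]
      exact add_mem (Submodule.smul_mem _ _ (Submodule.subset_span (by simp)))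
        (Submodule.smul_mem _ _ (Submodule.subset_span (by simp)))
    obtain ⟨x, hx⟩ := (hf.nondegenerate b' hb'0).2
    set x' := x - (f x v * (f w v)⁻¹) • w
    have hx'v : f x' v = 0 := by
      rw [hs.sub_left, hf.bilinear.smul_left, inv_mul_cancel_right₀ hw', sub_self]
    have hfx : f b' x' = f b' x := by
      rw [hs.sub_right, hf.bilinear.smul_right, hb'w, mul_zero, sub_zero]
    have h3 := hadd b' x'
    rw [hcon _ hb'v, hcon _ hx'v, hcon _ (by rw [hf.bilinear.add_left, hb'v, hx'v, add_zero]), hfx] at h3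
    exact hx (by simpa using h3.symm)
  -- every non-zero vector has value minus one
  have hone : ∀ v, v ≠ 0 → Q v + 1 = 0 := by
    intro v hv
    obtain ⟨u, hu, hQu⟩ := hperp v hv
    obtain ⟨g, ⟨l, hl⟩, hgx⟩ := h v 1
    have hl1 : (l : F) = 1 := by
      have h1 := hl u
      rw [hgx, hu, mul_zero, zero_smul, add_zero] at h1
      exact mul_eq_right₀ hQu |>.1 h1.symm
    obtain ⟨x, hx⟩ := (hf.nondegenerate v hv).1
    have h1 := hl x
    rw [hgx, one_mul, hl1, one_mul, hadd, hQ.smul, hf.bilinear.smul_right] at h1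
    have h2 : f x v ^ 2 * (Q v + 1) = 0 := by linear_combination h1
    exact (mul_eq_zero.1 h2).resolve_left (pow_ne_zero _ hx)
  have hQv : ∀ v, v ≠ 0 → Q v = -1 := fun v hv => eq_neg_of_add_eq_zero_left (hone v hv)
  obtain ⟨i⟩ : Nonempty ι := Fintype.card_pos_iff.1 (by omega)
  have hv : (Pi.single i 1 : ι → F) ≠ 0 := fun e => by simpa using congrFun e i
  obtain ⟨u', hu', hu'v⟩ : ∃ u', f u' (Pi.single i 1) = 0 ∧ u' ∉ Submodule.span F {(Pi.single i 1 : ι → F)} := by
    by_contra hcon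
    push Not at hcon
    obtain ⟨w, hw⟩ := (hf.nondegenerate _ hv).1
    have hall : ∀ a, a ∈ Submodule.span F ({(Pi.single i 1 : ι → F), w} : Set (ι → F)) := fun a => by
      have h4 := hcon (a - (f a (Pi.single i 1) * (f w (Pi.single i 1))⁻¹) • w) (by
        rw [hs.sub_left, hf.bilinear.smul_left, inv_mul_cancel_right₀ hw, sub_self])
      obtain ⟨s, hs'⟩ := Submodule.mem_span_singleton.1 h4
      exact Submodule.mem_span_pair.2 ⟨s, _, by rw [hs', sub_add_cancel]⟩
    have h4 : Module.finrank F (Submodule.span F ({(Pi.single i 1 : ι → F), w} : Set (ι → F))) ≤ 2 := by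
      classical
      have h2 : ({(Pi.single i 1 : ι → F), w} : Set (ι → F)) =
          (({Pi.single i 1, w} : Finset (ι → F)) : Set (ι → F)) := by simp
      rw [h2]
      exact (finrank_span_finset_le_card _).trans Finset.card_le_two
    rw [Submodule.eq_top_iff'.2 hall, finrank_top, Module.finrank_fintype_fun_eq_card] at h4
    omega
  have hu'0 : u' ≠ 0 := fun e => hu'v (by rw [e]; exact zero_mem _)
  have h5 := hadd u' (Pi.single i 1)
  have hne : u' + Pi.single i 1 ≠ 0 := fun e => hu'v (by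
    rw [eq_neg_of_add_eq_zero_left e]; exact neg_mem (Submodule.mem_span_singleton_self _))
  rw [hu', hQv u' hu'0, hQv _ hv, hQv _ hne] at h5
  exact one_ne_zero (α := F) (by linear_combination h5)

end FormAsch

end H51
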