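import Cfsg.Agent.H51.FormAsch.AbelianSymp
import Cfsg.Agent.H51.FormAsch.PowerThree

/-!
A group generated by a quaternion pair and a dihedral pair of isometries in dimension four is of symplectic type.
-/

set_option autoImplicit false
set_option linter.unusedSectionVars false
set_option linter.style.haveILetI false
set_option maxHeartbeats 1000000

open Cfsg.Geo
open scoped Matrix MatrixGroups

namespace H51

namespace FormAsch

open H46 (scl scl_mem scl_val exists_scl scl_comm scl_injective scl_mul_val mem_matrixSet mem_scalars_of_commute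
  adjoin_matrixSet_eq_span)

variable {ι : Type} [Fintype ι] [DecidableEq ι] {F : Type*} [Field F] [Fintype F]

/-- Two invertible matrices commute up to the given sign. -/
def SignComm (u : Fˣ) (a y : GL ι F) : Prop := a * y = scl ι u * (y * a)

theorem SignComm.mul {u v : Fˣ} {a b y : GL ι F} (ha : SignComm u a y) (hb : SignComm v b y) :
    SignComm (u * v) (a * b) y := by
  unfold SignComm at *
  rw [mul_assoc, hb, ← mul_assoc a, ← (scl_comm v a).eq, mul_assoc, ← mul_assoc a, ha, mul_comm u v, map_mul]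
  simp only [mul_assoc]

theorem SignComm.one (y : GL ι F) : SignComm 1 (1 : GL ι F) y := by simp [SignComm]

theorem SignComm.inv {u : Fˣ} {a y : GL ι F} (ha : SignComm u a y) : SignComm u⁻¹ a⁻¹ y := by
  unfold SignComm at *
  have h1 : y * a = scl ι u⁻¹ * (a * y) := by
    rw [ha, ← mul_assoc, ← map_mul, inv_mul_cancel, map_one, one_mul]
  calc a⁻¹ * y = a⁻¹ * (y * a) * a⁻¹ := by simp [mul_assoc]
    _ = scl ι u⁻¹ * (y * a⁻¹) := by
      rw [h1, ← mul_assoc a⁻¹, ← (scl_comm u⁻¹ a⁻¹).eq]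
      simp [mul_assoc]

theorem SignComm.symm {u : Fˣ} {a y : GL ι F} (ha : SignComm u a y) : SignComm u⁻¹ y a := by
  unfold SignComm at *
  rw [ha, ← mul_assoc, ← map_mul, inv_mul_cancel, map_one, one_mul]

theorem SignComm.pow {u : Fˣ} {a y : GL ι F} (ha : SignComm u a y) (n : ℕ) : SignComm (u ^ n) (a ^ n) y := by
  induction n with
  | zero => simpa using SignComm.one y
  | succ n ih => rw [pow_succ, pow_succ]; exact ih.mul ha

theorem signComm_scl (c : Fˣ) (y : GL ι F) : SignComm 1 (scl ι c) y := by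
  simpa [SignComm] using (scl_comm c y).eq

/-- The elements commuting up to sign with a given one. -/
def signStab (y : GL ι F) : Subgroup (GL ι F) where
  carrier := {a | ∃ u : Fˣ, (u = 1 ∨ u = -1) ∧ SignComm u a y}
  one_mem' := ⟨1, Or.inl rfl, SignComm.one y⟩
  mul_mem' := by
    rintro a b ⟨u, hu, ha⟩ ⟨v, hv, hb⟩
    refine ⟨u * v, ?_, ha.mul hb⟩
    rcases hu with rfl | rfl <;> rcases hv with rfl | rfl <;> simp
  inv_mem' := by
    rintro a ⟨u, hu, ha⟩
    refine ⟨u⁻¹, ?_, ha.inv⟩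
    rcases hu with rfl | rfl <;> simp

theorem trace_eq_zero_of_signComm (h2 : (2 : F) ≠ 0) {a y : GL ι F} (h : SignComm (-1) a y) :
    (a : Matrix ι ι F).trace = 0 := by
  have h1 : y⁻¹ * a * y = scl ι (-1) * a := by
    rw [mul_assoc, show a * y = _ from h, ← mul_assoc, ← (scl_comm (-1 : Fˣ) y⁻¹).eq]
    simp [mul_assoc]
  have h3 := congrArg (fun z : GL ι F => (z : Matrix ι ι F).trace) h1
  simp only [scl_mul_val, Matrix.trace_smul] at h3
  rw [Units.val_mul, Matrix.trace_mul_comm, ← Units.val_mul, ← mul_assoc, mul_inv_cancel, one_mul] at h3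
  have h4 : (2 : F) * (a : Matrix ι ι F).trace = 0 := by
    simp at h3
    linear_combination h3
  exact (mul_eq_zero.1 h4).resolve_left h2

theorem units_ne_neg (h2 : (2 : F) ≠ 0) : (1 : Fˣ) ≠ -1 := fun h => h2 (by
  have := congrArg Units.val h
  simp at this
  linear_combination this)

/-- Conjugation into a finite subgroup normalises it. -/
theorem mem_normalizer_of_conj {G : Type*} [Group G] [Finite G] {N : Subgroup G} {g : G}
    (h : ∀ x ∈ N, g * x * g⁻¹ ∈ N) : g ∈ Subgroup.normalizer (N : Set G) := by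
  have he : N.map (MulAut.conj g).toMonoidHom = N := by
    refine Subgroup.eq_of_le_of_card_ge ?_ ?_
    · rintro _ ⟨x, hx, rfl⟩
      exact h x hx
    · rw [Nat.card_congr (Subgroup.equivMapOfInjective N (MulAut.conj g).toMonoidHom (MulAut.conj g).injective).toEquiv]
  rw [Subgroup.mem_normalizer_iff]
  intro x
  refine ⟨h x, fun hx => ?_⟩
  have hx' : g * x * g⁻¹ ∈ N.map (MulAut.conj g).toMonoidHom := he.symm ▸ hx
  obtain ⟨y, hy, hyx⟩ := hx'
  obtain rfl : y = x := (MulAut.conj g).injective hyx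
  exact hy

/-- A quaternion pair and a dihedral pair, commuting with each other. -/
structure QuatPairs (f : (ι → F) → (ι → F) → F) (q₀ q₁ j x : GL ι F) : Prop where
  sq_q₀ : q₀ * q₀ = scl ι (-1)
  sq_q₁ : q₁ * q₁ = scl ι (-1)
  sq_j : j * j = scl ι (-1)
  sq_x : x * x = 1
  anti_q : SignComm (-1) q₁ q₀
  anti_jx : SignComm (-1) x j
  comm_q₀j : SignComm 1 q₀ j
  comm_q₀x : SignComm 1 q₀ x
  comm_q₁j : SignComm 1 q₁ j
  comm_q₁x : SignComm 1 q₁ x
  isometry : ∀ y ∈ ({q₀, q₁, j, x} : Set (GL ι F)), ∀ u v,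
    f ((y : Matrix ι ι F) *ᵥ u) ((y : Matrix ι ι F) *ᵥ v) = f u v

/-- The group generated by the two pairs and the scalars. -/
def pairsGroup (q₀ q₁ j x : GL ι F) : Subgroup (GL ι F) :=
  Subgroup.closure {q₀, q₁, j, x} ⊔ scalars ι F

/-- In dimension four the two pairs give a normalised group of symplectic type. -/
theorem sympType_of_pairs {f : (ι → F) → (ι → F) → F} (hf : IsSymplecticForm f) (h2 : (2 : F) ≠ 0)
    (hc : Fintype.card ι = 4) {q₀ q₁ j x : GL ι F} (hQ : QuatPairs f q₀ q₁ j x) :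
    (∃ (p : ℕ) (R : Subgroup (GL ι F)), p.Prime ∧ Odd p ∧ Fintype.card F = p ∧ IsSymplecticTypeGroup 2 R ∧
      ActsAbsolutelyIrreducibly (matrixSet R) ∧
      (∀ x ∈ R, ∀ u v, f ((x : Matrix ι ι F) *ᵥ u) ((x : Matrix ι ι F) *ᵥ v) = f u v) ∧
      Nat.card R = 2 ^ (1 + 2 * 2) ∧ Nat.card (Subgroup.center R) = 2 ∧ IsOfMinusType 2 R ∧
      (∃ x ∈ R, x * x = 1 ∧ x ∉ scalars ι F) ∧
      similarityGroup f ⊓ Subgroup.normalizer (pairsGroup q₀ q₁ j x : Set (GL ι F)) ≤ subgroupNormalizer R) ∨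
    ∃ (F₁ : Subfield F) (s : ℕ) (P : GL ι F) (ζ : F), s.Prime ∧ Fintype.card F = Nat.card F₁ ^ s ∧
      ζ ≠ 0 ∧ IsFormRationalStructure f F₁ ζ P ∧
      similarityGroup f ⊓ Subgroup.normalizer (pairsGroup q₀ q₁ j x : Set (GL ι F)) ≤ subfieldSubgroup F₁ P := by
  classical
  haveI : Nonempty ι := Fintype.card_pos_iff.1 (by omega)
  have hpm := units_ne_neg h2
  set N := pairsGroup q₀ q₁ j x with hN
  have hgen : ∀ y ∈ ({q₀, q₁, j, x} : Set (GL ι F)), y ∈ N :=
    fun y hy => Subgroup.mem_sup_left (Subgroup.subset_closure hy)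
  have hq₀ : q₀ ∈ N := hgen _ (by simp)
  have hq₁ : q₁ ∈ N := hgen _ (by simp)
  have hj : j ∈ N := hgen _ (by simp)
  have hx : x ∈ N := hgen _ (by simp)
  have hZN : scalars ι F ≤ N := le_sup_right
  have hself : ∀ a : GL ι F, SignComm 1 a a := fun a => by simp [SignComm]
  have hle : ∀ y, q₀ ∈ signStab y → q₁ ∈ signStab y → j ∈ signStab y → x ∈ signStab y → N ≤ signStab y := by
    intro y h0 h1 hj hx
    refine sup_le ((Subgroup.closure_le _).2 ?_) ?_
    · rintro a (rfl | rfl | rfl | rfl) <;> assumption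
    · rintro a ha
      obtain ⟨c, rfl⟩ := exists_scl ha
      exact ⟨1, Or.inl rfl, signComm_scl c y⟩
  have hm : ∀ {u : Fˣ} {a y : GL ι F}, (u = 1 ∨ u = -1) → SignComm u a y → a ∈ signStab y :=
    fun hu h => ⟨_, hu, h⟩
  have hinv : ∀ {u : Fˣ}, (u = 1 ∨ u = -1) → u⁻¹ = 1 ∨ u⁻¹ = -1 := fun hu => by
    rcases hu with rfl | rfl <;> simp
  have hgens : ∀ y ∈ ({q₀, q₁, j, x} : Set (GL ι F)), N ≤ signStab y := by
    rintro y (rfl | rfl | rfl | rfl)
    · exact hle _ (hm (.inl rfl) (hself _)) (hm (.inr rfl) hQ.anti_q)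
        (hm (hinv (.inl rfl)) hQ.comm_q₀j.symm) (hm (hinv (.inl rfl)) hQ.comm_q₀x.symm)
    · exact hle _ (hm (hinv (.inr rfl)) hQ.anti_q.symm) (hm (.inl rfl) (hself _))
        (hm (hinv (.inl rfl)) hQ.comm_q₁j.symm) (hm (hinv (.inl rfl)) hQ.comm_q₁x.symm)
    · exact hle _ (hm (.inl rfl) hQ.comm_q₀j) (hm (.inl rfl) hQ.comm_q₁j)
        (hm (.inl rfl) (hself _)) (hm (.inr rfl) hQ.anti_jx)
    · exact hle _ (hm (.inl rfl) hQ.comm_q₀x) (hm (.inl rfl) hQ.comm_q₁x)
        (hm (hinv (.inr rfl)) hQ.anti_jx.symm) (hm (.inl rfl) (hself _))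
  -- all pairs commute up to sign
  have hall : ∀ a ∈ N, ∀ b ∈ N, ∃ u : Fˣ, (u = 1 ∨ u = -1) ∧ SignComm u a b := by
    intro a ha b hb
    have h : N ≤ signStab a := by
      refine hle _ ?_ ?_ ?_ ?_ <;>
      · refine (fun ⟨u, hu, h⟩ => ⟨u⁻¹, hinv hu, h.symm⟩ : ∀ {y}, a ∈ signStab y → y ∈ signStab a) (hgens _ ?_ ha)
        simp
    obtain ⟨u, hu, h'⟩ := h hb
    exact ⟨u⁻¹, hinv hu, h'.symm⟩
  -- the monomials are independent
  let m : Fin 2 × Fin 2 × Fin 2 × Fin 2 → GL ι F := fun i =>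
    q₀ ^ (i.1 : ℕ) * q₁ ^ (i.2.1 : ℕ) * (j ^ (i.2.2.1 : ℕ) * x ^ (i.2.2.2 : ℕ))
  have hsq : ∀ i, SignComm ((-1) ^ (i.2.1 : ℕ)) (m i) q₀ ∧ SignComm ((-1) ^ (i.1 : ℕ)) (m i) q₁ ∧
      SignComm ((-1) ^ (i.2.2.2 : ℕ)) (m i) j ∧ SignComm ((-1) ^ (i.2.2.1 : ℕ)) (m i) x := by
    intro i
    refine ⟨?_, ?_, ?_, ?_⟩
    · simpa using (((hself q₀).pow i.1).mul (hQ.anti_q.pow i.2.1)).mul
        ((hQ.comm_q₀j.symm.pow i.2.2.1).mul (hQ.comm_q₀x.symm.pow i.2.2.2))
    · simpa using ((hQ.anti_q.symm.pow i.1).mul ((hself q₁).pow i.2.1)).mul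
        ((hQ.comm_q₁j.symm.pow i.2.2.1).mul (hQ.comm_q₁x.symm.pow i.2.2.2))
    · simpa using ((hQ.comm_q₀j.pow i.1).mul (hQ.comm_q₁j.pow i.2.1)).mul
        (((hself j).pow i.2.2.1).mul (hQ.anti_jx.pow i.2.2.2))
    · simpa using ((hQ.comm_q₀x.pow i.1).mul (hQ.comm_q₁x.pow i.2.1)).mul
        ((hQ.anti_jx.symm.pow i.2.2.1).mul ((hself x).pow i.2.2.2))
  have hex : ∀ s t : Fin 2, s ≠ t → ((-1 : Fˣ) ^ (s : ℕ))⁻¹ * (-1) ^ (t : ℕ) = -1 := by
    intro s t hst
    fin_cases s <;> fin_cases t <;> simp at hst ⊢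
  have hdist : ∀ i k, i ≠ k → (((m i)⁻¹ * m k : GL ι F) : Matrix ι ι F).trace = 0 := by
    intro i k hik
    obtain ⟨a0, a1, a2, a3⟩ := hsq i
    obtain ⟨b0, b1, b2, b3⟩ := hsq k
    by_cases h0 : i.1 = k.1
    swap
    · exact trace_eq_zero_of_signComm h2 (hex _ _ h0 ▸ a1.inv.mul b1)
    by_cases h1 : i.2.1 = k.2.1
    swap
    · exact trace_eq_zero_of_signComm h2 (hex _ _ h1 ▸ a0.inv.mul b0)
    by_cases h3 : i.2.2.1 = k.2.2.1
    swap
    · exact trace_eq_zero_of_signComm h2 (hex _ _ h3 ▸ a3.inv.mul b3)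
    by_cases h4 : i.2.2.2 = k.2.2.2
    swap
    · exact trace_eq_zero_of_signComm h2 (hex _ _ h4 ▸ a2.inv.mul b2)
    exact absurd (Prod.ext h0 (Prod.ext h1 (Prod.ext h3 h4))) hik
  have hne : (Fintype.card ι : F) ≠ 0 := by
    rw [hc, show ((4 : ℕ) : F) = 2 * 2 by norm_num]
    exact mul_ne_zero h2 h2
  have hli : LinearIndependent F fun i => (m i : Matrix ι ι F) := by
    rw [Fintype.linearIndependent_iff]
    intro c hc' i
    have h := congrArg (fun X => (((m i)⁻¹ : GL ι F) : Matrix ι ι F) * X) hc'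
    simp only [mul_zero, Finset.mul_sum, Matrix.mul_smul] at h
    have h1 := congrArg Matrix.trace h
    rw [Matrix.trace_sum, Matrix.trace_zero, Finset.sum_eq_single i] at h1
    · simp only [← Units.val_mul, inv_mul_cancel, Units.val_one, Matrix.trace_smul, Matrix.trace_one,
        smul_eq_mul] at h1
      exact (mul_eq_zero.1 h1).resolve_right hne
    · intro k _ hk
      rw [Matrix.trace_smul, ← Units.val_mul, hdist i k (Ne.symm hk), smul_zero]
    · simp
  have hspan : Algebra.adjoin F (matrixSet N) = ⊤ := by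
    rw [eq_top_iff]
    intro X _
    have hX : X ∈ Submodule.span F (Set.range fun i => (m i : Matrix ι ι F)) := by
      rw [hli.span_eq_top_of_card_eq_finrank' (by simp [Module.finrank_matrix, hc])]
      exact Submodule.mem_top
    refine (Submodule.span_le (p := (Algebra.adjoin F (matrixSet N)).toSubmodule)).2 ?_ hX
    rintro _ ⟨i, rfl⟩
    exact Algebra.subset_adjoin (mem_matrixSet (mul_mem (mul_mem (pow_mem hq₀ _) (pow_mem hq₁ _))
      (mul_mem (pow_mem hj _) (pow_mem hx _))))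
  have hnons : ∀ a ∈ N, a ∉ scalars ι F → ∃ y ∈ ({q₀, q₁, j, x} : Set (GL ι F)), SignComm (-1) a y := by
    intro a ha has
    by_contra hcon
    push Not at hcon
    have hcomm : ∀ y ∈ ({q₀, q₁, j, x} : Set (GL ι F)), a * y = y * a := by
      intro y hy
      obtain ⟨u, rfl | rfl, hu'⟩ := hgens y hy ha
      · simpa [SignComm] using hu'
      · exact absurd hu' (hcon y hy)
    refine has (mem_scalars_of_commute hspan fun y hy => ?_)
    have hNC : N ≤ Subgroup.centralizer {a} := by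
      refine sup_le ((Subgroup.closure_le _).2 fun y hy => ?_) fun y hy => ?_
      · rw [SetLike.mem_coe, Subgroup.mem_centralizer_singleton_iff]
        exact (hcomm y hy).symm
      · rw [Subgroup.mem_centralizer_singleton_iff]
        obtain ⟨c, rfl⟩ := exists_scl hy
        exact (scl_comm c a).eq
    exact (Subgroup.mem_centralizer_singleton_iff.1 (hNC hy)).symm
  have htr : ∀ a ∈ N, a ∉ scalars ι F → (a : Matrix ι ι F).trace = 0 := fun a ha has => by
    obtain ⟨y, -, hy⟩ := hnons a ha has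
    exact trace_eq_zero_of_signComm h2 hy
  have hpow : ∀ a ∈ N, a ^ 2 ∈ scalars ι F := by
    intro a ha
    refine mem_scalars_of_commute hspan fun y hy => ?_
    obtain ⟨u, hu, h⟩ := hall a ha y hy
    have h' := h.pow 2
    have hu2 : u ^ 2 = 1 := by rcases hu with rfl | rfl <;> simp
    simpa [SignComm, hu2] using h'
  have hab : ∀ a ∈ N, ∀ b ∈ N, a * b * a⁻¹ * b⁻¹ ∈ scalars ι F := by
    intro a ha b hb
    obtain ⟨u, -, h⟩ := hall a ha b hb
    rw [show a * b = _ from h, show scl ι u * (b * a) * a⁻¹ * b⁻¹ = scl ι u by simp [mul_assoc]]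
    exact scl_mem u
  -- the isometries
  let I : Subgroup (GL ι F) :=
    { carrier := {a | ∀ u v, f ((a : Matrix ι ι F) *ᵥ u) ((a : Matrix ι ι F) *ᵥ v) = f u v}
      one_mem' := fun u v => by simp
      mul_mem' := fun {a b} ha hb u v => by
        rw [Units.val_mul, ← Matrix.mulVec_mulVec, ← Matrix.mulVec_mulVec, ha, hb]
      inv_mem' := fun {a} ha u v => by
        rw [← ha, Matrix.mulVec_mulVec, Matrix.mulVec_mulVec, ← Units.val_mul, mul_inv_cancel,
          Units.val_one, Matrix.one_mulVec, Matrix.one_mulVec] }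
  have hclI : Subgroup.closure {q₀, q₁, j, x} ≤ I := (Subgroup.closure_le _).2 hQ.isometry
  refine sympType_of_span hf (inf_le_left (b := Subgroup.normalizer (N : Set (GL ι F)))) (by omega) (k := 2)
    (by rw [hc]; norm_num) h2 hZN (fun g hg a ha => ((Subgroup.mem_normalizer_iff.1 hg.2) a).1 ha) hspan hab hpow
    htr (card_classes_of_trace hne hspan htr) (fun a ha => ?_) fun A hAN hAn hAc a haA => ?_
  · obtain ⟨y, hy, z, hz, rfl⟩ := Subgroup.mem_sup_of_normal_right.1 ha
    exact ⟨y, Subgroup.mem_sup_left hy, hclI hy, by simpa using hz⟩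
  by_contra has
  obtain ⟨w, hwN, hww, hwi, haw⟩ : ∃ w ∈ N, w * w = scl ι (-1) ∧
      (∀ u v, f ((w : Matrix ι ι F) *ᵥ u) ((w : Matrix ι ι F) *ᵥ v) = f u v) ∧ SignComm (-1) a w := by
    by_cases h0 : SignComm (-1) a q₀
    · exact ⟨q₀, hq₀, hQ.sq_q₀, hQ.isometry q₀ (by simp), h0⟩
    by_cases h1 : SignComm (-1) a q₁
    · exact ⟨q₁, hq₁, hQ.sq_q₁, hQ.isometry q₁ (by simp), h1⟩
    by_cases h3 : SignComm (-1) a j
    · exact ⟨j, hj, hQ.sq_j, hQ.isometry j (by simp), h3⟩
    obtain ⟨y, hy, h4⟩ := hnons a (hAN haA) has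
    obtain rfl : y = x := by
      simp only [Set.mem_insert_iff, Set.mem_singleton_iff] at hy
      rcases hy with rfl | rfl | rfl | rfl
      · exact absurd h4 h0
      · exact absurd h4 h1
      · exact absurd h4 h3
      · rfl
    have hxq : y * q₀ = q₀ * y := by simpa [SignComm] using hQ.comm_q₀x.symm
    obtain ⟨u, rfl | rfl, h5⟩ := hgens q₀ (by simp) (hAN haA)
    swap
    · exact absurd h5 h0
    refine ⟨q₀ * y, mul_mem hq₀ hx, ?_, fun u v => ?_, ?_⟩
    · rw [mul_assoc, ← mul_assoc y, hxq, mul_assoc q₀ y, hQ.sq_x, mul_one, hQ.sq_q₀]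
    · rw [Units.val_mul, ← Matrix.mulVec_mulVec, ← Matrix.mulVec_mulVec, hQ.isometry q₀ (by simp),
        hQ.isometry y (by simp)]
    · simpa using (h5.symm.mul h4.symm).symm
  -- conjugation by one plus `w`
  have hw2 : (w : Matrix ι ι F) * (w : Matrix ι ι F) = -1 := by
    rw [← Units.val_mul, hww, scl_val]
    simp
  have hunit : IsUnit (1 + (w : Matrix ι ι F)) := by
    refine isUnit_iff_exists.2 ⟨(2 : F)⁻¹ • (1 - (w : Matrix ι ι F)), ?_, ?_⟩ <;>
    · simp only [Matrix.mul_smul, Matrix.smul_mul, mul_add, add_mul, mul_sub, sub_mul, one_mul, mul_one, hw2]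
      rw [← smul_add, show ∀ W : Matrix ι ι F, (1 - W) + (W - -1) = (2 : F) • (1 : Matrix ι ι F) from fun W => by
        rw [two_smul]; abel, smul_smul, inv_mul_cancel₀ h2, one_smul]
  set g := hunit.unit with hg
  have hgv : (g : Matrix ι ι F) = 1 + (w : Matrix ι ι F) := rfl
  have hgsim : g ∈ similarityGroup f := by
    refine ⟨Units.mk0 2 h2, fun u v => ?_⟩
    have h1 : f ((w : Matrix ι ι F) *ᵥ u) v = -f u ((w : Matrix ι ι F) *ᵥ v) := by
      rw [← hwi ((w : Matrix ι ι F) *ᵥ u) v, Matrix.mulVec_mulVec, hw2, Matrix.neg_mulVec, Matrix.one_mulVec,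
        ← neg_one_smul F u, hf.bilinear.smul_left, neg_one_mul]
    rw [hgv, Matrix.add_mulVec, Matrix.add_mulVec, Matrix.one_mulVec, Matrix.one_mulVec, hf.bilinear.add_left,
      hf.bilinear.add_right, hf.bilinear.add_right, hwi, h1, Units.val_mk0]
    ring
  have hconj : ∀ r ∈ N, g * r * g⁻¹ ∈ N ∧ (SignComm (-1) r w → g * r * g⁻¹ = w * r) := by
    intro r hr
    have hanti : SignComm (-1) r w → g * r * g⁻¹ = w * r := by
      intro h
      rw [mul_inv_eq_iff_eq_mul]
      apply Units.ext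
      have h' : (r : Matrix ι ι F) * (w : Matrix ι ι F) = -((w : Matrix ι ι F) * (r : Matrix ι ι F)) := by
        have := congrArg Units.val h
        rw [scl_mul_val, Units.val_mul, Units.val_mul] at this
        simpa using this
      simp only [Units.val_mul, hgv, mul_add, add_mul, one_mul, mul_one]
      rw [mul_assoc (w : Matrix ι ι F) (r : Matrix ι ι F), h', mul_neg, ← mul_assoc, hw2]
      simp [add_comm]
    refine ⟨?_, hanti⟩
    obtain ⟨u, rfl | rfl, h⟩ := hall r hr w hwN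
    · have hc' : g * r * g⁻¹ = r := by
        rw [mul_inv_eq_iff_eq_mul]
        apply Units.ext
        have h' : (r : Matrix ι ι F) * (w : Matrix ι ι F) = (w : Matrix ι ι F) * (r : Matrix ι ι F) := by
          simpa [SignComm] using congrArg Units.val h
        simp only [Units.val_mul, hgv, mul_add, add_mul, one_mul, mul_one, h']
      rw [hc']
      exact hr
    · rw [hanti h]
      exact mul_mem hwN hr
  have hgG : g ∈ similarityGroup f ⊓ Subgroup.normalizer (N : Set (GL ι F)) :=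
    ⟨hgsim, mem_normalizer_of_conj fun r hr => (hconj r hr).1⟩
  have h6 := hAn g hgG a haA
  rw [(hconj a (hAN haA)).2 haw] at h6
  have h7 := hAc a haA _ h6
  rw [← mul_assoc, mul_left_inj, show a * w = _ from haw, ← mul_one (w * a), ← mul_assoc,
    (scl_comm (-1 : Fˣ) _).eq] at h7
  simp only [mul_one, mul_eq_left] at h7
  exact hpm.symm (scl_injective (h7.trans (map_one _).symm))

end FormAsch

end H51
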