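import Cfsg.Agent.H51.FormAsch.QuatPairs
import Cfsg.Agent.H51.FormAsch.PlusFour

/-!
The symplectic group of dimension four over three elements: pairs of Lagrangians and unitary structures.
-/

set_option autoImplicit false
set_option linter.unusedSectionVars false
set_option linter.style.haveILetI false
set_option maxHeartbeats 1000000

open Cfsg.Geo
open scoped Matrix MatrixGroups

namespace H51

namespace FormAsch

open H46 (scl scl_val scl_mem exists_scl scl_comm scl_mul_val matCoords glCoords glCoords_val vecCoords)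

variable {ι : Type} [Fintype ι] [DecidableEq ι] {F : Type*} [Field F] [Fintype F]

theorem two_ne_of_three (h3 : Fintype.card F = 3) : (2 : F) ≠ 0 :=
  fun h => absurd (not_odd_card_of_two h) (by rw [h3]; decide)

theorem three_eq_zero (h3 : Fintype.card F = 3) : (3 : F) = 0 := by
  have := FiniteField.cast_card_eq_zero F
  rw [h3] at this
  exact_mod_cast this

theorem sq_eq_one_three (h3 : Fintype.card F = 3) {c : F} (hc : c ≠ 0) : c * c = 1 := by
  have := FiniteField.pow_card_sub_one_eq_one c hc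
  rw [h3] at this
  simpa [sq] using this

theorem eq_or_neg_three (h3 : Fintype.card F = 3) {a b : F} (ha : a ≠ 0) (hb : b ≠ 0) : b = a ∨ b = -a :=
  mul_self_eq_mul_self_iff.1 ((sq_eq_one_three h3 hb).trans (sq_eq_one_three h3 ha).symm)

/-- Over three elements a pair of Lagrangian planes refines to an orthogonal pair of planes. -/
theorem decomp_of_pair_three (h3 : Fintype.card F = 3) {f : (ι → F) → (ι → F) → F} (hf : IsSymplecticForm f)
    (hc : Fintype.card ι = 4) {D : Fin 2 → Submodule F (ι → F)} (hD : IsMDecomposition 2 D)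
    (hs : ∀ i, IsTotallySingularFor f (D i)) :
    ∃ E : Fin 2 → Submodule F (ι → F), IsNondegenerateMDecomposition f 2 E ∧
      ∀ g ∈ decompositionStabilizer D, (∀ u v, f ((g : Matrix ι ι F) *ᵥ u) ((g : Matrix ι ι F) *ᵥ v) = f u v) →
        g ∈ decompositionStabilizer E := by
  classical
  have hS := SForm.of_symplectic hf
  have h2 := two_ne_of_three h3
  have hsup : D 0 ⊔ D 1 = ⊤ := by
    rw [eq_top_iff, ← hD.iSup_eq_top]
    exact iSup_le fun i => by fin_cases i <;> simp
  have hperp : ∀ i k, i ≠ k → ∀ z ∈ D i, (∀ w ∈ D k, f z w = 0) → z = 0 := by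
    intro i k hik z hz h
    refine hS.eq_zero_of_forall_left fun u => ?_
    obtain ⟨a, ha, b, hb, rfl⟩ := Submodule.mem_sup.1 (hsup ▸ Submodule.mem_top : u ∈ D 0 ⊔ D 1)
    rw [hf.bilinear.add_right]
    fin_cases i <;> fin_cases k <;> simp at hik
    · show f z a + f z b = 0
      rw [hs 0 z hz a ha, h b hb, add_zero]
    · show f z a + f z b = 0
      rw [hs 1 z hz b hb, h a ha, add_zero]
  let bD : Module.Basis (Fin 2) F (D 0) := Module.finBasisOfFinrankEq F (D 0) (hD.finrank_eq 0)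
  set u₁ : ι → F := (bD 0 : ι → F) with hu₁
  set u₂ : ι → F := (bD 1 : ι → F) with hu₂
  have hu₁m : u₁ ∈ D 0 := (bD 0).2
  have hu₂m : u₂ ∈ D 0 := (bD 1).2
  have hrep : ∀ u ∈ D 0, ∃ a b : F, u = a • u₁ + b • u₂ := fun u hu =>
    ⟨bD.repr ⟨u, hu⟩ 0, bD.repr ⟨u, hu⟩ 1, by
      have := bD.sum_repr ⟨u, hu⟩
      rw [Fin.sum_univ_two] at this
      exact (congrArg Subtype.val this).symm⟩
  -- a dual basis of the second plane
  let φ : D 1 →ₗ[F] F × F :=
    { toFun := fun w => (f u₁ w, f u₂ w)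
      map_add' := fun v w => by simp [hf.bilinear.add_right]
      map_smul' := fun c v => by simp [hf.bilinear.smul_right] }
  have hφi : Function.Injective φ := by
    rw [injective_iff_map_eq_zero]
    intro w hw
    simp only [φ, LinearMap.coe_mk, AddHom.coe_mk, Prod.mk_eq_zero] at hw
    refine Subtype.ext (hperp 1 0 (by decide) _ w.2 fun u hu => ?_)
    obtain ⟨a, b, rfl⟩ := hrep u hu
    rw [hf.bilinear.add_right, hf.bilinear.smul_right, hf.bilinear.smul_right, hf.skew, hw.1, hf.skew _ u₂, hw.2]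
    ring
  have hφs : Function.Surjective φ := (LinearMap.injective_iff_surjective_of_finrank_eq_finrank (by
    rw [hD.finrank_eq 1, Module.finrank_prod, Module.finrank_self])).1 hφi
  obtain ⟨⟨w₁, hw₁m⟩, hw₁⟩ := hφs (1, 0)
  obtain ⟨⟨w₂, hw₂m⟩, hw₂⟩ := hφs (0, 1)
  simp only [φ, LinearMap.coe_mk, AddHom.coe_mk, Prod.mk.injEq] at hw₁ hw₂
  let T : (ι → F) →ₗ[F] (ι → F) :=
    { toFun := fun v => f v w₂ • w₁ - f v w₁ • w₂
      map_add' := fun v w => by simp only [hf.bilinear.add_left]; module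
      map_smul' := fun c v => by simp only [hf.bilinear.smul_left, RingHom.id_apply]; module }
  let β : (ι → F) → (ι → F) → F := fun u v => f u (T v)
  have hTm : ∀ v, T v ∈ D 1 := fun v => sub_mem (Submodule.smul_mem _ _ hw₁m) (Submodule.smul_mem _ _ hw₂m)
  have hTc : ∀ a b : F, T (a • u₁ + b • u₂) = b • w₁ - a • w₂ := fun a b => by
    show f _ w₂ • w₁ - f _ w₁ • w₂ = _
    simp [hf.bilinear.add_left, hf.bilinear.smul_left, hw₁.1, hw₁.2, hw₂.1, hw₂.2]
  have hβadd : ∀ u u' v, β (u + u') v = β u v + β u' v ∧ β v (u + u') = β v u + β v u' := fun u u' v =>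
    ⟨hf.bilinear.add_left _ _ _, by simp only [β, map_add]; exact hf.bilinear.add_right _ _ _⟩
  have hβsmul : ∀ (c : F) u v, β (c • u) v = c * β u v ∧ β u (c • v) = c * β u v := fun c u v =>
    ⟨hf.bilinear.smul_left _ _ _, by simp only [β, map_smul]; exact hf.bilinear.smul_right _ _ _⟩
  have hT10 : T u₁ = -w₂ := by simpa using hTc 1 0
  have hT01 : T u₂ = w₁ := by simpa using hTc 0 1
  have b11 : β u₁ u₁ = 0 := by
    show f u₁ (T u₁) = 0
    rw [hT10, ← neg_one_smul F w₂, hf.bilinear.smul_right, hw₂.1, mul_zero]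
  have b12 : β u₁ u₂ = 1 := by show f u₁ (T u₂) = 1; rw [hT01, hw₁.1]
  have b21 : β u₂ u₁ = -1 := by
    show f u₂ (T u₁) = -1
    rw [hT10, ← neg_one_smul F w₂, hf.bilinear.smul_right, hw₂.2, mul_one]
  have b22 : β u₂ u₂ = 0 := by show f u₂ (T u₂) = 0; rw [hT01, hw₁.2]
  have hβalt : ∀ u ∈ D 0, β u u = 0 := by
    intro u hu
    obtain ⟨a, b, rfl⟩ := hrep u hu
    simp only [(hβadd _ _ _).1, (hβadd _ _ _).2, (hβsmul _ _ _).1, (hβsmul _ _ _).2, b11, b12, b21, b22]
    ring
  have hβskew : ∀ u ∈ D 0, ∀ v ∈ D 0, β v u = -β u v := by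
    intro u hu v hv
    have := hβalt _ (add_mem hu hv)
    rw [(hβadd _ _ _).1, (hβadd _ _ _).2, (hβadd _ _ _).2, hβalt u hu, hβalt v hv] at this
    linear_combination this
  have hβnd : ∀ u ∈ D 0, (∀ v ∈ D 0, β u v = 0) → u = 0 := by
    intro u hu h
    obtain ⟨a, b, rfl⟩ := hrep u hu
    have h1 := h u₁ hu₁m
    have h2 := h u₂ hu₂m
    simp only [(hβadd _ _ _).1, (hβsmul _ _ _).1, b11, b12, b21, b22] at h1 h2
    rw [show a = 0 by linear_combination h2, show b = 0 by linear_combination -h1]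
    simp
  -- an additive map multiplies the alternating form by its value on the basis
  have hmult : ∀ L : (ι → F) →ₗ[F] (ι → F), (∀ u ∈ D 0, L u ∈ D 0) → ∀ u ∈ D 0, ∀ v ∈ D 0,
      β (L u) (L v) = β (L u₁) (L u₂) * β u v := by
    intro L hL u hu v hv
    obtain ⟨a, b, rfl⟩ := hrep u hu
    obtain ⟨a', b', rfl⟩ := hrep v hv
    simp only [map_add, map_smul, (hβadd _ _ _).1, (hβadd _ _ _).2, (hβsmul _ _ _).1, (hβsmul _ _ _).2, b11, b12,
      b21, b22, hβalt _ (hL u₁ hu₁m), hβalt _ (hL u₂ hu₂m), hβskew _ (hL u₁ hu₁m) _ (hL u₂ hu₂m)]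
    ring
  have hTinj : ∀ u ∈ D 0, T u = 0 → u = 0 := by
    intro u hu h
    refine hβnd u hu fun v hv => ?_
    rw [hβskew v hv u hu]
    show -f v (T u) = 0
    rw [h, hS.zero_right, neg_zero]
  let h : (ι → F) →ₗ[F] (ι → F) :=
    { toFun := fun w => f u₁ w • u₂ - f u₂ w • u₁
      map_add' := fun v w => by simp only [hf.bilinear.add_right]; module
      map_smul' := fun c v => by simp only [hf.bilinear.smul_right, RingHom.id_apply]; module }
  have hhm : ∀ w, h w ∈ D 0 := fun w => sub_mem (Submodule.smul_mem _ _ hu₂m) (Submodule.smul_mem _ _ hu₁m)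
  have hTh : ∀ w ∈ D 1, T (h w) = w := by
    intro w hw
    refine sub_eq_zero.1 (hperp 1 0 (by decide) _ (sub_mem (hTm _) hw) fun u hu => ?_)
    obtain ⟨a, b, rfl⟩ := hrep u hu
    have e : T (h w) = f u₁ w • w₁ + f u₂ w • w₂ := by
      show T (f u₁ w • u₂ - f u₂ w • u₁) = _
      rw [map_sub, map_smul, map_smul, hT10, hT01]
      module
    rw [hS.sub_left, e, hf.bilinear.add_right, hf.bilinear.smul_right, hf.bilinear.smul_right,
      hf.bilinear.add_right, hf.bilinear.smul_right, hf.bilinear.smul_right, hf.bilinear.add_left,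
      hf.bilinear.add_left, hf.bilinear.smul_left, hf.bilinear.smul_left, hf.bilinear.smul_left,
      hf.bilinear.smul_left, hf.skew w₁, hf.skew w₁ u₂, hf.skew w₂, hf.skew w₂ u₂, hf.skew w, hf.skew w u₂,
      hw₁.1, hw₁.2, hw₂.1, hw₂.2]
    ring
  -- the two graphs
  let S : F → Submodule F (ι → F) := fun s => (D 0).map (LinearMap.id + s • T)
  have hmem : ∀ s v, v ∈ S s ↔ ∃ u ∈ D 0, u + s • T u = v := fun s v => Submodule.mem_map
  have hform : ∀ (s t : F), ∀ u ∈ D 0, ∀ v ∈ D 0, f (u + s • T u) (v + t • T v) = (s + t) * β u v := by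
    intro s t u hu v hv
    have h1 : f (T u) v = β u v := by
      rw [hf.skew, show f v (T u) = β v u from rfl, hβskew u hu v hv, neg_neg]
    rw [hf.bilinear.add_left, hf.bilinear.add_right, hf.bilinear.add_right, hf.bilinear.smul_left,
      hf.bilinear.smul_left, hf.bilinear.smul_right, hf.bilinear.smul_right, hs 0 u hu v hv, h1,
      hs 1 _ (hTm u) _ (hTm v), show f u (T v) = β u v from rfl]
    ring
  have hsplit : ∀ u ∈ D 0, ∀ w ∈ D 1, u + w = 0 → u = 0 := by
    intro u hu w hw e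
    refine hperp 0 1 (by decide) u hu fun z hz => ?_
    rw [eq_neg_of_add_eq_zero_left e, ← neg_one_smul F w, hf.bilinear.smul_left, hs 1 w hw z hz, mul_zero]
  have hdim : ∀ s, Module.finrank F (S s) = 2 := by
    intro s
    let L : D 0 →ₗ[F] (ι → F) := (LinearMap.id + s • T).comp (D 0).subtype
    have hL : Function.Injective L := by
      rw [injective_iff_map_eq_zero]
      intro u hu
      exact Subtype.ext (hsplit _ u.2 _ (Submodule.smul_mem _ _ (hTm _)) hu)
    rw [show S s = LinearMap.range L by rw [LinearMap.range_comp, Submodule.range_subtype],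
      LinearMap.finrank_range_of_inj hL, hD.finrank_eq]
  let E : Fin 2 → Submodule F (ι → F) := ![S 1, S (-1)]
  have hpm : (1 : F) + 1 ≠ 0 := by rw [one_add_one_eq_two]; exact h2
  have hnd : ∀ s : F, s ≠ 0 → IsNondegenerateOn f (S s) := by
    intro s hs0 w hw hw0
    obtain ⟨u, hu, rfl⟩ := (hmem s w).1 hw
    obtain ⟨v, hv, hv0⟩ : ∃ v ∈ D 0, β u v ≠ 0 := by
      by_contra hcon
      push Not at hcon
      exact hw0 (by rw [hβnd u hu hcon]; simp)
    have hss : s + s ≠ 0 := by rw [← two_mul]; exact mul_ne_zero h2 hs0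
    refine ⟨⟨v + s • T v, (hmem s _).2 ⟨v, hv, rfl⟩, ?_⟩, ⟨v + s • T v, (hmem s _).2 ⟨v, hv, rfl⟩, ?_⟩⟩
    · rw [hform s s v hv u hu, hβskew u hu v hv]
      exact mul_ne_zero hss (neg_ne_zero.2 hv0)
    · rw [hform s s u hu v hv]
      exact mul_ne_zero hss hv0
  have horth : ∀ s : F, AreOrthogonalFor f (S s) (S (-s)) := by
    intro s a ha b hb
    obtain ⟨u, hu, rfl⟩ := (hmem _ a).1 ha
    obtain ⟨v, hv, rfl⟩ := (hmem _ b).1 hb
    rw [hform s (-s) u hu v hv, add_neg_cancel, zero_mul]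
  have hdis : Disjoint (S 1) (S (-1)) := by
    rw [Submodule.disjoint_def]
    intro w hw hw'
    by_contra hw0
    obtain ⟨x, hx, hxw⟩ := (hnd 1 one_ne_zero w hw hw0).1
    exact hxw (horth 1 x hx w hw')
  have hE : IsNondegenerateMDecomposition f 2 E := by
    refine ⟨⟨le_rfl, two_pos, fun i => ?_, ?_, ?_⟩, fun i => ?_, fun i k hik => ?_⟩
    · fin_cases i <;> exact hdim _
    · exact (iSupIndep_pair (i := (0 : Fin 2)) (j := 1) (by decide) (by decide)).2 (by simpa [E] using hdis)
    · refine le_antisymm le_top ?_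
      have hle : S 1 ⊔ S (-1) ≤ iSup E := sup_le (le_iSup E 0) (le_iSup E 1)
      refine le_trans (le_of_eq (Submodule.eq_top_of_finrank_eq ?_).symm) hle
      have := Submodule.finrank_sup_add_finrank_inf_eq (S 1) (S (-1))
      rw [hdis.eq_bot, finrank_bot, hdim, hdim, add_zero] at this
      rw [this, Module.finrank_fintype_fun_eq_card, hc]
    · fin_cases i
      · exact hnd 1 one_ne_zero
      · exact hnd (-1) (neg_ne_zero.2 one_ne_zero)
    · fin_cases i <;> fin_cases k <;> simp at hik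
      · exact horth 1
      · simpa [E] using horth (-1)
  refine ⟨E, hE, fun g hg hiso => ?_⟩
  obtain ⟨σ, hσ⟩ := hg
  set G := Matrix.toLin' (g : Matrix ι ι F) with hG
  have hG' : ∀ u v, f (G u) (G v) = f u v := fun u v => by simpa [hG] using hiso u v
  have hGinj : Function.Injective G := fun u v huv =>
    Matrix.mulVec_injective_of_isUnit g.isUnit (by simpa [hG] using huv)
  -- a sign for each element
  obtain ⟨d, hd, hmove⟩ : ∃ d : F, (d = 1 ∨ d = -1) ∧ ∀ s : F, (s = 1 ∨ s = -1) →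
      ∀ u ∈ D 0, G (u + s • T u) ∈ S (d * s) := by
    have hsign : ∀ d : F, d ≠ 0 → d = 1 ∨ d = -1 := fun d hd => eq_or_neg_three h3 one_ne_zero hd
    rcases Fin.forall_fin_two.1 (fun i : Fin 2 => hσ i) with ⟨hσ0, hσ1⟩
    have hσ01 : σ 0 ≠ σ 1 := fun e => by simpa using σ.injective e
    by_cases h00 : σ 0 = 0
    · have h11 : σ 1 = 1 := by omega
      rw [h00] at hσ0
      rw [h11] at hσ1
      have hG0 : ∀ u ∈ D 0, G u ∈ D 0 := fun u hu => hσ0 ▸ Submodule.mem_map_of_mem hu
      have hG1 : ∀ w ∈ D 1, G w ∈ D 1 := fun w hw => hσ1 ▸ Submodule.mem_map_of_mem hw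
      have hsurj : ∀ v ∈ D 0, ∃ u ∈ D 0, G u = v := fun v hv => Submodule.mem_map.1 (hσ0.symm ▸ hv)
      set d := β (G u₁) (G u₂) with hd
      have hd0 : d ≠ 0 := by
        intro hd0
        have h1 : G u₁ = 0 := hβnd _ (hG0 _ hu₁m) fun v hv => by
          obtain ⟨u, hu, rfl⟩ := hsurj v hv
          rw [hmult G hG0 u₁ hu₁m u hu, ← hd, hd0, zero_mul]
        have h4 := hG' u₁ w₁
        rw [h1, hS.zero_left, hw₁.1] at h4
        exact zero_ne_one h4
      refine ⟨d, hsign d hd0, fun s _ u hu => (hmem _ _).2 ⟨G u, hG0 u hu, ?_⟩⟩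
      have key : G (T u) = d • T (G u) := by
        refine sub_eq_zero.1 (hperp 1 0 (by decide) _
          (sub_mem (hG1 _ (hTm u)) (Submodule.smul_mem _ _ (hTm _))) fun v hv => ?_)
        obtain ⟨x, hx, rfl⟩ := hsurj v hv
        have e1 : f (G x) (G (T u)) = f (G x) (d • T (G u)) := by
          rw [hG', hf.bilinear.smul_right, show f (G x) (T (G u)) = β (G x) (G u) from rfl,
            hmult G hG0 x hx u hu, ← hd, ← mul_assoc, sq_eq_one_three h3 hd0, one_mul]
        rw [hS.sub_left, hf.skew, e1, hf.skew (G x), neg_neg, sub_self]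
      rw [map_add, map_smul, key, smul_smul, mul_comm]
    · have h10 : σ 0 = 1 := by omega
      have h11 : σ 1 = 0 := by omega
      rw [h10] at hσ0
      rw [h11] at hσ1
      have hG0 : ∀ u ∈ D 0, G u ∈ D 1 := fun u hu => hσ0 ▸ Submodule.mem_map_of_mem hu
      have hG1 : ∀ w ∈ D 1, G w ∈ D 0 := fun w hw => hσ1 ▸ Submodule.mem_map_of_mem hw
      have hsurj : ∀ v ∈ D 1, ∃ u ∈ D 0, G u = v := fun v hv => Submodule.mem_map.1 (hσ0.symm ▸ hv)
      set L := h.comp G with hL
      have hL0 : ∀ u ∈ D 0, L u ∈ D 0 := fun u _ => hhm _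
      have hTL : ∀ u ∈ D 0, T (L u) = G u := fun u hu => hTh _ (hG0 u hu)
      set d := β (L u₁) (L u₂) with hd
      have hd0 : d ≠ 0 := by
        intro hd0
        have h1 : L u₁ = 0 := hβnd _ (hL0 _ hu₁m) fun v hv => by
          obtain ⟨u, hu, hu'⟩ := hsurj _ (hTm v)
          have hv' : L u = v := sub_eq_zero.1 (hTinj _ (sub_mem (hL0 u hu) hv)
            (by rw [map_sub, hTL u hu, hu', sub_self]))
          rw [← hv', hmult L hL0 u₁ hu₁m u hu, ← hd, hd0, zero_mul]
        have h4 := hG' u₁ w₁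
        rw [← hTL u₁ hu₁m, h1, map_zero, hS.zero_left, hw₁.1] at h4
        exact zero_ne_one h4
      refine ⟨d, hsign d hd0, fun s hs' u hu =>
        (hmem _ _).2 ⟨(s * d) • L u, Submodule.smul_mem _ _ (hL0 u hu), ?_⟩⟩
      have key : G (T u) = d • L u := by
        refine sub_eq_zero.1 (hperp 0 1 (by decide) _
          (sub_mem (hG1 _ (hTm u)) (Submodule.smul_mem _ _ (hL0 u hu))) fun v hv => ?_)
        obtain ⟨x, hx, rfl⟩ := hsurj v hv
        have e1 : f (d • L u) (G x) = β u x := by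
          rw [hf.bilinear.smul_left, ← hTL x hx, show f (L u) (T (L x)) = β (L u) (L x) from rfl,
            hmult L hL0 u hu x hx, ← hd, ← mul_assoc, sq_eq_one_three h3 hd0, one_mul]
        rw [hS.sub_left, hG', e1, hf.skew, show f x (T u) = β x u from rfl, hβskew u hu x hx, neg_neg, sub_self]
      have hs0 : s ≠ 0 := by rcases hs' with rfl | rfl <;> simp
      have e2 : (d * s) • T ((s * d) • L u) = G u := by
        rw [map_smul, hTL u hu, smul_smul, show d * s * (s * d) = (s * s) * (d * d) by ring,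
          sq_eq_one_three h3 hs0, sq_eq_one_three h3 hd0, one_mul, one_smul]
      rw [map_add G, map_smul G, key, smul_smul s d, e2, add_comm]
  have hto : ∀ s : F, (s = 1 ∨ s = -1) → (S s).map G = S (d * s) := by
    intro s hs'
    refine Submodule.eq_of_le_of_finrank_le ?_ ?_
    · rintro _ ⟨w, hw, rfl⟩
      obtain ⟨u, hu, rfl⟩ := (hmem s w).1 hw
      exact hmove s hs' u hu
    · rw [hdim, ← (Submodule.equivMapOfInjective G hGinj (S s)).finrank_eq, hdim]
  rcases hd with rfl | rfl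
  · refine ⟨1, fun i => ?_⟩
    fin_cases i
    · simpa [E] using hto 1 (Or.inl rfl)
    · simpa [E] using hto (-1) (Or.inr rfl)
  · refine ⟨Equiv.swap 0 1, fun i => ?_⟩
    fin_cases i
    · simpa [E] using hto 1 (Or.inl rfl)
    · simpa [E] using hto (-1) (Or.inr rfl)

end FormAsch

end H51
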