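import Cfsg.Agent.H51.FormAsch.Proper
import Cfsg.Agent.H45.SympDecomp
import Cfsg.Agent.H45.QuadChar2
import Cfsg.Agent.H49.TensorThree
import Cfsg.Agent.H46.AschSmall

/-!
The maximal subgroups of the symplectic group: each is cut out by a geometric structure or is residual.
-/

set_option autoImplicit false
set_option linter.unusedSectionVars false
set_option linter.style.haveILetI false

open Cfsg.Geo
open scoped Matrix MatrixGroups Kronecker

namespace H51

namespace FormAsch

variable {F : Type*} [Field F]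

section dims

variable {ι : Type} [Fintype ι] [DecidableEq ι] {f : (ι → F) → (ι → F) → F}

/-- A non-degenerate subspace of an alternating form has even dimension. -/
theorem two_dvd_finrank (hf : IsSymplecticForm f) {W : Submodule F (ι → F)} (hW : IsNondegenerateOn f W) :
    2 ∣ Module.finrank F W := by
  let b := Module.finBasis F W
  let e : (Fin (Module.finrank F W) → F) ≃ₗ[F] W := b.equivFun.symm
  have h0 : ∀ x, x ≠ 0 → (e x : ι → F) ≠ 0 := fun x hx h => hx (e.injective (by
    rw [map_zero]; exact Subtype.ext h))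
  refine (H46.even_card_of_symplectic (f := fun x y => f (e x) (e y)) ⟨⟨?_, ?_, ?_, ?_⟩, ?_, ?_, ?_⟩).two_dvd.trans
    (dvd_of_eq (Fintype.card_fin _))
  · intro x y v; simp only [map_add, Submodule.coe_add, hf.bilinear.add_left]
  · intro c x v; simp only [map_smul, Submodule.coe_smul, hf.bilinear.smul_left]
  · intro v x y; simp only [map_add, Submodule.coe_add, hf.bilinear.add_right]
  · intro c v x; simp only [map_smul, Submodule.coe_smul, hf.bilinear.smul_right]
  · exact fun v w => hf.skew _ _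
  · exact fun v => hf.alternating _
  · intro x hx
    obtain ⟨⟨u, hu, h1⟩, ⟨u', hu', h2⟩⟩ := hW _ (e x).2 (h0 x hx)
    exact ⟨⟨e.symm ⟨u, hu⟩, by simpa [e] using h1⟩,
      ⟨e.symm ⟨u', hu'⟩, by simpa [e] using h2⟩⟩

/-- A field of self-adjoint alternating elements has degree dividing half the dimension. -/
theorem two_mul_dvd_finrank (hf : IsSymplecticForm f) {r : ℕ} {K : Subalgebra F (Matrix ι ι F)}
    (hK : IsFieldSubalgebra r K) (hs : IsSelfAdjointFor f K) (ha : ∀ k ∈ K, ∀ v, f (k *ᵥ v) v = 0) :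
    ∀ (d : ℕ) (W : Submodule F (ι → F)), Module.finrank F W = d → IsNondegenerateOn f W →
      (∀ k ∈ K, ∀ w ∈ W, k *ᵥ w ∈ W) → 2 * r ∣ d := by
  intro d
  induction d using Nat.strong_induction_on with
  | _ d ih =>
    intro W hd hW hinv
    have hs' := SForm.of_symplectic hf
    rcases Nat.eq_zero_or_pos d with rfl | hdpos
    · exact dvd_zero _
    obtain ⟨v, hv, hv0⟩ := W.exists_mem_ne_zero_of_ne_bot fun e => by
      rw [e, finrank_bot] at hd
      omega
    obtain ⟨-, w, hw, hvw⟩ := hW v hv hv0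
    have hKv : ∀ x : ι → F, ∀ a ∈ K, ∀ k ∈ K, f (a *ᵥ x) (k *ᵥ x) = 0 := fun x a ha' k hk => by
      rw [← hs k hk, Matrix.mulVec_mulVec]
      exact ha _ (mul_mem hk ha') x
    let φ : (K × K) →ₗ[F] (ι → F) :=
      { toFun := fun p => (p.1 : Matrix ι ι F) *ᵥ v + (p.2 : Matrix ι ι F) *ᵥ w
        map_add' := fun p q => by
          simp only [Prod.fst_add, Prod.snd_add, AddMemClass.coe_add, Matrix.add_mulVec]; abel
        map_smul' := fun c p => by
          simp only [Prod.smul_fst, Prod.smul_snd, SetLike.val_smul, Matrix.smul_mulVec, RingHom.id_apply,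
            smul_add] }
    -- every non-zero value of the map pairs non-trivially with another one
    have hpair : ∀ p : K × K, p ≠ 0 → ∃ q, f (φ q) (φ p) ≠ 0 := by
      intro p hp
      by_cases h1 : (p.1 : Matrix ι ι F) = 0
      · have h2 : (p.2 : Matrix ι ι F) ≠ 0 := fun h => hp (Prod.ext (Subtype.ext h1) (Subtype.ext h))
        obtain ⟨Y, hY, hY1⟩ := hK.inv _ p.2.2 h2
        refine ⟨(⟨Y, hY⟩, 0), ?_⟩
        show f (Y *ᵥ v + _) (_ + _) ≠ 0
        rw [h1, ZeroMemClass.coe_zero, Matrix.zero_mulVec, Matrix.zero_mulVec, add_zero, zero_add, hs Y hY,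
          Matrix.mulVec_mulVec, hK.comm Y hY _ p.2.2, hY1, Matrix.one_mulVec]
        exact hvw
      · obtain ⟨Y, hY, hY1⟩ := hK.inv _ p.1.2 h1
        refine ⟨(0, ⟨Y, hY⟩), ?_⟩
        show f (_ + Y *ᵥ w) (_ + _) ≠ 0
        rw [ZeroMemClass.coe_zero, Matrix.zero_mulVec, zero_add, hf.bilinear.add_right, hKv w Y hY _ p.2.2,
          add_zero, hs Y hY, Matrix.mulVec_mulVec, hK.comm Y hY _ p.1.2, hY1, Matrix.one_mulVec]
        exact fun h => hvw (hs'.eq_zero_comm h)
    have hinj : Function.Injective φ := by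
      rw [injective_iff_map_eq_zero]
      intro p hp
      by_contra hne
      obtain ⟨q, hq⟩ := hpair p hne
      exact hq (by rw [hp, hs'.zero_right])
    set P := LinearMap.range φ
    have hP2 : Module.finrank F P = 2 * r := by
      haveI : FiniteDimensional F K := FiniteDimensional.finiteDimensional_submodule (Subalgebra.toSubmodule K)
      rw [LinearMap.finrank_range_of_inj hinj, Module.finrank_prod, hK.finrank_eq]
      ring
    have hPW : P ≤ W := by
      rintro _ ⟨p, rfl⟩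
      exact add_mem (hinv _ p.1.2 v hv) (hinv _ p.2.2 w hw)
    have hPperp : P ⊓ hs'.perp P = ⊥ := by
      rw [eq_bot_iff]
      rintro _ ⟨⟨p, rfl⟩, hp⟩
      rw [Submodule.mem_bot]
      by_contra hne
      obtain ⟨q, hq⟩ := hpair p fun e => hne (by rw [e, map_zero])
      exact hq (hs'.eq_zero_comm (hp _ ⟨q, rfl⟩))
    obtain ⟨-, -, hsup, -⟩ := hs'.perp_compl hPperp
    set W' := W ⊓ hs'.perp P
    have hsplit : ∀ x ∈ W, ∃ p ∈ P, ∃ y ∈ W', p + y = x := by
      intro x hx
      obtain ⟨p, hp, y, hy, e⟩ := Submodule.mem_sup.1 (hsup ▸ Submodule.mem_top : x ∈ P ⊔ hs'.perp P)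
      refine ⟨p, hp, y, ⟨?_, hy⟩, e⟩
      rw [show y = x - p by rw [← e]; abel]
      exact sub_mem hx (hPW hp)
    have hsum : P ⊔ W' = W := le_antisymm (sup_le hPW inf_le_left) fun x hx => by
      obtain ⟨p, hp, y, hy, e⟩ := hsplit x hx
      exact Submodule.mem_sup.2 ⟨p, hp, y, hy, e⟩
    have hdim := Submodule.finrank_sup_add_finrank_inf_eq P W'
    have hPW' : P ⊓ W' = ⊥ := eq_bot_iff.2 ((inf_le_inf le_rfl inf_le_right).trans hPperp.le)
    rw [hsum, hPW', finrank_bot, hP2, hd, add_zero] at hdim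
    have hr : 0 < r := by
      rw [← hK.finrank_eq]
      haveI : FiniteDimensional F K := FiniteDimensional.finiteDimensional_submodule (Subalgebra.toSubmodule K)
      haveI : Nontrivial K := ⟨0, 1, fun e => by
        have := congrArg (fun k : K => (k : Matrix ι ι F) *ᵥ v) e
        simp at this
        exact hv0 this.symm⟩
      exact Module.finrank_pos
    have hW' : IsNondegenerateOn f W' := by
      intro x hx hx0
      obtain ⟨u, hu, hux⟩ := (hW x hx.1 hx0).1
      obtain ⟨p, hp, y, hy, rfl⟩ := hsplit u hu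
      rw [hf.bilinear.add_left, hs'.eq_zero_comm (hx.2 p hp), zero_add] at hux
      exact ⟨⟨y, hy, hux⟩, ⟨y, hy, fun h => hux (hs'.eq_zero_comm h)⟩⟩
    have hinv' : ∀ k ∈ K, ∀ x ∈ W', k *ᵥ x ∈ W' := by
      intro k hk x hx
      refine ⟨hinv k hk x hx.1, ?_⟩
      rintro _ ⟨p, rfl⟩
      rw [hs k hk]
      refine hx.2 _ ⟨(⟨k, hk⟩ * p.1, ⟨k, hk⟩ * p.2), ?_⟩
      show (k * _) *ᵥ v + (k * _) *ᵥ w = k *ᵥ _
      rw [← Matrix.mulVec_mulVec, ← Matrix.mulVec_mulVec, ← Matrix.mulVec_add]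
      rfl
    have := ih (Module.finrank F W') (by omega) W' rfl hW' hinv'
    rw [hdim]
    exact Nat.dvd_add dvd_rfl this

theorem dvd_half_card (hf : IsSymplecticForm f) {r : ℕ} {K : Subalgebra F (Matrix ι ι F)}
    (hK : IsFieldSubalgebra r K) (hs : IsSelfAdjointFor f K) (ha : ∀ k ∈ K, ∀ v, f (k *ᵥ v) v = 0) :
    2 * r ∣ Fintype.card ι := by
  refine two_mul_dvd_finrank hf hK hs ha _ ⊤ (by rw [finrank_top, Module.finrank_fintype_fun_eq_card])
    (fun w _ hw => ?_) fun k _ w _ => Submodule.mem_top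
  obtain ⟨⟨u, hu⟩, ⟨u', hu'⟩⟩ := hf.nondegenerate w hw
  exact ⟨⟨u, Submodule.mem_top, hu⟩, ⟨u', Submodule.mem_top, hu'⟩⟩

end dims

variable {m : ℕ}

/-- Over two elements, a decomposition into planes fixes a quadratic form. -/
theorem quad_of_planes_two [Fintype F] (hq : Fintype.card F = 2) {t : ℕ}
    {D : Fin t → Submodule F (Fin m ⊕ Fin m → F)}
    (hD : IsNondegenerateMDecomposition (Cfsg.sympForm m F) 2 D) :
    ∃ Q : (Fin m ⊕ Fin m → F) → F, IsNondegenerateQuadraticForm Q ∧
      (∀ u v, QuadraticMap.polar Q u v = Cfsg.sympForm m F u v) ∧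
      decompositionStabilizer D ⊓ Cfsg.spGL m F ≤ quadSimilarityGroup Q := by
  classical
  have hb := H45.sympForm_bilinear m F
  have halt := H45.sympForm_self m F
  have hbool : ∀ x : F, x = 0 ∨ x = 1 := fun x => by
    rcases eq_or_ne x 0 with h | h
    · exact Or.inl h
    · exact Or.inr (H46.eq_one_of_card_two hq h)
  have h2 : (2 : F) = 0 := by
    rcases hbool ((1 : F) + 1) with h | h
    · rw [← one_add_one_eq_two]; exact h
    · simp at h
  have h11 : (1 : F) + 1 = 0 := by rw [one_add_one_eq_two]; exact h2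
  set P := H45.proj hb hD with hP
  let q : (Fin m ⊕ Fin m → F) → F := fun w => if w = 0 then 0 else 1
  let Q : (Fin m ⊕ Fin m → F) → F := fun x => ∑ i, q (P i x)
  have hq2 : ∀ i, ∀ a ∈ D i, ∀ b ∈ D i, q (a + b) = q a + q b + Cfsg.sympForm m F a b := by
    intro i a ha b hb'
    by_cases ha0 : a = 0
    · subst ha0; simp [q, H45.bl_zero_left hb]
    by_cases hb0 : b = 0
    · subst hb0; simp [q, H45.bl_zero_right hb]
    by_cases hab : a = b
    · subst hab
      have : a + a = 0 := by rw [← two_smul F a, h2, zero_smul]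
      simp [q, this, ha0, halt, h11]
    have hne : a + b ≠ 0 := by
      intro h
      apply hab
      calc a = a + (a + b) := by rw [h, add_zero]
        _ = (2 : F) • a + b := by rw [two_smul]; abel
        _ = b := by rw [h2, zero_smul, zero_add]
    have hfab : Cfsg.sympForm m F a b = 1 := by
      refine (hbool _).resolve_left fun h0 => ?_
      obtain ⟨x, hx, hfx⟩ := (hD.nondegenerate i a ha ha0).2
      have hspan : Submodule.span F {a, b} = D i := by
        refine Submodule.eq_of_le_of_finrank_le ?_ ?_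
        · rw [Submodule.span_le]
          rintro y (rfl | rfl)
          exacts [ha, hb']
        · have hli : LinearIndependent F ![a, b] := by
            rw [LinearIndependent.pair_iff' ha0]
            intro c hc
            rcases hbool c with rfl | rfl
            · exact hb0 (by simpa using hc.symm)
            · exact hab (by simpa using hc)
          have := finrank_span_eq_card hli
          rw [Matrix.range_cons_cons_empty, Fintype.card_fin] at this
          rw [hD.decomp.finrank_eq, this]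
      rw [← hspan, Submodule.mem_span_pair] at hx
      obtain ⟨c, d, rfl⟩ := hx
      exact hfx (by rw [hb.add_right, hb.smul_right, hb.smul_right, halt, h0]; ring)
    simp only [q, if_neg ha0, if_neg hb0, if_neg hne, hfab]
    linear_combination -h2
  have hQadd : ∀ x y, Q (x + y) = Q x + Q y + Cfsg.sympForm m F x y := by
    intro x y
    simp only [Q, H45.form_eq_sum hb hD x y, ← Finset.sum_add_distrib]
    refine Finset.sum_congr rfl fun i _ => ?_
    rw [map_add]
    exact hq2 i _ (H45.proj_mem hb hD i x) _ (H45.proj_mem hb hD i y)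
  have hpol : ∀ u v, QuadraticMap.polar Q u v = Cfsg.sympForm m F u v := fun u v => by
    rw [QuadraticMap.polar, hQadd]; ring
  have hQsmul : ∀ (c : F) (v : Fin m ⊕ Fin m → F), Q (c • v) = c ^ 2 * Q v := by
    intro c v
    rcases hbool c with rfl | rfl <;> simp [Q, q]
  refine ⟨Q, ⟨hQsmul, ?_, ?_⟩, hpol, ?_⟩
  · rw [show QuadraticMap.polar Q = Cfsg.sympForm m F from funext fun u => funext fun v => hpol u v]
    exact hb
  · rw [show QuadraticMap.polar Q = Cfsg.sympForm m F from funext fun u => funext fun v => hpol u v]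
    exact H45.sympForm_nondegenerate m F
  rintro g ⟨hg, -⟩
  obtain ⟨σ, hσ⟩ := H45.apply_mem_of_mem_decompositionStabilizer hg
  refine ⟨1, fun x => ?_⟩
  rw [Units.val_one, one_mul]
  show Q (H45.act g x) = Q x
  have hcomp : ∀ i, P (σ i) (H45.act g x) = H45.act g (P i x) := by
    intro i
    have h1 : H45.act g x = ∑ j, H45.act g (P (σ.symm j) x) := by
      rw [Equiv.sum_comp σ.symm (fun j => H45.act g (P j x)), ← H45.act_sum, hP, H45.sum_proj hb hD x]
    rw [h1, hP, H45.proj_sum hb hD (fun j => H45.act g (H45.proj hb hD (σ.symm j) x))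
      (fun j => by simpa using hσ (σ.symm j) _ (H45.proj_mem hb hD _ x))]
    simp
  simp only [Q]
  rw [← Equiv.sum_comp σ]
  refine Finset.sum_congr rfl fun i _ => ?_
  rw [hcomp]
  simp only [q]
  by_cases h : P i x = 0
  · simp [h]
  · rw [if_neg h, if_neg]
    exact fun h' => h (H45.act_injective g (h'.trans (H45.act_zero g).symm))

/-- Over three elements, a tensor factor of dimension three gives a decomposition. -/
theorem decomp_of_tensor_three [Fintype F] (hq : Fintype.card F = 3) {n₁ : ℕ} (h1 : 2 ≤ n₁)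
    (e : (Fin m ⊕ Fin m) ≃ Fin n₁ × Fin 3) (T : GL (Fin m ⊕ Fin m) F)
    {f₁ : (Fin n₁ → F) → (Fin n₁ → F) → F} {f₂ : (Fin 3 → F) → (Fin 3 → F) → F}
    (hf₂ : IsSymmetricForm f₂) (hT : IsTensorFormStructure id (Cfsg.sympForm m F) f₁ f₂ e T) :
    ∃ D : Fin 3 → Submodule F (Fin m ⊕ Fin m → F),
      IsNondegenerateMDecomposition (Cfsg.sympForm m F) n₁ D ∧
      tensorProductSubgroup n₁ 3 e T ⊓ Cfsg.spGL m F ≤ decompositionStabilizer D := by
  classical
  have hf : IsSymplecticForm (Cfsg.sympForm m F) :=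
    ⟨H45.sympForm_bilinear m F, fun v w => H48.sf_swap w v, H45.sympForm_self m F,
      H45.sympForm_nondegenerate m F⟩
  obtain ⟨c, -, hT⟩ := hT
  obtain ⟨B, d, hd, hB⟩ := H49.exists_frame_three hq f₂ hf₂
  set G1 := gramMatrix f₁
  set G2 := gramMatrix f₂
  have hBdet : IsUnit B.det := by
    have h := congrArg Matrix.det hB
    rw [Matrix.det_mul, Matrix.det_mul, Matrix.det_transpose, Matrix.det_smul, Matrix.det_one, mul_one] at h
    exact isUnit_iff_ne_zero.2 fun e => pow_ne_zero _ hd (by rw [← h, e, mul_zero])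
  -- pure tensors and the three blocks
  let L : Fin 3 → ((Fin n₁ → F) →ₗ[F] (Fin m ⊕ Fin m → F)) := fun j =>
    { toFun := fun x => (T : Matrix (Fin m ⊕ Fin m) (Fin m ⊕ Fin m) F) *ᵥ ((fun p => x p.1 * B p.2 j) ∘ e)
      map_add' := fun x y => by
        rw [← Matrix.mulVec_add]
        refine congrArg _ (funext fun i => ?_)
        simp [add_mul]
      map_smul' := fun a x => by
        rw [RingHom.id_apply, ← Matrix.mulVec_smul]
        refine congrArg _ (funext fun i => ?_)
        simp [mul_assoc] }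
  have hform : ∀ i j x y, Cfsg.sympForm m F (L i x) (L j y) =
      c * formOfGram id G1 x y * (if i = j then d else 0) := by
    intro i j x y
    refine (hT _ _).trans ?_
    have h2 : formOfGram id G2 (fun b => B b i) (fun b => B b j) = if i = j then d else 0 := by
      have h := congrFun (congrFun hB i) j
      rw [Matrix.smul_apply, Matrix.one_apply, smul_eq_mul, mul_ite, mul_one, mul_zero] at h
      rw [← h]
      simp only [formOfGram, Matrix.mul_apply, Matrix.transpose_apply, id, Finset.sum_mul]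
      rw [Finset.sum_comm]
    rw [← h2, mul_assoc]
    congr 1
    simp only [formOfGram, id, Fintype.sum_prod_type, Matrix.kroneckerMap_apply, Finset.mul_sum, Finset.sum_mul]
    rw [Finset.sum_comm]
    refine Finset.sum_congr rfl fun b _ => ?_
    conv_rhs => rw [Finset.sum_comm]
    refine Finset.sum_congr rfl fun a _ => ?_
    conv_rhs => rw [Finset.sum_comm]
    refine Finset.sum_congr rfl fun a' _ => ?_
    refine Finset.sum_congr rfl fun b' _ => ?_
    ring
  have horth : ∀ i j, i ≠ j → AreOrthogonalFor (Cfsg.sympForm m F) (LinearMap.range (L i)) (LinearMap.range (L j)) := by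
    rintro i j hij _ ⟨x, rfl⟩ _ ⟨y, rfl⟩
    rw [hform, if_neg hij, mul_zero]
  have htop : ⨆ i, LinearMap.range (L i) = ⊤ := by
    rw [Submodule.eq_top_iff']
    intro v
    obtain ⟨X, rfl⟩ : ∃ X : Fin n₁ × Fin 3 → F, v = (T : Matrix (Fin m ⊕ Fin m) (Fin m ⊕ Fin m) F) *ᵥ (X ∘ e) :=
      ⟨fun p => (((T⁻¹ : GL (Fin m ⊕ Fin m) F) : Matrix (Fin m ⊕ Fin m) (Fin m ⊕ Fin m) F) *ᵥ v) (e.symm p), by
        rw [show (fun p => (((T⁻¹ : GL (Fin m ⊕ Fin m) F) : Matrix (Fin m ⊕ Fin m) (Fin m ⊕ Fin m) F) *ᵥ v) (e.symm p)) ∘ e =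
          ((T⁻¹ : GL (Fin m ⊕ Fin m) F) : Matrix (Fin m ⊕ Fin m) (Fin m ⊕ Fin m) F) *ᵥ v by funext i; simp,
          Matrix.mulVec_mulVec, ← Units.val_mul, mul_inv_cancel, Units.val_one, Matrix.one_mulVec]⟩
    have key : (T : Matrix (Fin m ⊕ Fin m) (Fin m ⊕ Fin m) F) *ᵥ (X ∘ e) = ∑ j, L j (fun a => ∑ b, B⁻¹ j b * X (a, b)) := by
      simp only [L, LinearMap.coe_mk, AddHom.coe_mk, ← Matrix.mulVec_sum]
      refine congrArg _ (funext fun i => ?_)
      simp only [Finset.sum_apply, Function.comp_apply, Finset.sum_mul]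
      rw [Finset.sum_comm]
      have hBB : ∀ b, ∑ j, B (e i).2 j * B⁻¹ j b = if (e i).2 = b then 1 else 0 := fun b => by
        rw [← Matrix.mul_apply, Matrix.mul_nonsing_inv B hBdet, Matrix.one_apply]
      calc X (e i) = ∑ b, (∑ j, B (e i).2 j * B⁻¹ j b) * X ((e i).1, b) := by simp [hBB]
        _ = _ := Finset.sum_congr rfl fun b _ => by
            rw [Finset.sum_mul]; exact Finset.sum_congr rfl fun j _ => by ring
    rw [key]
    exact sum_mem fun j _ => Submodule.mem_iSup_of_mem j ⟨_, rfl⟩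
  have hnd : ∀ i, IsNondegenerateOn (Cfsg.sympForm m F) (LinearMap.range (L i)) := by
    intro i w hw hw0
    obtain ⟨u, hu⟩ := (hf.nondegenerate w hw0).1
    have hu' : u ∈ ⨆ j, LinearMap.range (L j) := htop ▸ Submodule.mem_top
    obtain ⟨y, hy, hsum⟩ := Submodule.mem_iSup_iff_exists_finsupp _ _ |>.1 hu'
    have h1 : Cfsg.sympForm m F (y i) w ≠ 0 := by
      intro h0
      apply hu
      rw [← hsum, Finsupp.sum, (SForm.of_symplectic hf).sum_left]
      refine Finset.sum_eq_zero fun j _ => ?_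
      by_cases hj : j = i
      · rw [hj]; exact h0
      · exact horth j i hj _ (hy j) _ hw
    exact ⟨⟨y i, hy i, h1⟩, ⟨y i, hy i, fun h => h1 ((SForm.of_symplectic hf).eq_zero_comm h)⟩⟩
  have hrank : ∀ i, Module.finrank F (LinearMap.range (L i)) = n₁ := by
    intro i
    rw [LinearMap.finrank_range_of_inj, Module.finrank_fin_fun]
    intro x y hxy
    funext a
    obtain ⟨b, hb⟩ : ∃ b, B b i ≠ 0 := by
      by_contra hcon
      push Not at hcon
      exact hBdet.ne_zero (Matrix.det_eq_zero_of_column_eq_zero i hcon)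
    have h2 := congrFun (Matrix.mulVec_injective_of_isUnit T.isUnit hxy) (e.symm (a, b))
    simp only [Function.comp_apply, Equiv.apply_symm_apply] at h2
    exact mul_right_cancel₀ hb h2
  have hind : iSupIndep fun i => LinearMap.range (L i) := by
    intro i
    rw [Submodule.disjoint_def]
    intro w hw hw'
    by_contra hw0
    obtain ⟨y, hy, hyw⟩ := (hnd i w hw hw0).1
    apply hyw
    have hle : (⨆ (j : Fin 3) (_ : j ≠ i), LinearMap.range (L j)) ≤ (SForm.of_symplectic hf).perp (LinearMap.range (L i)) :=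
      iSup₂_le fun j hj x hx z hz => horth j i hj x hx z hz
    exact (SForm.of_symplectic hf).eq_zero_comm (hle hw' y hy)
  refine ⟨fun i => LinearMap.range (L i), ⟨⟨by norm_num, by omega, hrank, hind, htop⟩, hnd, horth⟩, ?_⟩
  rintro g ⟨hg, hgI⟩
  obtain ⟨g1, ⟨k, ⟨a, b, hab⟩, rfl⟩, rfl⟩ := hg
  set g := MulAut.conj T (glReindex e.symm k)
  set A : Matrix (Fin n₁) (Fin n₁) F := (a : Matrix (Fin n₁) (Fin n₁) F)
  set C := B⁻¹ * (b : Matrix (Fin 3) (Fin 3) F) * B with hC
  have hgL : ∀ j x, (g : Matrix (Fin m ⊕ Fin m) (Fin m ⊕ Fin m) F) *ᵥ L j x = ∑ i, C i j • L i (A *ᵥ x) := by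
    intro j x
    show ((T * glReindex e.symm k * T⁻¹ : GL (Fin m ⊕ Fin m) F) : Matrix (Fin m ⊕ Fin m) (Fin m ⊕ Fin m) F) *ᵥ
      ((T : Matrix (Fin m ⊕ Fin m) (Fin m ⊕ Fin m) F) *ᵥ _) = _
    rw [Matrix.mulVec_mulVec, ← Units.val_mul, inv_mul_cancel_right, Units.val_mul, ← Matrix.mulVec_mulVec]
    simp only [L, LinearMap.coe_mk, AddHom.coe_mk, ← Matrix.mulVec_smul, ← Matrix.mulVec_sum]
    refine congrArg _ ?_
    show ((k : Matrix (Fin n₁ × Fin 3) (Fin n₁ × Fin 3) F).submatrix e e) *ᵥ _ = _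
    rw [Matrix.submatrix_mulVec_equiv]
    funext p
    have hBC : ∀ s, ∑ i, B s i * C i j = ((b : Matrix (Fin 3) (Fin 3) F) * B) s j := fun s => by
      rw [← Matrix.mul_apply, hC, Matrix.mul_assoc B⁻¹, Matrix.mul_nonsing_inv_cancel_left _ _ hBdet]
    simp only [Function.comp_apply, Finset.sum_apply, Pi.smul_apply, smul_eq_mul, hab]
    rw [show (∑ i, C i j * ((A *ᵥ x) (e p).1 * B (e p).2 i)) =
        (A *ᵥ x) (e p).1 * ∑ i, B (e p).2 i * C i j by
      rw [Finset.mul_sum]; exact Finset.sum_congr rfl fun i _ => by ring,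
      hBC]
    simp only [Matrix.mulVec, dotProduct, Fintype.sum_prod_type, Matrix.kroneckerMap_apply, Matrix.mul_apply,
      Function.comp_apply, Equiv.apply_symm_apply, Finset.sum_mul, Finset.mul_sum]
    rw [Finset.sum_comm]
    refine Finset.sum_congr rfl fun s _ => Finset.sum_congr rfl fun s' _ => ?_
    ring
  -- the second factor is monomial in the frame
  obtain ⟨x₀, y₀, hxy⟩ : ∃ x y, Cfsg.sympForm m F (L 0 x) (L 0 y) ≠ 0 := by
    have hne : LinearMap.range (L 0) ≠ ⊥ := fun h => by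
      have := hrank 0
      rw [h, finrank_bot] at this
      omega
    obtain ⟨w, hw, hw0⟩ := Submodule.exists_mem_ne_zero_of_ne_bot hne
    obtain ⟨u, hu, huw⟩ := (hnd 0 w hw hw0).1
    obtain ⟨x, rfl⟩ := hu
    obtain ⟨y, rfl⟩ := hw
    exact ⟨x, y, huw⟩
  set ν := formOfGram id G1 x₀ y₀
  set μ := formOfGram id G1 (A *ᵥ x₀) (A *ᵥ y₀)
  have hν : c * d * ν ≠ 0 := by
    rw [hform, if_pos rfl] at hxy
    intro h
    apply hxy
    linear_combination h
  have hent : ∀ i j, c * d * μ * (Cᵀ * C) i j = c * d * ν * (1 : Matrix (Fin 3) (Fin 3) F) i j := by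
    intro i j
    have h : Cfsg.sympForm m F ((g : Matrix (Fin m ⊕ Fin m) (Fin m ⊕ Fin m) F) *ᵥ L i x₀) ((g : Matrix (Fin m ⊕ Fin m) (Fin m ⊕ Fin m) F) *ᵥ L j y₀) =
        Cfsg.sympForm m F (L i x₀) (L j y₀) := hgI _ _
    rw [hgL, hgL, (SForm.of_symplectic hf).sum_left] at h
    have hsr : ∀ (v : Fin m ⊕ Fin m → F) (u : Fin 3 → (Fin m ⊕ Fin m → F)),
        Cfsg.sympForm m F v (∑ l, u l) = ∑ l, Cfsg.sympForm m F v (u l) := fun v u =>
      map_sum (AddMonoidHom.mk' (fun z => Cfsg.sympForm m F v z) (hf.bilinear.add_right v)) u _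
    simp only [hsr, hf.bilinear.smul_left, hf.bilinear.smul_right, hform, mul_ite, mul_zero,
      Finset.sum_ite_eq, Finset.mem_univ, if_true] at h
    rw [Matrix.mul_apply, Matrix.one_apply, Finset.mul_sum]
    simp only [Matrix.transpose_apply]
    refine Eq.trans (Finset.sum_congr rfl fun l _ => ?_) (h.trans ?_)
    · ring
    · split <;> ring
  have hμ : c * d * μ ≠ 0 := fun h => hν (by simpa [h] using (hent 0 0).symm)
  obtain ⟨π, s, hs, hC'⟩ := H49.monomial_three hq C (c * d * ν / (c * d * μ)) (div_ne_zero hν hμ) (by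
    ext i j
    rw [Matrix.smul_apply, smul_eq_mul, div_mul_eq_mul_div, eq_div_iff hμ, mul_comm]
    exact hent i j)
  refine ⟨π, fun i => Submodule.eq_of_le_of_finrank_le (Submodule.map_le_iff_le_comap.2 ?_) ?_⟩
  · rintro _ ⟨x, rfl⟩
    rw [Submodule.mem_comap, Matrix.toLin'_apply]
    show (g : Matrix (Fin m ⊕ Fin m) (Fin m ⊕ Fin m) F) *ᵥ _ ∈ _
    rw [hgL]
    refine sum_mem fun l _ => ?_
    rw [hC' l i]
    by_cases hl : l = π i
    · rw [if_pos hl, hl]
      exact Submodule.smul_mem _ _ ⟨_, rfl⟩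
    · rw [if_neg hl, zero_smul]
      exact zero_mem _
  · have hinj : Function.Injective (Matrix.toLin' (g : Matrix (Fin m ⊕ Fin m) (Fin m ⊕ Fin m) F)) :=
      fun u v huv => Matrix.mulVec_injective_of_isUnit g.isUnit (by simpa using huv)
    exact le_of_eq (by rw [hrank]; exact ((Submodule.equivMapOfInjective _ hinj (LinearMap.range (L i))).finrank_eq.symm.trans (hrank i)).symm)

/-- The possibilities for a maximal subgroup of the symplectic group. -/
inductive SpMax (H : Subgroup (GL (Fin m ⊕ Fin m) F)) [Fintype F] : Prop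
  | singular (W : Submodule F (Fin m ⊕ Fin m → F)) (hW : W ≠ ⊥) (hs : IsTotallySingularFor (Cfsg.sympForm m F) W)
      (h : H = subspaceStabilizer W ⊓ Cfsg.spGL m F)
  | nondeg (W : Submodule F (Fin m ⊕ Fin m → F)) (hW : W ≠ ⊥) (hn : IsNondegenerateOn (Cfsg.sympForm m F) W)
      (hlt : Module.finrank F W < m) (h : H = subspaceStabilizer W ⊓ Cfsg.spGL m F)
  | decomp (t k : ℕ) (D : Fin t → Submodule F (Fin m ⊕ Fin m → F)) (hc : t * k = 2 * m) (hk : 2 ∣ k)
      (hq : k = 2 → 3 ≤ Fintype.card F) (hD : IsNondegenerateMDecomposition (Cfsg.sympForm m F) k D)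
      (h : H = decompositionStabilizer D ⊓ Cfsg.spGL m F)
  | pair (D : Fin 2 → Submodule F (Fin m ⊕ Fin m → F)) (ho : Odd (Fintype.card F)) (hD : IsMDecomposition m D)
      (hs : ∀ i, IsTotallySingularFor (Cfsg.sympForm m F) (D i))
      (h : H = decompositionStabilizer D ⊓ Cfsg.spGL m F)
  | selfField (r : ℕ) (K : Subalgebra F (Matrix (Fin m ⊕ Fin m) (Fin m ⊕ Fin m) F)) (hr : r.Prime) (hdvd : r ∣ m)
      (hK : IsFieldSubalgebra r K) (hs : IsSelfAdjointFor (Cfsg.sympForm m F) K)
      (ha : ∀ k ∈ K, ∀ v, Cfsg.sympForm m F (k *ᵥ v) v = 0)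
      (h : H = subalgebraNormalizer K ⊓ Cfsg.spGL m F)
  | unitField (K : Subalgebra F (Matrix (Fin m ⊕ Fin m) (Fin m ⊕ Fin m) F)) (ho : Odd (Fintype.card F))
      (hK : IsFieldSubalgebra 2 K) (ha : IsAdjointClosedFor (Cfsg.sympForm m F) K)
      (hns : ¬ IsSelfAdjointFor (Cfsg.sympForm m F) K) (h : H = subalgebraNormalizer K ⊓ Cfsg.spGL m F)
  | tensor (n₁ n₂ : ℕ) (e : (Fin m ⊕ Fin m) ≃ Fin n₁ × Fin n₂) (P : GL (Fin m ⊕ Fin m) F)
      (f₁ : (Fin n₁ → F) → (Fin n₁ → F) → F) (f₂ : (Fin n₂ → F) → (Fin n₂ → F) → F) (ho : Odd (Fintype.card F))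
      (h1 : 2 ∣ n₁) (h2 : 3 ≤ n₂) (hc : n₁ * n₂ = 2 * m) (hq : n₂ = 3 → 5 ≤ Fintype.card F)
      (hf₁ : IsSymplecticForm f₁) (hf₂ : IsSymmetricForm f₂)
      (hT : IsTensorFormStructure id (Cfsg.sympForm m F) f₁ f₂ e P)
      (h : H = tensorProductSubgroup n₁ n₂ e P ⊓ Cfsg.spGL m F)
  | subfield (F₀ : Subfield F) (r : ℕ) (P : GL (Fin m ⊕ Fin m) F) (ζ : F) (hr : r.Prime)
      (hc : Fintype.card F = Nat.card F₀ ^ r) (hζ : ζ ≠ 0) (hR : IsFormRationalStructure (Cfsg.sympForm m F) F₀ ζ P)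
      (h : H = subfieldSubgroup F₀ P ⊓ Cfsg.spGL m F)
  | quad (Q : (Fin m ⊕ Fin m → F) → F) (he : ¬ Odd (Fintype.card F)) (hQ : IsNondegenerateQuadraticForm Q)
      (hp : ∀ u v, QuadraticMap.polar Q u v = Cfsg.sympForm m F u v)
      (h : H = quadSimilarityGroup Q ⊓ Cfsg.spGL m F)
  | power (a k : ℕ) (hk : 1 ≤ k) (hc : 2 * m = a ^ k) (hor : a.Prime ∨ (2 ≤ a ∧ 2 ≤ k))
      (hd : AbelianData (H ⊔ scalars (Fin m ⊕ Fin m) F) a k ∨ PowerData (H ⊔ scalars (Fin m ⊕ Fin m) F) a k)
  | residual (h : InSymplecticResidualClass H)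

/-- Every maximal subgroup of the symplectic group is geometric or residual. -/
theorem spMax [Fintype F] (hm : 2 ≤ m) {H : Subgroup (GL (Fin m ⊕ Fin m) F)}
    (hH : IsMaximalIn (Cfsg.spGL m F) H) : SpMax H := by
  classical
  have hf : IsSymplecticForm (Cfsg.sympForm m F) :=
    ⟨H45.sympForm_bilinear m F, fun v w => H48.sf_swap w v, H45.sympForm_self m F,
      H45.sympForm_nondegenerate m F⟩
  have hcard : Fintype.card (Fin m ⊕ Fin m) = 2 * m := by
    rw [Fintype.card_sum, Fintype.card_fin]; ring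
  have hn : 3 ≤ Fintype.card (Fin m ⊕ Fin m) := by omega
  set G := H ⊔ scalars (Fin m ⊕ Fin m) F with hGdef
  have hG : G ≤ similarityGroup (Cfsg.sympForm m F) := by
    refine sup_le (fun g hg => ⟨1, fun u v => ?_⟩) ?_
    · rw [Units.val_one, one_mul]
      exact hH.1.le hg u v
    · rintro _ ⟨c, rfl⟩
      refine ⟨c * c, fun u v => ?_⟩
      have hc : ∀ u : Fin m ⊕ Fin m → F,
          Matrix.scalar (Fin m ⊕ Fin m) (c : F) *ᵥ u = (c : F) • u := fun u => by
        funext i; simp [Matrix.mulVec_diagonal]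
      show Cfsg.sympForm m F (Matrix.scalar _ (c : F) *ᵥ u) (Matrix.scalar _ (c : F) *ᵥ v) = _
      rw [hc, hc, hf.bilinear.smul_left, hf.bilinear.smul_right, Units.val_mul, mul_assoc]
  have hHG : H ≤ G := le_sup_left
  have cut : ∀ M : Subgroup (GL (Fin m ⊕ Fin m) F), G ≤ M → ¬ HasTransvections (Cfsg.sympForm m F) M →
      H = M ⊓ Cfsg.spGL m F :=
    fun M hGM hM => H46.eq_inf_of_maximal hH (hHG.trans hGM) fun h => hM (spGL_transvection m h)
  have cutD : ∀ {t k : ℕ} {D : Fin t → Submodule F (Fin m ⊕ Fin m → F)},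
      IsMDecomposition k D → 2 ≤ k → H ≤ decompositionStabilizer D → H = decompositionStabilizer D ⊓ Cfsg.spGL m F :=
    fun hD hk h => H46.eq_inf_of_maximal hH h fun h' =>
      not_transv_decomposition hf hD hk (spGL_transvection m h')
  have mkDecomp : ∀ (t k : ℕ) (D : Fin t → Submodule F (Fin m ⊕ Fin m → F)), t * k = 2 * m →
      IsNondegenerateMDecomposition (Cfsg.sympForm m F) k D → H ≤ decompositionStabilizer D → SpMax H := by
    intro t k D hc hD h
    have hk : 2 ∣ k := by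
      rw [← hD.decomp.finrank_eq ⟨0, by linarith [hD.decomp.two_le]⟩]
      exact two_dvd_finrank hf (hD.nondegenerate _)
    have hk2 : 2 ≤ k := Nat.le_of_dvd hD.decomp.pos hk
    have hH' := cutD hD.decomp hk2 h
    by_cases hq : k = 2 → 3 ≤ Fintype.card F
    · exact .decomp t k D hc hk hq hD hH'
    push Not at hq
    obtain ⟨rfl, hq⟩ := hq
    have hq2 : Fintype.card F = 2 := le_antisymm (by omega) Fintype.one_lt_card
    obtain ⟨Q, hQ, hp, hle⟩ := quad_of_planes_two hq2 hD
    refine .quad Q (by rw [hq2]; decide) hQ hp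
      (H46.eq_inf_of_maximal hH (hH'.le.trans hle) fun h' => not_transv_quad hf hn hQ hp (spGL_transvection m h'))
  rcases spOutcome hn hf hG le_sup_right with
    ⟨W, hW, hs, h⟩ | ⟨W, hW, hnd, hlt, h⟩ | ⟨t, k, D, hc, hD, h⟩ | ⟨k, D, ho, hc, hD, hs, h⟩ |
    ⟨r, K, hr, hK, -, hs, ha, h⟩ | ⟨K, ho, hK, -, ha, hns, h⟩ |
    ⟨n₁, n₂, e, P, f₁, f₂, ho, h1, h2, hf₁, hf₂, hT, h⟩ | ⟨F₀, r, P, ζ, hr, hc, hζ, hR, h⟩ |
    ⟨Q, he, hQ, hp, h⟩ | ⟨r, k, hr, hk, hc, hd⟩ | ⟨a, k, ha, hk, hc, hd⟩ |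
    ⟨P, hle, hnorm, hperf, hsimple, hnab, hcent, habs, hsub, hQ, hU⟩
  · have ht : W ≠ ⊤ := by
      rintro rfl
      obtain ⟨u, hu⟩ := (hf.nondegenerate (fun _ => 1) (fun e => one_ne_zero (congrFun e (Sum.inl ⟨0, by omega⟩)))).1
      exact hu (hs _ Submodule.mem_top _ Submodule.mem_top)
    exact .singular W hW hs (cut _ h (not_transv_subspace hf hW ht))
  · have ht : W ≠ ⊤ := by
      rintro rfl
      rw [finrank_top, Module.finrank_fintype_fun_eq_card] at hlt
      omega
    exact .nondeg W hW hnd (by omega) (cut _ h (not_transv_subspace hf hW ht))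
  · exact mkDecomp t k D (by omega) hD (hHG.trans h)
  · obtain rfl : k = m := by omega
    exact .pair D ho hD hs (cutD hD hm (hHG.trans h))
  · have hd := dvd_half_card hf hK hs ha
    rw [hcard] at hd
    exact .selfField r K hr ((Nat.mul_dvd_mul_iff_left (by norm_num)).1 hd) hK hs ha
      (cut _ h (not_transv_field hf hn hr.ne_one hK))
  · exact .unitField K ho hK ha hns (cut _ h (not_transv_field hf hn (by norm_num) hK))
  · have hc : n₁ * n₂ = 2 * m := by
      rw [← hcard, Fintype.card_congr e, Fintype.card_prod, Fintype.card_fin, Fintype.card_fin]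
    have h1' : 2 ∣ n₁ := by simpa using (H46.even_card_of_symplectic hf₁).two_dvd
    have hH' := cut _ h (not_transv_tensor hf h1 h2 e P)
    by_cases hq : n₂ = 3 → 5 ≤ Fintype.card F
    · exact .tensor n₁ n₂ e P f₁ f₂ ho h1' h2 hc hq hf₁ hf₂ hT hH'
    push Not at hq
    obtain ⟨rfl, hq⟩ := hq
    have hq3 : Fintype.card F = 3 := by
      have := Fintype.one_lt_card (α := F)
      obtain ⟨s, hs⟩ := ho
      omega
    obtain ⟨D, hD, hle⟩ := decomp_of_tensor_three hq3 h1 e P hf₂ hT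
    exact mkDecomp 3 n₁ D (by omega) hD (hH'.le.trans hle)
  · refine .subfield F₀ r P ζ hr hc hζ hR (cut _ h (not_transv_subfield hf (by omega) (fun e => ?_) P))
    subst e
    have h3 : Nat.card (⊤ : Subfield F) = Fintype.card F := by
      rw [Nat.card_congr (Subfield.topEquiv (K := F)).toEquiv, Nat.card_eq_fintype_card]
    rw [h3] at hc
    exact (Nat.pow_lt_pow_right Fintype.one_lt_card hr.one_lt).ne (by rw [pow_one]; exact hc)
  · exact .quad Q he hQ hp (cut _ h (not_transv_quad hf hn hQ hp))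
  · exact .power r k hk (hcard ▸ hc) (Or.inl hr) (Or.inl hd)
  · exact .power a k (by omega) (hcard ▸ hc) (Or.inr ⟨ha, hk⟩) (Or.inr hd)
  · refine .residual ⟨P, ⟨?_, fun x hx => hnorm x (hHG hx), hperf, hsimple, hnab,
      fun x hx => hcent x (hHG hx), habs, hsub⟩, hQ, hU⟩
    refine hle.trans ?_
    rw [hGdef, H46.commutator_sup_scalars]
    exact Subgroup.commutator_le_self H

end FormAsch

end H51
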