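import Cfsg.Agent.H51.FormAsch.SpMax

/-!
Arithmetic for reading off the possibilities in a given dimension.
-/

set_option autoImplicit false

open scoped Matrix MatrixGroups

namespace H51

namespace FormAsch

/-- A number is no perfect power when it avoids the small ones. -/
theorem not_power_of_small {n a k : ℕ} (hn : n < 16) (h4 : n ≠ 4) (h8 : n ≠ 8) (h9 : n ≠ 9)
    (ha : 2 ≤ a) (hk : 2 ≤ k) : n ≠ a ^ k := by
  intro h
  have ha' : a < 4 := by
    by_contra hc
    have : 4 ^ 2 ≤ a ^ k := (Nat.pow_le_pow_left (by omega) 2).trans (Nat.pow_le_pow_right (by omega) hk)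
    omega
  have hk' : k < 4 := by
    by_contra hc
    have : 2 ^ 4 ≤ a ^ k := (Nat.pow_le_pow_left ha 4).trans (Nat.pow_le_pow_right (by omega) (by omega))
    omega
  interval_cases a <;> interval_cases k <;> omega

/-- Neither a prime power nor a perfect power. -/
theorem not_power {n a k : ℕ} (hn : n < 16) (hn2 : 2 ≤ n) (h4 : n ≠ 4) (h8 : n ≠ 8) (h9 : n ≠ 9)
    (hp : ¬ n.Prime) (hk : 1 ≤ k) (hc : n = a ^ k) (hor : a.Prime ∨ (2 ≤ a ∧ 2 ≤ k)) : False := by
  rcases Nat.lt_or_ge k 2 with h | h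
  · obtain rfl : k = 1 := by omega
    rw [pow_one] at hc
    rcases hor with ha | ⟨-, h2⟩
    · exact hp (hc ▸ ha)
    · omega
  · have ha : 2 ≤ a := by rcases hor with ha | ⟨ha, -⟩; exacts [ha.two_le, ha]
    exact not_power_of_small hn h4 h8 h9 ha h hc

open Cfsg.Geo in
/-- Symplectic groups with scalars consist of similarities. -/
theorem spSup_le_similarity {m : ℕ} {F : Type*} [Field F] {H : Subgroup (GL (Fin m ⊕ Fin m) F)}
    (hH : H ≤ Cfsg.spGL m F) :
    H ⊔ scalars (Fin m ⊕ Fin m) F ≤ similarityGroup (Cfsg.sympForm m F) := by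
  refine sup_le (fun g hg => ⟨1, fun u v => ?_⟩) ?_
  · rw [Units.val_one, one_mul]
    exact hH hg u v
  · rintro _ ⟨c, rfl⟩
    refine ⟨c * c, fun u v => ?_⟩
    have hc : ∀ u : Fin m ⊕ Fin m → F,
        Matrix.scalar (Fin m ⊕ Fin m) (c : F) *ᵥ u = (c : F) • u := fun u => by
      funext i; simp [Matrix.mulVec_diagonal]
    show Cfsg.sympForm m F (Matrix.scalar _ (c : F) *ᵥ u) (Matrix.scalar _ (c : F) *ᵥ v) = _
    rw [hc, hc, (H45.sympForm_bilinear m F).smul_left, (H45.sympForm_bilinear m F).smul_right, Units.val_mul,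
      mul_assoc]

end FormAsch

end H51
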