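import Cfsg.Agent.H51.FormAsch.SpTools
import Cfsg.Agent.H51.FormAsch.PowerQuad
import Cfsg.Agent.H51.FormAsch.AbelianSymp

/-!
Maximal subgroups of symplectic groups in the perfect power case: symplectic-type normalisers and tensor powers
of planes.
-/

set_option autoImplicit false
set_option linter.unusedSectionVars false
set_option linter.style.haveILetI false
set_option maxHeartbeats 800000

open Cfsg.Geo
open scoped Matrix MatrixGroups

namespace H51

namespace FormAsch

open H46 (ptm ptm_mul ptm_transpose ptm_smul glPtm glPtm_val glPerm glCoords glCoords_val matCoords vecCoords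
  vecCoords_bijective vecCoords_matCoords)

variable {ι : Type} [Fintype ι] [DecidableEq ι] {F : Type*} [Field F] [Fintype F]

/-- A matrix with every vector as an eigenvector is scalar. -/
theorem mem_scalars_of_eigen [Nonempty ι] {x : GL ι F}
    (h : ∀ v : ι → F, ∃ a : F, (x : Matrix ι ι F) *ᵥ v = a • v) : x ∈ scalars ι F := by
  classical
  choose a ha using fun i => h (Pi.single i 1)
  have hent : ∀ i j, (x : Matrix ι ι F) i j = if i = j then a j else 0 := fun i j => by
    have := congrFun (ha j) i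
    rw [Matrix.mulVec_single_one] at this
    simp only [Matrix.col_apply] at this
    rw [this]
    simp [Pi.single_apply]
  have heq : ∀ i j, a i = a j := by
    intro i j
    by_cases hij : i = j
    · rw [hij]
    obtain ⟨b, hb⟩ := h (Pi.single i 1 + Pi.single j 1)
    rw [Matrix.mulVec_add, ha, ha] at hb
    have h1 := congrFun hb i
    have h3 := congrFun hb j
    simp [hij, Ne.symm hij] at h1 h3
    rw [h1, h3]
  obtain ⟨i⟩ := (inferInstance : Nonempty ι)
  refine H46.mem_scalars_of_eq_smul (c := a i) ?_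
  ext s t
  rw [hent]
  by_cases hst : s = t
  · subst hst; simp [heq i s]
  · simp [hst]

/-- A normaliser of a 2-group of isometries with a non-central involution has no transvection group. -/
theorem not_transv_sympType [Nonempty ι] {f : (ι → F) → (ι → F) → F} (hf : IsSymplecticForm f)
    (h2 : (2 : F) ≠ 0) {R : Subgroup (GL ι F)}
    (hiso : ∀ x ∈ R, ∀ u v, f ((x : Matrix ι ι F) *ᵥ u) ((x : Matrix ι ι F) *ᵥ v) = f u v)
    (hfour : ∀ x ∈ R, x ^ 4 = 1) (hinv : ∃ x ∈ R, x * x = 1 ∧ x ∉ scalars ι F) :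
    ¬ HasTransvections f (subgroupNormalizer R) := by
  intro h
  obtain ⟨x, hx, hxx, hxs⟩ := hinv
  apply hxs
  refine mem_scalars_of_eigen fun v => ?_
  by_cases hv : v = 0
  · exact ⟨0, by rw [hv, Matrix.mulVec_zero, smul_zero]⟩
  set w := (x : Matrix ι ι F) *ᵥ v with hw
  have hxv : ∀ z, (x : Matrix ι ι F) *ᵥ ((x : Matrix ι ι F) *ᵥ z) = z := fun z => by
    rw [Matrix.mulVec_mulVec, ← Units.val_mul, hxx, Units.val_one, Matrix.one_mulVec]
  have hadj : ∀ u z, f ((x : Matrix ι ι F) *ᵥ u) z = f u ((x : Matrix ι ι F) *ᵥ z) := fun u z => by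
    conv_lhs => rw [← hxv z]
    exact hiso x hx _ _
  have hvw : f v w = 0 := by
    have h1 : f v w = -f v w := by
      conv_lhs => rw [hw, ← hadj, ← hw, hf.skew w v]
    rcases mul_eq_zero.1 (show (2 : F) * f v w = 0 by linear_combination h1) with h | h
    · exact absurd h h2
    · exact h
  have hwv : f w v = 0 := by rw [hf.skew w v, hvw, neg_zero]
  obtain ⟨g, hg, hgx⟩ := h v 1
  rw [subgroupNormalizer, Subgroup.mem_normalizer_iff] at hg
  set r := g * x * g⁻¹ * x⁻¹ with hr
  have hrR : r ∈ R := mul_mem ((hg x).1 hx) (inv_mem hx)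
  have hxinv : x⁻¹ = x := inv_eq_of_mul_eq_one_right hxx
  have hgi : ∀ z, ((g⁻¹ : GL ι F) : Matrix ι ι F) *ᵥ z = z - f z v • v := by
    intro z
    have h1 : (g : Matrix ι ι F) *ᵥ (z - f z v • v) = z := by
      rw [hgx, sub_eq_add_neg, ← neg_smul, hf.bilinear.add_left, hf.bilinear.smul_left, hf.alternating,
        mul_zero, add_zero, one_mul, add_assoc, ← add_smul, neg_add_cancel, zero_smul, add_zero]
    conv_lhs => rw [← h1, Matrix.mulVec_mulVec, ← Units.val_mul, inv_mul_cancel, Units.val_one,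
      Matrix.one_mulVec]
  have hrz : ∀ z, (r : Matrix ι ι F) *ᵥ z = z + (f z v • v - f z w • w) := by
    intro z
    rw [hr, hxinv]
    simp only [Units.val_mul, ← Matrix.mulVec_mulVec]
    rw [hgi, Matrix.mulVec_sub, Matrix.mulVec_smul, hxv, ← hw, hgx, hadj, ← hw, sub_eq_add_neg z,
      hf.bilinear.add_left, ← neg_smul, hf.bilinear.smul_left, hwv]
    simp only [mul_zero, add_zero, one_mul]
    module
  have hpow : ∀ n : ℕ, ∀ z, ((r ^ n : GL ι F) : Matrix ι ι F) *ᵥ z =
      z + (n : F) • (f z v • v - f z w • w) := by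
    intro n
    induction n with
    | zero => intro z; simp
    | succ n ih =>
      intro z
      rw [pow_succ', Units.val_mul, ← Matrix.mulVec_mulVec, ih, Matrix.mulVec_add, Matrix.mulVec_smul,
        Matrix.mulVec_sub, Matrix.mulVec_smul, Matrix.mulVec_smul, hrz z, hrz v, hrz w, hf.alternating,
        hf.alternating, hvw, hwv]
      push_cast
      module
  have hzero : ∀ z, f z v • v - f z w • w = 0 := by
    intro z
    have h1 := hpow 4 z
    rw [hfour r hrR, Units.val_one, Matrix.one_mulVec] at h1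
    have h4 : ((4 : ℕ) : F) ≠ 0 := by
      have : ((4 : ℕ) : F) = 2 * 2 := by norm_num
      rw [this]
      exact mul_ne_zero h2 h2
    exact (smul_eq_zero.1 (left_eq_add.1 h1)).resolve_left h4
  obtain ⟨z, hz⟩ := (hf.nondegenerate v hv).1
  by_cases hzw : f z w = 0
  · exfalso
    have h1 := hzero z
    rw [hzw, zero_smul, sub_zero] at h1
    rcases smul_eq_zero.1 h1 with h | h
    · exact hz h
    · exact hv h
  · refine ⟨f z v / f z w, ?_⟩
    have h1 := sub_eq_zero.1 (hzero z)
    rw [div_eq_inv_mul, mul_smul, h1, smul_smul, inv_mul_cancel₀ hzw, one_smul]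

/-- The tensor product of vectors. -/
def pureVec {k a : ℕ} (u : Fin k → Fin a → F) (y : Fin k → Fin a) : F := ∏ i, u i (y i)

theorem pure_of_mem_wreath {k a : ℕ} {h : GL (Fin k → Fin a) F} (hh : h ∈ tensorWreathStandard a k F) :
    ∀ u : Fin k → Fin a → F, ∃ w, (h : Matrix (Fin k → Fin a) (Fin k → Fin a) F) *ᵥ pureVec u = pureVec w := by
  classical
  unfold tensorWreathStandard at hh
  induction hh using Subgroup.closure_induction'' with
  | mem y hy =>
    intro u
    rcases hy with ⟨gs, hgs⟩ | ⟨s, hs⟩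
    · refine ⟨fun i => (gs i : Matrix (Fin a) (Fin a) F) *ᵥ u i, ?_⟩
      funext x
      simp only [Matrix.mulVec, dotProduct, pureVec, hgs, ← Finset.prod_mul_distrib]
      exact (Fintype.prod_sum fun i j => (gs i : Matrix (Fin a) (Fin a) F) (x i) j * u i j).symm
    · refine ⟨fun i => u (s.symm i), ?_⟩
      funext x
      simp only [Matrix.mulVec, dotProduct, hs, ite_mul, one_mul, zero_mul, Finset.sum_ite_eq',
        Finset.mem_univ, if_true, pureVec, Function.comp_apply]
      rw [← Equiv.prod_comp s fun i => u (s.symm i) (x i)]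
      simp
  | inv_mem y hy =>
    intro u
    rcases hy with ⟨gs, hgs⟩ | ⟨s, hs⟩
    · obtain rfl : y = glPtm gs := Units.ext (Matrix.ext hgs)
      refine ⟨fun i => (((gs i)⁻¹ : GL (Fin a) F) : Matrix (Fin a) (Fin a) F) *ᵥ u i, ?_⟩
      funext x
      simp only [Units.inv_mk, glPtm, Matrix.mulVec, dotProduct, pureVec, ptm, Matrix.of_apply,
        ← Finset.prod_mul_distrib]
      exact (Fintype.prod_sum fun i j =>
        (((gs i)⁻¹ : GL (Fin a) F) : Matrix (Fin a) (Fin a) F) (x i) j * u i j).symm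
    · obtain rfl : y = glPerm s := Units.ext (Matrix.ext hs)
      refine ⟨fun i => u (s i), ?_⟩
      funext x
      simp only [Units.inv_mk, glPerm, Matrix.mulVec, dotProduct, Matrix.of_apply, ite_mul, one_mul, zero_mul,
        pureVec]
      rw [Finset.sum_eq_single (x ∘ ⇑s.symm)]
      · rw [if_pos (by funext i; simp)]
        rw [← Equiv.prod_comp s fun i => u i ((x ∘ ⇑s.symm) i)]
        simp
      · intro b _ hb
        rw [if_neg]
        intro e
        exact hb (by subst e; funext i; simp)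
      · simp
  | one => exact fun u => ⟨u, by simp⟩
  | mul x y _ _ hx hy =>
    intro u
    obtain ⟨w, hw⟩ := hy u
    obtain ⟨w', hw'⟩ := hx w
    exact ⟨w', by rw [Units.val_mul, ← Matrix.mulVec_mulVec, hw, hw']⟩

/-- A tensor wreath group has no transvection group in odd characteristic. -/
theorem not_transv_power {f : (ι → F) → (ι → F) → F} (hf : IsSymplecticForm f) (h2 : (2 : F) ≠ 0) {k : ℕ}
    (hk : 2 ≤ k) (e : ι ≃ (Fin k → Fin 2)) (P : GL ι F) (c : F) (hc : c ≠ 0)
    (hform : ∀ x y, f (unc e P x) (unc e P y) =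
      c * formOfGram (id : F → F) (ptm fun _ : Fin k => altTwo F) x y) :
    ¬ HasTransvections f (tensorWreathSubgroup 2 k e P) := by
  classical
  intro h
  let z₀ : Fin k → Fin 2 := fun _ => 0
  let z₁ : Fin k → Fin 2 := fun _ => 1
  have h01 : z₀ ≠ z₁ := fun e => by simpa [z₀, z₁] using congrFun e ⟨0, by omega⟩
  set v := unc e P (Pi.single z₀ 1 + Pi.single z₁ 1) with hv
  set x := unc e P (Pi.single z₀ 1) with hxdef
  have hval : f x v = c := by
    rw [hxdef, hv, hform, H46.formOfGram_eq]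
    simp [Function.id_comp, Matrix.mulVec_add, ptm, altTwo, z₀, z₁, zero_pow (show k ≠ 0 by omega)]
  obtain ⟨g, hg, hgx⟩ := h v c⁻¹
  obtain ⟨_, ⟨hh, hhm, rfl⟩, rfl⟩ := hg
  obtain ⟨w, hw⟩ := pure_of_mem_wreath hhm (fun _ t => if t = 0 then 1 else 0)
  have hpure : pureVec (fun (_ : Fin k) (t : Fin 2) => if t = 0 then (1 : F) else 0) = Pi.single z₀ 1 := by
    funext y
    rcases eq_or_ne y z₀ with rfl | hy
    · simp [pureVec, z₀]
    · obtain ⟨i, hi⟩ := Function.ne_iff.1 hy
      rw [Pi.single_eq_of_ne hy]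
      exact Finset.prod_eq_zero (Finset.mem_univ i) (if_neg (by simpa [z₀] using hi))
  have h1 := congrArg (vecCoords e P) (hgx x)
  rw [hval, inv_mul_cancel₀ hc, one_smul, map_add, hxdef, hv, vecCoords_unc, vecCoords_unc,
    show ((MulAut.conj P).toMonoidHom ((glReindex e.symm).toMonoidHom hh) : GL ι F) = glCoords e P hh from rfl,
    glCoords_val, vecCoords_matCoords, vecCoords_unc, ← hpure, hw, hpure] at h1
  have e0 : pureVec w z₀ = 2 := by
    rw [h1]
    simp [h01, one_add_one_eq_two]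
  have e1 : pureVec w z₁ = 1 := by
    rw [h1]
    simp [Ne.symm h01]
  let y : Fin k → Fin 2 := Function.update z₀ ⟨0, by omega⟩ 1
  have ey : pureVec w y = 0 := by
    have hy0 : y ≠ z₀ := fun e => by simpa [y, z₀] using congrFun e ⟨0, by omega⟩
    have hy1 : y ≠ z₁ := fun e => by
      have := congrFun e ⟨1, by omega⟩
      simp [y, z₀, z₁, Function.update_of_ne] at this
    rw [h1]
    simp [hy0, hy1]
  obtain ⟨i, -, hi⟩ := Finset.prod_eq_zero_iff.1 ey
  have hyi : y i = 0 ∨ y i = 1 := by omega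
  rcases hyi with hyi | hyi <;> rw [hyi] at hi
  · exact h2 (e0.symm.trans (Finset.prod_eq_zero (Finset.mem_univ i) hi))
  · exact one_ne_zero (e1.symm.trans (Finset.prod_eq_zero (Finset.mem_univ i) hi))

/-- In odd characteristic the number of factors is odd. -/
theorem odd_of_power_two [Nonempty ι] {f : (ι → F) → (ι → F) → F} (hf : IsSymplecticForm f) (h2 : (2 : F) ≠ 0)
    {k : ℕ} (e : ι ≃ (Fin k → Fin 2)) (P : GL ι F) (c : F)
    (hform : ∀ x y, f (unc e P x) (unc e P y) =
      c * formOfGram (id : F → F) (ptm fun _ : Fin k => altTwo F) x y) : Odd k := by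
  classical
  by_contra hk
  rw [Nat.not_odd_iff_even] at hk
  have hT : (ptm fun _ : Fin k => altTwo F)ᵀ = ptm fun _ : Fin k => altTwo F := by
    rw [ptm_transpose, show (fun _ : Fin k => (altTwo F)ᵀ) = fun _ => (-1 : F) • altTwo F from funext fun _ => by
      ext i j; fin_cases i <;> fin_cases j <;> simp [altTwo], ptm_smul, Finset.prod_const, Finset.card_univ,
      Fintype.card_fin, hk.neg_one_pow, one_smul]
  have hsym : ∀ u v, f u v = f v u := fun u v => by
    rw [← unc_vecCoords e P u, ← unc_vecCoords e P v, hform, hform, H46.formOfGram_eq, H46.formOfGram_eq,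
      Function.id_comp, Function.id_comp, Matrix.dotProduct_mulVec, ← Matrix.mulVec_transpose, hT,
      dotProduct_comm]
  obtain ⟨i⟩ := (inferInstance : Nonempty ι)
  obtain ⟨⟨w, hw⟩, -⟩ := hf.nondegenerate (Pi.single i 1) (fun h => by simpa using congrFun h i)
  apply hw
  have h1 := hsym w (Pi.single i 1)
  rw [hf.skew (Pi.single i 1) w] at h1
  exact (mul_eq_zero.1 (show (2 : F) * f w (Pi.single i 1) = 0 by linear_combination h1)).resolve_left h2

/-- A subfield of prime co-degree is proper. -/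
theorem subfield_ne_top {F₁ : Subfield F} {s : ℕ} (hs : s.Prime) (hc : Fintype.card F = Nat.card F₁ ^ s) :
    F₁ ≠ ⊤ := by
  rintro rfl
  have h3 : Nat.card (⊤ : Subfield F) = Fintype.card F := by
    rw [Nat.card_congr (Subfield.topEquiv (K := F)).toEquiv, Nat.card_eq_fintype_card]
  rw [h3] at hc
  exact (Nat.pow_lt_pow_right Fintype.one_lt_card hs.one_lt).ne (by rw [pow_one]; exact hc)

variable {m : ℕ}

theorem isSymplecticForm_sympForm : IsSymplecticForm (Cfsg.sympForm m F) :=
  ⟨H45.sympForm_bilinear m F, fun v w => H48.sf_swap w v, H45.sympForm_self m F,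
    H45.sympForm_nondegenerate m F⟩

/-- The abelian case for a maximal subgroup of the symplectic group. -/
theorem sp_abelian_case (hm : 2 ≤ m) {H : Subgroup (GL (Fin m ⊕ Fin m) F)}
    (hH : IsMaximalIn (Cfsg.spGL m F) H) {r k : ℕ}
    (hd : AbelianData (H ⊔ scalars (Fin m ⊕ Fin m) F) r k) :
    r = 2 ∧ ((∃ (p : ℕ) (R : Subgroup (GL (Fin m ⊕ Fin m) F)), p.Prime ∧ Odd p ∧ Fintype.card F = p ∧
      IsSymplecticTypeGroup 2 R ∧ ActsAbsolutelyIrreducibly (matrixSet R) ∧
      R ≤ similarityGroup (Cfsg.sympForm m F) ∧ Nat.card R = 2 ^ (1 + 2 * k) ∧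
      Nat.card (Subgroup.center R) = 2 ∧ IsOfMinusType k R ∧ H = subgroupNormalizer R ⊓ Cfsg.spGL m F) ∨
    ∃ (F₁ : Subfield F) (s : ℕ) (P : GL (Fin m ⊕ Fin m) F) (ζ : F), s.Prime ∧
      Fintype.card F = Nat.card F₁ ^ s ∧ ζ ≠ 0 ∧ IsFormRationalStructure (Cfsg.sympForm m F) F₁ ζ P ∧
      H = subfieldSubgroup F₁ P ⊓ Cfsg.spGL m F) := by
  haveI : Nonempty (Fin m ⊕ Fin m) := ⟨Sum.inl ⟨0, by omega⟩⟩
  have hn : 3 ≤ Fintype.card (Fin m ⊕ Fin m) := by simp; omega
  have hf := isSymplecticForm_sympForm (F := F) (m := m)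
  have h2 : r = 2 → (2 : F) ≠ 0 := by
    rintro rfl h
    apply hd.card_ne
    rw [hd.card_eq]
    push_cast
    rw [h, zero_pow (by have := hd.one_le; omega)]
  obtain ⟨hr, hR | ⟨F₁, s, P, ζ, hs, hc, hζ, hR, hle⟩⟩ :=
    abelian_symp hf (spSup_le_similarity hH.1.le) hn hd
  · obtain ⟨p, R, hp, hpo, hq, hst, habs, hiso, hcard, hcen, hminus, hinv, hle⟩ := hR
    refine ⟨hr, .inl ⟨p, R, hp, hpo, hq, hst, habs, fun x hx => ⟨1, fun u v => ?_⟩, hcard, hcen, hminus,
      H46.eq_inf_of_maximal hH (le_sup_left.trans hle) fun h =>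
        not_transv_sympType hf (h2 hr) hiso (fun x hx => ?_) hinv (spGL_transvection m h)⟩⟩
    · rw [Units.val_one, one_mul]
      exact hiso x hx u v
    · have h1 : (⟨x, hx⟩ : R) ^ 4 = 1 := by
        have h4 : Monoid.exponent R = 4 := by rw [hst.exponent_eq]; rfl
        rw [← h4]
        exact Monoid.pow_exponent_eq_one _
      simpa using congrArg Subtype.val h1
  · exact ⟨hr, .inr ⟨F₁, s, P, ζ, hs, hc, hζ, hR, H46.eq_inf_of_maximal hH (le_sup_left.trans hle)
      fun h => not_transv_subfield hf (by omega) (subfield_ne_top hs hc) P (spGL_transvection m h)⟩⟩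

/-- The tensor power case with planes for a maximal subgroup of the symplectic group. -/
theorem sp_power_case (hm : 2 ≤ m) {H : Subgroup (GL (Fin m ⊕ Fin m) F)}
    (hH : IsMaximalIn (Cfsg.spGL m F) H) {k : ℕ}
    (hd : PowerData (H ⊔ scalars (Fin m ⊕ Fin m) F) 2 k) :
    (Odd (Fintype.card F) ∧ 5 ≤ Fintype.card F ∧ Odd k ∧ ∃ (e : (Fin m ⊕ Fin m) ≃ (Fin k → Fin 2))
      (P : GL (Fin m ⊕ Fin m) F) (f₁ : (Fin 2 → F) → (Fin 2 → F) → F), IsSymplecticForm f₁ ∧
      IsTensorPowerFormStructure id (Cfsg.sympForm m F) f₁ e P ∧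
      H = tensorWreathSubgroup 2 k e P ⊓ Cfsg.spGL m F) ∨
    (¬ Odd (Fintype.card F) ∧ ∃ Q : (Fin m ⊕ Fin m → F) → F, IsNondegenerateQuadraticForm Q ∧
      (∀ u v, QuadraticMap.polar Q u v = Cfsg.sympForm m F u v) ∧
      H = quadSimilarityGroup Q ⊓ Cfsg.spGL m F) := by
  haveI : Nonempty (Fin m ⊕ Fin m) := ⟨Sum.inl ⟨0, by omega⟩⟩
  have hn : 3 ≤ Fintype.card (Fin m ⊕ Fin m) := by simp; omega
  have hf := isSymplecticForm_sympForm (F := F) (m := m)
  have hG := spSup_le_similarity hH.1.le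
  obtain ⟨h4, e, P, c, hc, hmem, hform⟩ := power_two hf hG hd
  by_cases h2 : (2 : F) = 0
  · obtain ⟨Q, hQ, hp, hle⟩ := quad_of_power_two hf h2 hG hd.two_le_num e P c hmem hform
    exact .inr ⟨not_odd_card_of_two h2, Q, hQ, hp, H46.eq_inf_of_maximal hH (le_sup_left.trans hle)
      fun h => not_transv_quad hf hn hQ hp (spGL_transvection m h)⟩
  · have ho := odd_card_of_two h2
    refine .inl ⟨ho, by obtain ⟨j, hj⟩ := ho; omega, odd_of_power_two hf h2 e P c hform, e, P,
      formOfGram (id : F → F) (altTwo F), isSymplecticForm_altTwo, ⟨c, hc, fun x y => ?_⟩, ?_⟩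
    · rw [gramMatrix_formOfGram]
      have hu : ∀ x, unc e P x = (P : Matrix _ _ F) *ᵥ (x ∘ e) := fun x => rfl
      rw [← hu, ← hu, hform]
      rfl
    · refine H46.eq_inf_of_maximal hH (fun g hg => ?_) fun h =>
        not_transv_power hf h2 hd.two_le_num e P c hc hform (spGL_transvection m h)
      obtain ⟨s, x, rfl⟩ := hmem g (le_sup_left (b := scalars _ F) hg)
      refine H46.mem_tensorWreathSubgroup e P _ ?_
      rw [MulEquiv.symm_apply_apply]
      exact mul_mem (Subgroup.subset_closure (Or.inr ⟨s, fun u v => rfl⟩))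
        (Subgroup.subset_closure (Or.inl ⟨x, fun u v => rfl⟩))

end FormAsch

end H51
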