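import Cfsg.Agent.H51.FormAsch.SpFourThree

/-!
Over three elements a unitary structure in dimension four lies in the normaliser of a symplectic-type group.
-/

set_option autoImplicit false
set_option linter.unusedSectionVars false
set_option linter.style.haveILetI false
set_option maxHeartbeats 1000000

open Cfsg.Geo
open scoped Matrix MatrixGroups

namespace H51

namespace FormAsch

open H46 (scl scl_val scl_mem exists_scl scl_comm scl_mul_val matCoords glCoords glCoords_val vecCoords)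

variable {ι : Type} [Fintype ι] [DecidableEq ι] {F : Type*} [Field F] [Fintype F]

/-- The rotation of a plane. -/
def rotTwo (F : Type*) [Field F] : Matrix (Fin 2) (Fin 2) F := !![0, -1; 1, 0]

/-- The complex structure. -/
def jFour (F : Type*) [Field F] : Matrix (Fin 4) (Fin 4) F := kronFour 1 (rotTwo F)

/-- The first quaternion. -/
def qFour (F : Type*) [Field F] : Matrix (Fin 4) (Fin 4) F := kronFour (rotTwo F) 1

/-- The second quaternion. -/
def pFour (F : Type*) [Field F] : Matrix (Fin 4) (Fin 4) F := kronFour !![1, 0; 0, -1] (rotTwo F)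

/-- The semilinear involution. -/
def xFour (F : Type*) [Field F] : Matrix (Fin 4) (Fin 4) F := kronFour (rotTwo F) !![1, 1; 1, -1]

theorem four_entries :
    jFour F = !![0, -1, 0, 0; 1, 0, 0, 0; 0, 0, 0, -1; 0, 0, 1, 0] ∧
    qFour F = !![0, 0, -1, 0; 0, 0, 0, -1; 1, 0, 0, 0; 0, 1, 0, 0] ∧
    pFour F = !![0, -1, 0, 0; 1, 0, 0, 0; 0, 0, 0, 1; 0, 0, -1, 0] ∧
    xFour F = !![0, 0, -1, -1; 0, 0, -1, 1; 1, 1, 0, 0; 1, -1, 0, 0] := by
  refine ⟨?_, ?_, ?_, ?_⟩ <;> ext a b <;> fin_cases a <;> fin_cases b <;>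
    simp [jFour, qFour, pFour, xFour, rotTwo, kronFour, hiBit, loBit, Matrix.one_apply]

theorem qEight_four_key : ∀ a p s d : ZMod 3, a * a + p * p + s * s = 1 → d * d + p * p + s * s = 1 →
    s * (a + d) = 0 → p * (a + d) = 0 →
    (p = 0 ∧ s = 0 ∧ d = a) ∨ (p = 0 ∧ s = 0 ∧ d = -a) ∨ (a = 0 ∧ d = 0 ∧ s = 0) ∨
      (a = 0 ∧ d = 0 ∧ p = 0) := by decide

theorem centralizer_four_key : ∀ a b c d : ZMod 3, a * a + b * b - c * c - d * d = 1 → a * d - b * c = 0 →
    a * c + b * d = 0 →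
    (b = 0 ∧ c = 0 ∧ d = 0) ∨ (a = 0 ∧ c = 0 ∧ d = 0) ∨ (a = 0 ∧ b = 0 ∧ d = c) ∨ (a = 0 ∧ b = 0 ∧ d = -c) := by
  decide

/-- A skew element commuting with the complex structure and squaring to minus one is one of eight. -/
theorem skew_four_cases (h3 : Fintype.card F = 3) {M : Matrix (Fin 4) (Fin 4) F} (hcomm : M * jFour F = jFour F * M)
    (hskew : Mᵀ = -M) (hsq : M * M = -1) :
    ∃ c : F, c ≠ 0 ∧ (M = c • jFour F ∨ M = c • qFour F ∨ M = c • pFour F ∨ M = c • (qFour F * pFour F)) := by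
  have h2 := two_ne_of_three h3
  haveI : Fact (Nat.Prime 3) := ⟨Nat.prime_three⟩
  let ε : ZMod 3 ≃+* F := ZMod.ringEquivOfPrime F Nat.prime_three h3
  obtain ⟨hJ, hQ, hP, -⟩ := four_entries (F := F)
  have hz : ∀ i, M i i = 0 := fun i => by
    have h := congrFun (congrFun hskew i) i
    simp only [Matrix.transpose_apply, Matrix.neg_apply] at h
    exact (mul_eq_zero.1 (show (2 : F) * M i i = 0 by linear_combination h)).resolve_left h2
  have ha : ∀ i k, M i k = -M k i := fun i k => by simpa using congrFun (congrFun hskew k) i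
  have e12 : M 1 2 = -M 0 3 := by
    have h := congrFun (congrFun hcomm 0) 2
    simp [hJ, Matrix.mul_apply, Fin.sum_univ_four] at h
    linear_combination h
  have e13 : M 1 3 = M 0 2 := by
    have h := congrFun (congrFun hcomm 1) 2
    simp [hJ, Matrix.mul_apply, Fin.sum_univ_four] at h
    linear_combination h
  set a := M 1 0 with ha'
  set p := M 0 2 with hp'
  set s := M 1 2 with hs'
  set d := M 3 2 with hd'
  have hM : M = !![0, -a, p, -s; a, 0, s, p; -p, -s, 0, -d; s, -p, d, 0] := by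
    ext i k
    fin_cases i <;> fin_cases k <;> simp [hz, ha 0 1, ha 2 0, ha 3 0, ha 2 1, ha 3 1, ha 2 3, e12, e13,
      ← ha', ← hp', ← hs', ← hd']
    all_goals linear_combination -e12
  have s00 := congrFun (congrFun hsq 0) 0
  have s22 := congrFun (congrFun hsq 2) 2
  have s02 := congrFun (congrFun hsq 0) 2
  have s03 := congrFun (congrFun hsq 0) 3
  rw [hM] at s00 s22 s02 s03
  simp [Matrix.mul_apply, Fin.sum_univ_four] at s00 s22 s02 s03
  obtain ⟨a₀, haε⟩ := ε.surjective a
  obtain ⟨p₀, hpε⟩ := ε.surjective p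
  obtain ⟨s₀, hsε⟩ := ε.surjective s
  obtain ⟨d₀, hdε⟩ := ε.surjective d
  have hk := qEight_four_key a₀ p₀ s₀ d₀
    (ε.injective (by simp [haε, hpε, hsε]; linear_combination -s00))
    (ε.injective (by simp [hdε, hpε, hsε]; linear_combination -s22))
    (ε.injective (by simp only [map_add, map_mul, map_zero, haε, hsε, hdε]; linear_combination -s02))
    (ε.injective (by simp only [map_add, map_mul, map_zero, haε, hpε, hdε]; linear_combination -s03))
  rcases hk with ⟨h1, h2', h4⟩ | ⟨h1, h2', h4⟩ | ⟨h1, h2', h4⟩ | ⟨h1, h2', h4⟩ <;>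
    have f1 := congrArg ε h1 <;> have f2 := congrArg ε h2' <;> have f4 := congrArg ε h4 <;>
    simp only [map_zero, map_neg, haε, hpε, hsε, hdε] at f1 f2 f4
  · refine ⟨a, fun h => ?_, .inl ?_⟩
    · rw [h, f1, f2] at s00; simp at s00
    · rw [hM, hJ, f1, f2, f4]; ext i k; fin_cases i <;> fin_cases k <;> simp
  · refine ⟨a, fun h => ?_, .inr <| .inr <| .inl ?_⟩
    · rw [h, f1, f2] at s00; simp at s00
    · rw [hM, hP, f1, f2, f4]; ext i k; fin_cases i <;> fin_cases k <;> simp
  · refine ⟨-p, fun h => ?_, .inr <| .inl ?_⟩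
    · rw [f1, f4, neg_eq_zero.1 h] at s00; simp at s00
    · rw [hM, hQ, f1, f2, f4]; ext i k; fin_cases i <;> fin_cases k <;> simp
  · refine ⟨s, fun h => ?_, .inr <| .inr <| .inr ?_⟩
    · rw [f1, f4, h] at s00; simp at s00
    · rw [hM, hQ, hP, f1, f2, f4]
      ext i k; fin_cases i <;> fin_cases k <;> simp [Matrix.mul_apply, Fin.sum_univ_four]

/-- An isometry centralising the quaternions lies in the dihedral group. -/
theorem centralizer_four_cases (h3 : Fintype.card F = 3) {M : Matrix (Fin 4) (Fin 4) F}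
    (hq : M * qFour F = qFour F * M) (hp : M * pFour F = pFour F * M) (hiso : Mᵀ * jFour F * M = jFour F) :
    ∃ c : F, c ≠ 0 ∧ (M = c • 1 ∨ M = c • jFour F ∨ M = c • xFour F ∨ M = c • (jFour F * xFour F)) := by
  have h2 := two_ne_of_three h3
  haveI : Fact (Nat.Prime 3) := ⟨Nat.prime_three⟩
  let ε : ZMod 3 ≃+* F := ZMod.ringEquivOfPrime F Nat.prime_three h3
  obtain ⟨hJ, hQ, hP, hX⟩ := four_entries (F := F)
  have q : ∀ i k, (M * qFour F) i k = (qFour F * M) i k := fun i k => by rw [hq]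
  have p : ∀ i k, (M * pFour F) i k = (pFour F * M) i k := fun i k => by rw [hp]
  set a := M 0 0 with ha'
  set b := M 1 0 with hb'
  set c := M 2 0 with hc'
  set d := M 3 0 with hd'
  have hM : M = !![a, -b, -c, -d; b, a, -d, c; c, d, a, -b; d, -c, b, a] := by
    have q00 := q 0 0; have q01 := q 0 1; have q02 := q 0 2; have q03 := q 0 3
    have q10 := q 1 0; have q11 := q 1 1; have q12 := q 1 2; have q13 := q 1 3
    have p00 := p 0 0; have p10 := p 1 0; have p20 := p 2 0; have p30 := p 3 0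
    simp [hQ, hP, Matrix.mul_apply, Fin.sum_univ_four, ← ha', ← hb', ← hc', ← hd']
      at q00 q01 q02 q03 q10 q11 q12 q13 p00 p10 p20 p30
    ext i k
    fin_cases i <;> fin_cases k <;> simp [← ha', ← hb', ← hc', ← hd']
    all_goals grind
  have i01 := congrFun (congrFun hiso 0) 1
  have i02 := congrFun (congrFun hiso 0) 2
  have i03 := congrFun (congrFun hiso 0) 3
  rw [hM, hJ] at i01 i02 i03
  simp [Matrix.mul_apply, Fin.sum_univ_four] at i01 i02 i03
  obtain ⟨a₀, haε⟩ := ε.surjective a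
  obtain ⟨b₀, hbε⟩ := ε.surjective b
  obtain ⟨c₀, hcε⟩ := ε.surjective c
  obtain ⟨d₀, hdε⟩ := ε.surjective d
  have e02 : a * d - b * c = 0 :=
    (mul_eq_zero.1 (show (2 : F) * (a * d - b * c) = 0 by linear_combination i02)).resolve_left h2
  have e03 : a * c + b * d = 0 :=
    (mul_eq_zero.1 (show (2 : F) * (a * c + b * d) = 0 by linear_combination -i03)).resolve_left h2
  have hk := centralizer_four_key a₀ b₀ c₀ d₀
    (ε.injective (by simp [haε, hbε, hcε, hdε]; linear_combination -i01))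
    (ε.injective (by simp [haε, hbε, hcε, hdε]; linear_combination e02))
    (ε.injective (by simp [haε, hbε, hcε, hdε]; linear_combination e03))
  rcases hk with ⟨h1, h2', h4⟩ | ⟨h1, h2', h4⟩ | ⟨h1, h2', h4⟩ | ⟨h1, h2', h4⟩ <;>
    have f1 := congrArg ε h1 <;> have f2 := congrArg ε h2' <;> have f4 := congrArg ε h4 <;>
    simp only [map_zero, map_neg, haε, hbε, hcε, hdε] at f1 f2 f4
  · refine ⟨a, fun h => ?_, .inl ?_⟩
    · rw [h, f1, f2, f4] at i01; simp at i01
    · rw [hM, f1, f2, f4]; ext i k; fin_cases i <;> fin_cases k <;> simp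
  · refine ⟨b, fun h => ?_, .inr <| .inl ?_⟩
    · rw [h, f1, f2, f4] at i01; simp at i01
    · rw [hM, hJ, f1, f2, f4]; ext i k; fin_cases i <;> fin_cases k <;> simp
  · refine ⟨c, fun h => ?_, .inr <| .inr <| .inl ?_⟩
    · rw [f1, f2, f4, h] at i01; simp at i01
    · rw [hM, hX, f1, f2, f4]; ext i k; fin_cases i <;> fin_cases k <;> simp
  · refine ⟨-c, fun h => ?_, .inr <| .inr <| .inr ?_⟩
    · rw [f1, f2, f4, neg_eq_zero.1 h] at i01; simp at i01
    · rw [hM, hJ, hX, f1, f2, f4]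
      ext i k; fin_cases i <;> fin_cases k <;> simp [Matrix.mul_apply, Fin.sum_univ_four]

/-- The square root of minus one in a unitary quadratic field structure over three elements. -/
theorem exists_root_three (h3 : Fintype.card F = 3) {f : (ι → F) → (ι → F) → F} (hf : IsSymplecticForm f)
    [Nonempty ι] {K : Subalgebra F (Matrix ι ι F)} (hK : IsFieldSubalgebra 2 K) (hac : IsAdjointClosedFor f K)
    (hns : ¬ IsSelfAdjointFor f K) :
    ∃ J ∈ K, J * J = -1 ∧ (∀ u v, f (J *ᵥ u) v = -f u (J *ᵥ v)) ∧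
      ∀ k ∈ K, k * k = -1 → k = J ∨ k = -J := by
  classical
  have h2 := two_ne_of_three h3
  have h30 := three_eq_zero h3
  have hnt : ∃ k ∈ K, ∀ c : F, k ≠ c • 1 := by
    by_contra hcon
    push Not at hcon
    have hle : Subalgebra.toSubmodule K ≤ Submodule.span F {(1 : Matrix ι ι F)} := fun k hk => by
      obtain ⟨c, rfl⟩ := hcon k hk
      exact Submodule.smul_mem _ _ (Submodule.mem_span_singleton_self _)
    have h := (Submodule.finrank_mono hle).trans (finrank_span_le_card ({(1 : Matrix ι ι F)} : Set (Matrix ι ι F)))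
    rw [show Module.finrank F (Subalgebra.toSubmodule K) = 2 from hK.finrank_eq] at h
    simp at h
  obtain ⟨k, hk, hks⟩ := hnt
  have hone : ∀ a b : F, a • k + b • (1 : Matrix ι ι F) = 0 → a = 0 ∧ b = 0 := by
    intro a b h
    by_cases ha : a = 0
    · refine ⟨ha, ?_⟩
      rw [ha, zero_smul, zero_add] at h
      exact (smul_eq_zero.1 h).resolve_right one_ne_zero
    · refine absurd ?_ (hks (-(a⁻¹ * b)))
      have := congrArg (fun X => a⁻¹ • X) h
      simp only [smul_add, smul_smul, inv_mul_cancel₀ ha, one_smul, smul_zero] at this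
      rw [neg_smul]
      exact eq_neg_of_add_eq_zero_left this
  haveI : FiniteDimensional F K := FiniteDimensional.finiteDimensional_submodule (Subalgebra.toSubmodule K)
  have hrep : ∀ y ∈ K, ∃ a b : F, y = a • k + b • 1 := by
    have hle : Submodule.span F {k, 1} ≤ Subalgebra.toSubmodule K := by
      rw [Submodule.span_le]
      rintro y (rfl | rfl)
      exacts [hk, one_mem K]
    have heq : Submodule.span F {k, 1} = Subalgebra.toSubmodule K := by
      refine Submodule.eq_of_le_of_finrank_le hle ?_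
      have hli : LinearIndependent F ![k, 1] := LinearIndependent.pair_iff.2 hone
      have := finrank_span_eq_card hli
      rw [Matrix.range_cons_cons_empty, Fintype.card_fin] at this
      rw [show Module.finrank F (Subalgebra.toSubmodule K) = 2 from hK.finrank_eq, this]
    intro y hy
    obtain ⟨a, b, h⟩ := Submodule.mem_span_pair.1 (heq.ge hy)
    exact ⟨a, b, h.symm⟩
  obtain ⟨a, b, hab⟩ := hrep (k * k) (mul_mem hk hk)
  set J := k + a • (1 : Matrix ι ι F) with hJ
  have hJK : J ∈ K := add_mem hk (Subalgebra.smul_mem _ (one_mem K) a)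
  have hJ0 : ∀ c : F, J ≠ c • 1 := fun c h => by
    have := hone 1 (a - c) (by rw [one_smul, sub_smul, ← add_sub_assoc, ← hJ, h, sub_self])
    exact one_ne_zero this.1
  have hJJ : J * J = (b + a * a) • (1 : Matrix ι ι F) := by
    have h3a : a + (a + a) = 0 := by linear_combination a * h30
    simp only [hJ, add_mul, mul_add, Matrix.mul_smul, Matrix.smul_mul, mul_one, one_mul]
    rw [hab]
    calc _ = (a + (a + a)) • k + (b + a * a) • (1 : Matrix ι ι F) := by module
      _ = _ := by rw [h3a, zero_smul, zero_add]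
  have hc0 : b + a * a ≠ 0 := by
    intro h0
    rw [h0, zero_smul] at hJJ
    obtain ⟨y, -, hy⟩ := hK.inv J hJK (fun h => hJ0 0 (by rw [h, zero_smul]))
    have := congrArg (fun X => J * X) hy
    simp only [mul_one] at this
    rw [← mul_assoc, hJJ, zero_mul] at this
    exact hJ0 0 (by rw [← this, zero_smul])
  have hJ2 : J * J = -1 := by
    rcases eq_or_neg_three h3 one_ne_zero hc0 with h | h
    swap
    · rw [hJJ, h, neg_smul, one_smul]
    exfalso
    rw [h, one_smul] at hJJ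
    obtain ⟨y, hy, hy1⟩ := hK.inv (J - 1) (sub_mem hJK (one_mem K))
      (fun h => hJ0 1 (by rw [one_smul]; exact sub_eq_zero.1 h))
    have h5 : J + 1 = ((J + 1) * (J - 1)) * y := by rw [mul_assoc, hy1, mul_one]
    rw [add_mul, mul_sub, hJJ, mul_one, one_mul, sub_add_sub_cancel, sub_self, zero_mul] at h5
    exact hJ0 (-1) (by rw [neg_smul, one_smul]; exact eq_neg_of_add_eq_zero_left h5)
  have huniq : ∀ y ∈ K, y * y = -1 → y = J ∨ y = -J := by
    intro y hy hyy
    obtain ⟨w, hw, hw1⟩ : ∃ w ∈ K, (y - J) * w = 1 ∨ y - J = 0 := by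
      by_cases h : y - J = 0
      · exact ⟨1, one_mem K, Or.inr h⟩
      · obtain ⟨w, hw, hw1⟩ := hK.inv _ (sub_mem hy hJK) h
        exact ⟨w, hw, Or.inl hw1⟩
    rcases hw1 with hw1 | hw1
    swap
    · exact Or.inl (sub_eq_zero.1 hw1)
    right
    have h0 : (y + J) * (y - J) = 0 := by
      rw [add_mul, mul_sub, mul_sub, hyy, hJ2, hK.comm J hJK y hy]
      abel
    have h5 : y + J = ((y + J) * (y - J)) * w := by rw [mul_assoc, hw1, mul_one]
    rw [h0, zero_mul] at h5
    exact eq_neg_of_add_eq_zero_left h5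
  refine ⟨J, hJK, hJ2, ?_, huniq⟩
  obtain ⟨J', hJ', hadj⟩ := hac J hJK
  have hS := SForm.of_symplectic hf
  have hsq : J' * J' = -1 := by
    refine hS.adj_unique (X := J * J) (fun u v => ?_) (fun u v => ?_)
    · rw [← Matrix.mulVec_mulVec, ← Matrix.mulVec_mulVec, hadj, hadj]
    · rw [hJ2, Matrix.neg_mulVec, Matrix.one_mulVec, Matrix.neg_mulVec, Matrix.one_mulVec, ← neg_one_smul F u,
        ← neg_one_smul F v, hf.bilinear.smul_left, hf.bilinear.smul_right]
  rcases huniq J' hJ' hsq with h | h <;> rw [h] at hadj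
  · exfalso
    refine hns fun y hy u v => ?_
    obtain ⟨s, t, rfl⟩ := hrep y hy
    have hk' : k = J - a • 1 := by rw [hJ, add_sub_cancel_right]
    simp only [hk', Matrix.add_mulVec, Matrix.sub_mulVec, Matrix.smul_mulVec, Matrix.one_mulVec,
      hf.bilinear.add_left, hf.bilinear.add_right, hS.sub_left, hS.sub_right, hf.bilinear.smul_left,
      hf.bilinear.smul_right, hadj u v]
  · intro u v
    rw [hadj, Matrix.neg_mulVec, ← neg_one_smul F (J *ᵥ v), hf.bilinear.smul_right, neg_one_mul]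

/-- A basis in which the complex structure and the form are standard. -/
theorem exists_unitary_basis_three (h3 : Fintype.card F = 3) {f : (ι → F) → (ι → F) → F} (hf : IsSymplecticForm f)
    (hc : Fintype.card ι = 4) {J : Matrix ι ι F} (hJJ : J * J = -1) (hJ : ∀ u v, f (J *ᵥ u) v = -f u (J *ᵥ v)) :
    ∃ (e : ι ≃ Fin 4) (P : GL ι F) (a : F), a ≠ 0 ∧ matCoords e P (jFour F) = J ∧
      ∀ x y, f (unc e P x) (unc e P y) = a * formOfGram (id : F → F) (-jFour F) x y := by
  classical
  have hS := SForm.of_symplectic hf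
  have h2 := two_ne_of_three h3
  have h30 := three_eq_zero h3
  have hJv : ∀ v, J *ᵥ (J *ᵥ v) = -v := fun v => by
    rw [Matrix.mulVec_mulVec, hJJ, Matrix.neg_mulVec, Matrix.one_mulVec]
  have hn : ∀ x y, f (-x) y = -f x y := fun x y => by
    rw [← neg_one_smul F x, hf.bilinear.smul_left, neg_one_mul]
  have hn' : ∀ x y, f x (-y) = -f x y := fun x y => by
    rw [← neg_one_smul F y, hf.bilinear.smul_right, neg_one_mul]
  have hsym : ∀ u v, f v (J *ᵥ u) = f u (J *ᵥ v) := fun u v => by rw [hf.skew, hJ, neg_neg]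
  have hpolar : ∀ u v, f (u + v) (J *ᵥ (u + v)) = f u (J *ᵥ u) + f v (J *ᵥ v) + 2 * f u (J *ᵥ v) := by
    intro u v
    rw [Matrix.mulVec_add, hf.bilinear.add_left, hf.bilinear.add_right, hf.bilinear.add_right, hsym u v]
    ring
  obtain ⟨u₁, hu₁⟩ : ∃ u, f u (J *ᵥ u) ≠ 0 := by
    by_contra hcon
    push Not at hcon
    haveI : Nonempty ι := Fintype.card_pos_iff.1 (by omega)
    obtain ⟨u, hu⟩ : ∃ u : ι → F, u ≠ 0 := exists_ne 0
    obtain ⟨-, w, hw⟩ := hf.nondegenerate u hu
    have h := hpolar u (J *ᵥ w)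
    rw [hcon, hcon, hcon, hJv, hn'] at h
    exact hw ((mul_eq_zero.1 (show (2 : F) * f u w = 0 by linear_combination h)).resolve_left h2)
  set a := f u₁ (J *ᵥ u₁) with ha
  let π : (ι → F) → (ι → F) := fun w =>
    w + (f (J *ᵥ u₁) w / a) • u₁ + (-(f u₁ w) / a) • (J *ᵥ u₁)
  have hπ₁ : ∀ w, f u₁ (π w) = 0 := fun w => by
    simp only [π, hf.bilinear.add_right, hf.bilinear.smul_right, hf.alternating, ← ha]
    field_simp
    ring
  have hπ₂ : ∀ w, f (J *ᵥ u₁) (π w) = 0 := fun w => by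
    simp only [π, hf.bilinear.add_right, hf.bilinear.smul_right, hf.alternating, hJ u₁ u₁, ← ha]
    field_simp
    ring
  obtain ⟨u₂, hu₂, hp₁, hp₂⟩ : ∃ u, f u (J *ᵥ u) ≠ 0 ∧ f u₁ u = 0 ∧ f (J *ᵥ u₁) u = 0 := by
    by_contra hcon
    have hzero : ∀ w, f (π w) (J *ᵥ π w) = 0 := fun w => by
      by_contra h
      exact hcon ⟨π w, h, hπ₁ w, hπ₂ w⟩
    have hπadd : ∀ w z, π (w + z) = π w + π z := fun w z => by
      simp only [π, hf.bilinear.add_right]
      rw [show (f (J *ᵥ u₁) w + f (J *ᵥ u₁) z) / a = f (J *ᵥ u₁) w / a + f (J *ᵥ u₁) z / a from add_div _ _ _,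
        show -(f u₁ w + f u₁ z) / a = -(f u₁ w) / a + -(f u₁ z) / a by ring, add_smul, add_smul]
      abel
    have hπzero : ∀ v, π v = 0 := by
      intro v
      by_contra hv
      obtain ⟨-, z, hz⟩ := hf.nondegenerate (π v) hv
      -- replace `z` by a vector in the complement
      have hz' : f (π v) (π z) = f (π v) z := by
        simp only [π, hf.bilinear.add_right, hf.bilinear.smul_right]
        have q1 : f (π v) u₁ = 0 := by rw [hf.skew, hπ₁, neg_zero]
        have q2 : f (π v) (J *ᵥ u₁) = 0 := by rw [hf.skew, hπ₂, neg_zero]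
        show f (π v) z + _ + _ = _
        rw [q1, q2]
        ring
      have h1 : ∀ w, f u₁ (J *ᵥ π w) = 0 := fun w => by rw [← neg_neg (f u₁ _), ← hJ, hπ₂, neg_zero]
      have h1' : ∀ w, f (J *ᵥ u₁) (J *ᵥ π w) = 0 := fun w => by rw [hJ, hJv, hn', hπ₁, neg_zero, neg_zero]
      set w := J *ᵥ π z with hw
      have hww : π w = w := by
        simp only [π]
        rw [hw, h1, h1']
        simp
      have h := hpolar (π v) (π w)
      rw [← hπadd, hzero, hzero, hzero, hww, hw, hJv, hn', hz'] at h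
      exact hz ((mul_eq_zero.1 (show (2 : F) * f (π v) z = 0 by linear_combination h)).resolve_left h2)
    have hspan : ∀ v, v ∈ Submodule.span F {u₁, J *ᵥ u₁} := fun v => by
      refine Submodule.mem_span_pair.2 ⟨-(f (J *ᵥ u₁) v / a), -(-(f u₁ v) / a), ?_⟩
      have h := hπzero v
      simp only [π] at h
      rw [neg_smul, neg_smul, ← neg_add, neg_eq_iff_add_eq_zero, add_comm, ← add_assoc]
      exact h
    have hfr := (Submodule.finrank_mono (show (⊤ : Submodule F (ι → F)) ≤ _ from fun v _ => hspan v)).trans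
      (finrank_span_le_card ({u₁, J *ᵥ u₁} : Set (ι → F)))
    rw [finrank_top, Module.finrank_fintype_fun_eq_card, hc, Set.toFinset_card] at hfr
    have h2c : Fintype.card ({u₁, J *ᵥ u₁} : Set (ι → F)) ≤ 2 := by
      rw [← Set.toFinset_card]
      simp only [Set.toFinset_insert, Set.toFinset_singleton]
      exact Finset.card_le_two
    omega
  obtain ⟨v₂, hv₂, hq₁, hq₂⟩ : ∃ v, f v (J *ᵥ v) = a ∧ f u₁ v = 0 ∧ f (J *ᵥ u₁) v = 0 := by
    rcases eq_or_neg_three h3 hu₁ hu₂ with h | h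
    · exact ⟨u₂, h, hp₁, hp₂⟩
    refine ⟨u₂ + J *ᵥ u₂, ?_, ?_, ?_⟩
    · rw [hpolar, hJv, hn', hn', hf.alternating, hf.skew (J *ᵥ u₂) u₂, h]
      linear_combination (-a) * h30
    · rw [hf.bilinear.add_right, hp₁, show f u₁ (J *ᵥ u₂) = -f (J *ᵥ u₁) u₂ by rw [hJ, neg_neg], hp₂]
      simp
    · rw [hf.bilinear.add_right, hp₂, hJ, hJv, hn', hp₁]
      simp
  let c : Fin 4 → ι → F := ![u₁, J *ᵥ u₁, v₂, J *ᵥ v₂]
  let e : ι ≃ Fin 4 := Fintype.equivFinOfCardEq hc
  let B : Matrix ι ι F := Matrix.of fun i k => c (e k) i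
  have hB : ∀ x : Fin 4 → F, B *ᵥ (x ∘ e) = x 0 • u₁ + x 1 • (J *ᵥ u₁) + x 2 • v₂ + x 3 • (J *ᵥ v₂) := by
    intro x
    funext i
    simp only [B, Matrix.mulVec, dotProduct, Matrix.of_apply, Function.comp_apply]
    rw [e.sum_comp (fun k => c k i * x k), Fin.sum_univ_four]
    simp [c]
    ring
  have e1 : f u₁ (J *ᵥ v₂) = 0 := by rw [← neg_neg (f u₁ _), ← hJ, hq₂, neg_zero]
  have e2 : f (J *ᵥ u₁) (J *ᵥ v₂) = 0 := by rw [hJ, hJv, hn', hq₁, neg_zero, neg_zero]
  have hform : ∀ x y : Fin 4 → F, f (B *ᵥ (x ∘ e)) (B *ᵥ (y ∘ e)) =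
      a * formOfGram (id : F → F) (-jFour F) x y := by
    intro x y
    rw [hB, hB, (four_entries (F := F)).1]
    simp only [hf.bilinear.add_left, hf.bilinear.add_right, hf.bilinear.smul_left, hf.bilinear.smul_right,
      hf.alternating, formOfGram, Fin.sum_univ_four, hf.skew (J *ᵥ u₁) u₁, hf.skew v₂ u₁, hf.skew v₂ (J *ᵥ u₁),
      hf.skew (J *ᵥ v₂) u₁, hf.skew (J *ᵥ v₂) (J *ᵥ u₁), hf.skew (J *ᵥ v₂) v₂, hq₁, hq₂, e1, e2, hv₂, ← ha]
    simp
    ring
  have hunit : IsUnit B := by
    rw [← Matrix.mulVec_injective_iff_isUnit]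
    intro p q hpq
    obtain ⟨x, rfl⟩ : ∃ x : Fin 4 → F, x ∘ e = p := ⟨p ∘ e.symm, by funext i; simp⟩
    obtain ⟨x', rfl⟩ : ∃ x' : Fin 4 → F, x' ∘ e = q := ⟨q ∘ e.symm, by funext i; simp⟩
    have h : ∀ y, a * formOfGram (id : F → F) (-jFour F) x y = a * formOfGram (id : F → F) (-jFour F) x' y :=
      fun y => by rw [← hform, ← hform, show B *ᵥ (x ∘ ⇑e) = B *ᵥ (x' ∘ ⇑e) from hpq]
    have hk : ∀ k, x k = x' k := by
      intro k
      have h0 := mul_left_cancel₀ hu₁ (h (Pi.single 0 1))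
      have h1 := mul_left_cancel₀ hu₁ (h (Pi.single 1 1))
      have h2 := mul_left_cancel₀ hu₁ (h (Pi.single 2 1))
      have h4 := mul_left_cancel₀ hu₁ (h (Pi.single 3 1))
      rw [(four_entries (F := F)).1] at h0 h1 h2 h4
      simp [formOfGram, Fin.sum_univ_four] at h0 h1 h2 h4
      fin_cases k <;> (first | exact h0 | exact h1 | exact h2 | exact h4 | linear_combination h0 | linear_combination h1 | linear_combination h2 | linear_combination h4 | linear_combination -h0 | linear_combination -h1 | linear_combination -h2 | linear_combination -h4)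
    rw [funext hk]
  refine ⟨e, hunit.unit, a, hu₁, ?_, fun x y => hform x y⟩
  refine Matrix.toLin'.injective (LinearMap.ext fun v => ?_)
  rw [Matrix.toLin'_apply, Matrix.toLin'_apply]
  obtain ⟨z, rfl⟩ : ∃ z, unc e hunit.unit z = v := ⟨_, unc_vecCoords e hunit.unit v⟩
  rw [matCoords_unc, show unc e hunit.unit (jFour F *ᵥ z) = B *ᵥ ((jFour F *ᵥ z) ∘ e) from rfl,
    show unc e hunit.unit z = B *ᵥ (z ∘ e) from rfl, hB, hB, (four_entries (F := F)).1]
  simp only [Matrix.mulVec_add, Matrix.mulVec_smul, hJv]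
  simp [Matrix.mulVec, dotProduct, Fin.sum_univ_four]
  abel

/-- Over three elements a unitary structure on four dimensions lies in the normaliser of a symplectic-type group. -/
theorem sympType_of_unitField_three (h3 : Fintype.card F = 3) {f : (ι → F) → (ι → F) → F} (hf : IsSymplecticForm f)
    (hc : Fintype.card ι = 4) {K : Subalgebra F (Matrix ι ι F)} (hK : IsFieldSubalgebra 2 K)
    (hac : IsAdjointClosedFor f K) (hns : ¬ IsSelfAdjointFor f K) :
    ∃ (p : ℕ) (R : Subgroup (GL ι F)), p.Prime ∧ Fintype.card F = p ∧ IsSymplecticTypeGroup 2 R ∧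
      ActsAbsolutelyIrreducibly (matrixSet R) ∧
      (∀ x ∈ R, ∀ u v, f ((x : Matrix ι ι F) *ᵥ u) ((x : Matrix ι ι F) *ᵥ v) = f u v) ∧
      Nat.card R = 32 ∧ Nat.card (Subgroup.center R) = 2 ∧ IsOfMinusType 2 R ∧
      (∃ x ∈ R, x * x = 1 ∧ x ∉ scalars ι F) ∧
      ∀ g ∈ subalgebraNormalizer K, (∀ u v, f ((g : Matrix ι ι F) *ᵥ u) ((g : Matrix ι ι F) *ᵥ v) = f u v) →
        g ∈ subgroupNormalizer R := by
  classical
  haveI : Nonempty ι := Fintype.card_pos_iff.1 (by omega)
  have h2 := two_ne_of_three h3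
  have h30 := three_eq_zero h3
  obtain ⟨hJ4, hQ4, hP4, hX4⟩ := four_entries (F := F)
  obtain ⟨J, hJK, hJJ, hJadj, hJu⟩ := exists_root_three h3 hf hK hac hns
  obtain ⟨e, P, a, ha, hJc, hform⟩ := exists_unitary_basis_three h3 hf hc hJJ hJadj
  set Φ := matCoords e P with hΦ
  have hiso : ∀ M : Matrix (Fin 4) (Fin 4) F, (∀ u v, f (Φ M *ᵥ u) (Φ M *ᵥ v) = f u v) ↔
      Mᵀ * jFour F * M = jFour F := by
    intro M
    constructor
    · intro h
      have h1 : Mᵀ * (-jFour F) * M = -jFour F := gram_ext fun x y => by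
        have h1 := h (unc e P x) (unc e P y)
        rw [hΦ, matCoords_unc, matCoords_unc, hform, hform, formOfGram_mulVec_left, formOfGram_mulVec_right] at h1
        exact mul_left_cancel₀ ha h1
      simpa using h1
    · intro h u v
      rw [← unc_vecCoords e P u, ← unc_vecCoords e P v, hΦ, matCoords_unc, matCoords_unc, hform, hform,
        formOfGram_mulVec_left, formOfGram_mulVec_right]
      rw [Matrix.mul_neg, Matrix.neg_mul, h]
  have hs4 : ∀ M : Matrix (Fin 4) (Fin 4) F, M * M = -1 → M * -M = 1 ∧ -M * M = 1 :=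
    fun M h => ⟨by rw [mul_neg, h, neg_neg], by rw [neg_mul, h, neg_neg]⟩
  have r4 : rotTwo F * rotTwo F = -1 ∧ (!![1, 1; 1, -1] : Matrix (Fin 2) (Fin 2) F) * !![1, 1; 1, -1] = -1 := by
    constructor <;> ext i k <;> fin_cases i <;> fin_cases k <;>
      simp [rotTwo, Matrix.mul_apply, Fin.sum_univ_two]
    all_goals linear_combination h30
  have jj : jFour F * jFour F = -1 := by
    rw [hJ4]; ext i k; fin_cases i <;> fin_cases k <;> simp [Matrix.mul_apply, Fin.sum_univ_four]
  have qq : qFour F * qFour F = -1 := by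
    rw [hQ4]; ext i k; fin_cases i <;> fin_cases k <;> simp [Matrix.mul_apply, Fin.sum_univ_four]
  have pp : pFour F * pFour F = -1 := by
    rw [hP4]; ext i k; fin_cases i <;> fin_cases k <;> simp [Matrix.mul_apply, Fin.sum_univ_four]
  have xx : xFour F * xFour F = 1 := by
    rw [hX4]; ext i k; fin_cases i <;> fin_cases k <;> simp [Matrix.mul_apply, Fin.sum_univ_four]
    all_goals linear_combination -h30
  let mk : ∀ M : Matrix (Fin 4) (Fin 4) F, M * M = -1 → GL ι F := fun M h =>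
    glCoords e P ⟨M, -M, (hs4 M h).1, (hs4 M h).2⟩
  set q₀ := mk (qFour F) qq with hq₀
  set q₁ := mk (pFour F) pp with hq₁
  set j := mk (jFour F) jj with hj
  set x : GL ι F := glCoords e P ⟨xFour F, xFour F, xx, xx⟩ with hx
  have vq₀ : (q₀ : Matrix ι ι F) = Φ (qFour F) := glCoords_val _ _ _
  have vq₁ : (q₁ : Matrix ι ι F) = Φ (pFour F) := glCoords_val _ _ _
  have vj : (j : Matrix ι ι F) = Φ (jFour F) := glCoords_val _ _ _
  have vx : (x : Matrix ι ι F) = Φ (xFour F) := glCoords_val _ _ _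
  have vneg : ((scl ι (-1 : Fˣ) : GL ι F) : Matrix ι ι F) = Φ (-1) := by rw [scl_val, map_neg, map_one]; simp
  have hcomp : ∀ (u : Fˣ) (A B : GL ι F) (MA MB : Matrix (Fin 4) (Fin 4) F), (A : Matrix ι ι F) = Φ MA →
      (B : Matrix ι ι F) = Φ MB → MA * MB = (u : F) • (MB * MA) → SignComm u A B := by
    intro u A B MA MB hA hB h
    apply Units.ext
    rw [scl_mul_val, Units.val_mul, Units.val_mul, hA, hB, ← map_mul, h, map_smul, map_mul]
  have hpairs : QuatPairs f q₀ q₁ j x := by
    refine ⟨Units.ext ?_, Units.ext ?_, Units.ext ?_, Units.ext ?_, hcomp _ _ _ _ _ vq₁ vq₀ ?_,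
      hcomp _ _ _ _ _ vx vj ?_, hcomp _ _ _ _ _ vq₀ vj ?_, hcomp _ _ _ _ _ vq₀ vx ?_, hcomp _ _ _ _ _ vq₁ vj ?_,
      hcomp _ _ _ _ _ vq₁ vx ?_, ?_⟩
    · rw [Units.val_mul, vq₀, ← map_mul, qq, vneg]
    · rw [Units.val_mul, vq₁, ← map_mul, pp, vneg]
    · rw [Units.val_mul, vj, ← map_mul, jj, vneg]
    · rw [Units.val_mul, vx, ← map_mul, xx, map_one, Units.val_one]
    iterate 6
      · simp only [hJ4, hQ4, hP4, hX4]
        ext i k; fin_cases i <;> fin_cases k <;> simp [Matrix.mul_apply, Fin.sum_univ_four]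
    intro y hy
    simp only [Set.mem_insert_iff, Set.mem_singleton_iff] at hy
    rcases hy with rfl | rfl | rfl | rfl
    · rw [vq₀, hiso, hQ4, hJ4]
      ext i k; fin_cases i <;> fin_cases k <;> simp [Matrix.mul_apply, Fin.sum_univ_four]
    · rw [vq₁, hiso, hP4, hJ4]
      ext i k; fin_cases i <;> fin_cases k <;> simp [Matrix.mul_apply, Fin.sum_univ_four]
    · rw [vj, hiso, hJ4]
      ext i k; fin_cases i <;> fin_cases k <;> simp [Matrix.mul_apply, Fin.sum_univ_four]
    · rw [vx, hiso, hX4, hJ4]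
      ext i k; fin_cases i <;> fin_cases k <;> simp [Matrix.mul_apply, Fin.sum_univ_four]
      all_goals first | linear_combination h30 | linear_combination -h30
  obtain ⟨p, R, hp, -, hFp, hst, habs, hRiso, hcard, hcen, hminus, hinv, hN⟩ |
      ⟨F₁, s, -, -, hs, hcF, -, -, -⟩ := sympType_of_pairs hf h2 hc hpairs
  swap
  · exfalso
    rw [h3] at hcF
    exact Nat.Prime.not_prime_pow hs.two_le (hcF ▸ Nat.prime_three)
  refine ⟨p, R, hp, hFp, hst, habs, hRiso, by rw [hcard]; norm_num, hcen, hminus, hinv,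
    fun g hg hgi => hN ⟨⟨1, fun u v => by rw [Units.val_one, one_mul]; exact hgi u v⟩, ?_⟩⟩
  set N := pairsGroup q₀ q₁ j x with hNdef
  -- elements of the coordinate matrices in the group
  have hgenN : ∀ y ∈ ({q₀, q₁, j, x} : Set (GL ι F)), y ∈ N :=
    fun y hy => Subgroup.mem_sup_left (Subgroup.subset_closure hy)
  have hsmul : ∀ (A B : GL ι F) (c : F), c ≠ 0 → A ∈ N → (B : Matrix ι ι F) = c • (A : Matrix ι ι F) → B ∈ N := by
    intro A B c hc0 hA hB
    have : B = scl ι (Units.mk0 c hc0) * A := Units.ext (by rw [scl_mul_val, hB, Units.val_mk0])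
    rw [this]
    exact mul_mem (Subgroup.mem_sup_right (scl_mem _)) hA
  -- conjugates of the complex structure
  have hgJ : ∀ h : GL ι F, h ∈ subalgebraNormalizer K →
      h * j * h⁻¹ = j ∨ h * j * h⁻¹ = scl ι (-1) * j := by
    intro h hh
    have hk : ((h * j * h⁻¹ : GL ι F) : Matrix ι ι F) ∈ K := by
      rw [Units.val_mul, Units.val_mul]
      exact (hh _).1 (by rw [vj, hJc]; exact hJK)
    have hsq : ((h * j * h⁻¹ : GL ι F) : Matrix ι ι F) * ((h * j * h⁻¹ : GL ι F) : Matrix ι ι F) = -1 := by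
      rw [← Units.val_mul, show h * j * h⁻¹ * (h * j * h⁻¹) = h * (j * j) * h⁻¹ by simp [mul_assoc],
        hpairs.sq_j, ← (scl_comm (-1 : Fˣ) h).eq, mul_inv_cancel_right, scl_val]
      simp
    rcases hJu _ hk hsq with h1 | h1
    · exact Or.inl (Units.ext (by rw [h1, vj, hJc]))
    · exact Or.inr (Units.ext (by rw [h1, scl_mul_val, vj, hJc]; simp))
  -- conjugates of the quaternions
  have hgQ : ∀ h : GL ι F, h ∈ subalgebraNormalizer K →
      (∀ u v, f ((h : Matrix ι ι F) *ᵥ u) ((h : Matrix ι ι F) *ᵥ v) = f u v) →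
      ∀ q, q = q₀ ∨ q = q₁ → h * q * h⁻¹ ∈ N ∧ Commute (h * q * h⁻¹) x := by
    intro h hh hhi q hq
    have hqiso : ∀ u v, f ((q : Matrix ι ι F) *ᵥ u) ((q : Matrix ι ι F) *ᵥ v) = f u v := by
      rcases hq with rfl | rfl <;> exact hpairs.isometry _ (by simp)
    have hqj : Commute q j := by
      rcases hq with rfl | rfl
      · simpa [SignComm, Commute, SemiconjBy] using hpairs.comm_q₀j
      · simpa [SignComm, Commute, SemiconjBy] using hpairs.comm_q₁j
    have hqq : q * q = scl ι (-1) := by rcases hq with rfl | rfl; exacts [hpairs.sq_q₀, hpairs.sq_q₁]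
    set y := h * q * h⁻¹ with hy
    obtain ⟨M, hM⟩ := Φ.surjective (y : Matrix ι ι F)
    have hyj : Commute y j := by
      have h1 : Commute y (h * j * h⁻¹) := hqj.map (MulAut.conj h)
      rcases hgJ h hh with h5 | h5 <;> rw [h5] at h1
      · exact h1
      · have := (scl_comm (-1 : Fˣ) y).symm.mul_right h1
        rwa [← mul_assoc, ← map_mul, neg_one_mul, neg_neg, map_one, one_mul] at this
    have hyy : y * y = scl ι (-1) := by
      rw [hy, show h * q * h⁻¹ * (h * q * h⁻¹) = h * (q * q) * h⁻¹ by simp [mul_assoc], hqq,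
        ← (scl_comm (-1 : Fˣ) h).eq, mul_inv_cancel_right]
    have hyi : ∀ u v, f ((y : Matrix ι ι F) *ᵥ u) ((y : Matrix ι ι F) *ᵥ v) = f u v := by
      intro u v
      have hh' : ∀ u v, f (((h⁻¹ : GL ι F) : Matrix ι ι F) *ᵥ u) (((h⁻¹ : GL ι F) : Matrix ι ι F) *ᵥ v) = f u v :=
        fun u v => by rw [← hhi, Matrix.mulVec_mulVec, Matrix.mulVec_mulVec, ← Units.val_mul, mul_inv_cancel,
          Units.val_one, Matrix.one_mulVec, Matrix.one_mulVec]
      rw [hy, Units.val_mul, Units.val_mul, ← Matrix.mulVec_mulVec, ← Matrix.mulVec_mulVec, ← Matrix.mulVec_mulVec,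
        ← Matrix.mulVec_mulVec, hhi, hqiso, hh']
    have hMM : M * M = -1 := Φ.injective (by rw [map_mul, hM, ← Units.val_mul, hyy, vneg])
    have hMj : M * jFour F = jFour F * M := Φ.injective (by
      rw [map_mul, map_mul, hM, ← vj, ← Units.val_mul, ← Units.val_mul, hyj.eq])
    have hMi : Mᵀ * jFour F * M = jFour F := (hiso M).1 (by rw [hM]; exact hyi)
    have hMs : Mᵀ = -M := by
      have h1 : Mᵀ * jFour F = jFour F * -M := by
        calc Mᵀ * jFour F = Mᵀ * jFour F * (M * -M) := by rw [(hs4 M hMM).1, mul_one]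
          _ = _ := by rw [← mul_assoc, hMi]
      calc Mᵀ = Mᵀ * jFour F * -jFour F := by rw [mul_assoc, (hs4 _ jj).1, mul_one]
        _ = _ := by rw [h1, mul_assoc, neg_mul_neg, hMj, ← mul_assoc, jj, neg_one_mul]
    obtain ⟨c, hc0, hcases⟩ := skew_four_cases h3 hMj hMs hMM
    have hqx : Commute q₀ x ∧ Commute q₁ x := ⟨by simpa [SignComm, Commute, SemiconjBy] using hpairs.comm_q₀x,
      by simpa [SignComm, Commute, SemiconjBy] using hpairs.comm_q₁x⟩
    have hbuild : ∀ (A : GL ι F) (T : Matrix (Fin 4) (Fin 4) F), (A : Matrix ι ι F) = Φ T → A ∈ N → Commute A x →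
        M = c • T → y ∈ N ∧ Commute y x := by
      intro A T hA hAN hAx hMT
      have hyA : y = scl ι (Units.mk0 c hc0) * A :=
        Units.ext (by rw [scl_mul_val, hA, ← hM, hMT, map_smul, Units.val_mk0])
      rw [hyA]
      exact ⟨mul_mem (Subgroup.mem_sup_right (scl_mem _)) hAN, (scl_comm _ x).mul_left hAx⟩
    rcases hcases with h1 | h1 | h1 | h1
    · exfalso
      -- the quaternion would be conjugate to a multiple of the complex structure
      have hyA : y = scl ι (Units.mk0 c hc0) * j :=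
        Units.ext (by rw [scl_mul_val, vj, ← hM, h1, map_smul, Units.val_mk0])
      have hq' : q = scl ι (Units.mk0 c hc0) * (h⁻¹ * j * h) := by
        rw [show q = h⁻¹ * y * h by simp [hy, mul_assoc], hyA, ← mul_assoc h⁻¹, ← (scl_comm _ h⁻¹).eq]
        simp only [mul_assoc]
      obtain ⟨s, hs⟩ : ∃ s : Fˣ, q = scl ι s * j := by
        rcases hgJ h⁻¹ (inv_mem hh) with h5 | h5 <;> rw [inv_inv] at h5 <;> rw [h5] at hq'
        · exact ⟨_, hq'⟩
        · exact ⟨_, hq'.trans (by rw [← mul_assoc, ← map_mul])⟩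
      have h6 := congrArg Units.val hs
      rw [scl_mul_val, vj] at h6
      have hz : q = q₀ ∨ q = q₁ := hq
      rcases hz with rfl | rfl
      · rw [vq₀, ← map_smul] at h6
        have := congrFun (congrFun (Φ.injective h6) 2) 0
        simp [hQ4, hJ4] at this
      · rw [vq₁, ← map_smul] at h6
        have h7 := Φ.injective h6
        have t1 := congrFun (congrFun h7 1) 0
        have t2 := congrFun (congrFun h7 2) 3
        simp [hP4, hJ4] at t1 t2
        apply h2
        linear_combination t2 + t1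
    · exact hbuild q₀ _ vq₀ (hgenN _ (by simp)) hqx.1 h1
    · exact hbuild q₁ _ vq₁ (hgenN _ (by simp)) hqx.2 h1
    · exact hbuild (q₀ * q₁) _ (by rw [Units.val_mul, vq₀, vq₁, map_mul])
        (mul_mem (hgenN _ (by simp)) (hgenN _ (by simp))) (hqx.1.mul_left hqx.2) h1
  refine mem_normalizer_of_conj ?_
  intro y hy
  have hle : N ≤ N.comap (MulAut.conj g).toMonoidHom := by
    refine sup_le ((Subgroup.closure_le _).2 ?_) ?_
    swap
    · intro z hz
      exact Subgroup.mem_sup_right (scalars_normal.conj_mem _ hz g)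
    rintro z (rfl | rfl | rfl | rfl)
    · exact (hgQ g hg hgi _ (Or.inl rfl)).1
    · exact (hgQ g hg hgi _ (Or.inr rfl)).1
    · show g * j * g⁻¹ ∈ N
      rcases hgJ g hg with h | h <;> rw [h]
      · exact hgenN _ (by simp)
      · exact mul_mem (Subgroup.mem_sup_right (scl_mem _)) (hgenN _ (by simp))
    · show g * x * g⁻¹ ∈ N
      have hgi' : ∀ u v, f (((g⁻¹ : GL ι F) : Matrix ι ι F) *ᵥ u) (((g⁻¹ : GL ι F) : Matrix ι ι F) *ᵥ v) = f u v :=
        fun u v => by rw [← hgi, Matrix.mulVec_mulVec, Matrix.mulVec_mulVec, ← Units.val_mul, mul_inv_cancel,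
          Units.val_one, Matrix.one_mulVec, Matrix.one_mulVec]
      have hcm : ∀ q, q = q₀ ∨ q = q₁ → Commute (g * x * g⁻¹) q := by
        intro q hq
        have h1 := ((hgQ g⁻¹ (inv_mem hg) hgi' q hq).2.symm).map (MulAut.conj g)
        simpa [mul_assoc] using h1
      obtain ⟨M, hM⟩ := Φ.surjective ((g * x * g⁻¹ : GL ι F) : Matrix ι ι F)
      have hMq : M * qFour F = qFour F * M := Φ.injective (by
        rw [map_mul, map_mul, hM, ← vq₀, ← Units.val_mul, ← Units.val_mul, (hcm _ (Or.inl rfl)).eq])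
      have hMp : M * pFour F = pFour F * M := Φ.injective (by
        rw [map_mul, map_mul, hM, ← vq₁, ← Units.val_mul, ← Units.val_mul, (hcm _ (Or.inr rfl)).eq])
      have hMi : Mᵀ * jFour F * M = jFour F := (hiso M).1 (by
        intro u v
        rw [hM, Units.val_mul, Units.val_mul, ← Matrix.mulVec_mulVec, ← Matrix.mulVec_mulVec,
          ← Matrix.mulVec_mulVec, ← Matrix.mulVec_mulVec, hgi, hpairs.isometry x (by simp), hgi'])
      obtain ⟨c, hc0, h1 | h1 | h1 | h1⟩ := centralizer_four_cases h3 hMq hMp hMi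
      · exact hsmul 1 _ c hc0 (one_mem _) (by rw [← hM, h1, map_smul, map_one, Units.val_one])
      · exact hsmul j _ c hc0 (hgenN _ (by simp)) (by rw [← hM, h1, map_smul, vj])
      · exact hsmul x _ c hc0 (hgenN _ (by simp)) (by rw [← hM, h1, map_smul, vx])
      · exact hsmul (j * x) _ c hc0 (mul_mem (hgenN _ (by simp)) (hgenN _ (by simp)))
          (by rw [← hM, h1, map_smul, Units.val_mul, vj, vx, map_mul])
  exact hle hy

end FormAsch

end H51
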